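import Mathlib
import Cfsg.Agent.FGS.Kegel
import Cfsg.Agent.FGS.Basic
import Cfsg.Agent.FGS.Basic2
import Cfsg.Agent.H2.Frobenius
import Cfsg.Agent.Core.Fitting
import Cfsg.Agent.Core.SylowOf

set_option autoImplicit false
set_option linter.unusedSectionVars false

/-! Conjugation invariant partitions of finite groups. -/

namespace Cfsg.Agent.Part

open Subgroup
open scoped Pointwise

/-- A non-trivial conjugation invariant partition; `c g` is the member containing `g ≠ 1`. -/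
structure Prt (G : Type*) [Group G] where
  c : G → Subgroup G
  mem : ∀ g, g ∈ c g
  eq : ∀ {g h : G}, g ≠ 1 → h ≠ 1 → h ∈ c g → c h = c g
  ne_top : ∀ {g : G}, g ≠ 1 → c g ≠ ⊤
  conj : ∀ (x : G) {g h : G}, g ≠ 1 → h ∈ c g → x * h * x⁻¹ ∈ c (x * g * x⁻¹)

variable {G : Type*} [Group G]

theorem exists_prt (S : Set (Subgroup G)) (hS2 : ∃ H ∈ S, ∃ K ∈ S, H ≠ K)
    (hS1 : ∀ H ∈ S, H ≠ ⊥) (hpart : ∀ g : G, g ≠ 1 → ∃! H : Subgroup G, H ∈ S ∧ g ∈ H) :
    ∃ P : Prt G, ∀ g, g ≠ 1 → ∃ H ∈ S, P.c g ≤ H := by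
  classical
  choose! s hs hu using hpart
  have hne : ∀ g x : G, g ≠ 1 → x⁻¹ * g * x ≠ 1 := fun g x hg e => hg (by
    have : g = x * (x⁻¹ * g * x) * x⁻¹ := by group
    rw [this, e]; group)
  let c : G → Subgroup G := fun g => if g = 1 then ⊤ else
    ⨅ x : G, (s (x⁻¹ * g * x)).comap (MulAut.conj x⁻¹).toMonoidHom
  have hc : ∀ g, g ≠ 1 → ∀ h, h ∈ c g ↔ ∀ x : G, x⁻¹ * h * x ∈ s (x⁻¹ * g * x) := fun g hg h => by
    simp [c, hg, mem_iInf]
  refine ⟨⟨c, fun g => ?_, fun {g h} hg hh hm => ?_, fun {g} hg e => ?_, fun x {g h} hg hm => ?_⟩,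
    fun g hg => ⟨s g, (hs g hg).1, fun h hh => by simpa using (hc g hg h).1 hh 1⟩⟩
  · by_cases hg : g = 1
    · simp [c, hg]
    · exact (hc g hg g).2 fun x => (hs _ (hne g x hg)).2
  · have key : ∀ x : G, s (x⁻¹ * g * x) = s (x⁻¹ * h * x) := fun x =>
      hu _ (hne h x hh) _ ⟨(hs _ (hne g x hg)).1, (hc g hg h).1 hm x⟩
    ext k
    rw [hc g hg, hc h hh]
    simp only [key]
  · obtain ⟨H, hH, K, hK, hHK⟩ := hS2
    have htop : s g = ⊤ := eq_top_iff.2 fun h _ => by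
      simpa using (hc g hg h).1 (e ▸ mem_top h) 1
    have key : ∀ L ∈ S, L = ⊤ := fun L hL => by
      obtain ⟨⟨y, hy⟩, hy1⟩ := (ne_bot_iff_exists_ne_one).1 (hS1 L hL)
      have hy1' : y ≠ 1 := fun e => hy1 (Subtype.ext e)
      rw [hu y hy1' L ⟨hL, hy⟩, ← hu y hy1' ⊤ ⟨htop ▸ (hs g hg).1, mem_top y⟩]
    exact hHK ((key H hH).trans (key K hK).symm)
  · have hg' : x * g * x⁻¹ ≠ 1 := by rwa [Ne, conj_eq_one_iff]
    refine (hc _ hg' _).2 fun y => ?_
    have e : ∀ k : G, y⁻¹ * (x * k * x⁻¹) * y = (x⁻¹ * y)⁻¹ * k * (x⁻¹ * y) := fun k => by group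
    rw [e, e]
    exact (hc g hg h).1 hm (x⁻¹ * y)

theorem exists_mem_comm_of_normalizer [Finite G] {p : ℕ} [Fact p.Prime] {V : Subgroup G}
    (hV : IsPGroup p V) (h0 : V ≠ ⊥) {P : Subgroup G} (hP : IsPGroup p P)
    (hn : P ≤ normalizer (V : Set G)) : ∃ v ∈ V, v ≠ 1 ∧ ∀ x ∈ P, x * v = v * x := by
  letI : MulAction P V := MulAction.compHom V (V.normalizerMonoidHom.comp (inclusion hn))
  have hd : p ∣ Nat.card V := Core.prime_dvd_card_of_isPGroup hV h0
  obtain ⟨v, hv, h1⟩ := hP.exists_fixed_point_of_prime_dvd_card_of_fixed_point V hd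
    (a := (1 : V)) (fun x => map_one (V.normalizerMonoidHom (inclusion hn x)))
  refine ⟨v, v.2, fun e => h1 (Subtype.ext e.symm), fun x hx => ?_⟩
  have := congrArg Subtype.val (hv ⟨x, hx⟩)
  exact mul_inv_eq_iff_eq_mul.1 this

/-- A group with a proper non-trivial normal subgroup containing the centralisers of its
non-identity elements is a Frobenius group. -/
theorem frobenius_of_normal [Finite G] {N : Subgroup G} [N.Normal] (h0 : N ≠ ⊥) (h1 : N ≠ ⊤)
    (h : ∀ y, y ∉ N → ∀ x ∈ N, x * y = y * x → x = 1) :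
    ∃ H : Subgroup G, IsFrobeniusComplement H ∧ N.IsComplement' H := by
  have hc : (Nat.card N).Coprime N.index := by
    by_contra hc
    obtain ⟨p, hp, h2, h3⟩ := Nat.Prime.not_coprime_iff_dvd.1 hc
    have := Fact.mk hp
    obtain ⟨P⟩ : Nonempty (Sylow p G) := inferInstance
    have hs := Core.isSylowOf_sylow_inf_normal P N
    obtain ⟨v, hv, hv1, hv2⟩ := exists_mem_comm_of_normalizer hs.isPGroup (hs.ne_bot h2) P.isPGroup'
      (Core.le_normalizer_inf le_normalizer (le_normalizer_of_normal))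
    have hle : (P : Subgroup G) ≤ N := fun y hy => by
      by_contra hy'
      exact hv1 (h y hy' v hv.2 (hv2 y hy).symm)
    exact P.not_dvd_index (h3.trans (index_dvd_of_le hle))
  obtain ⟨H, hH⟩ := exists_right_complement'_of_coprime hc
  have hH0 : H ≠ ⊥ := by
    rintro rfl
    exact h1 (isComplement'_bot_right.1 hH)
  refine ⟨H, (H2.Frob.iff_semiregular hH h0 hH0).2 fun y hy hy1 => eq_bot_iff.2 fun x hx => ?_, hH⟩
  refine h y (fun hy' => hy1 ?_) x hx.1 (mem_centralizer_singleton_iff.1 hx.2)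
  exact (disjoint_def.1 hH.disjoint) hy' hy

namespace Prt

variable (P : Prt G) {g h x y : G}

theorem zpowers_le (g : G) : zpowers g ≤ P.c g := Subgroup.zpowers_le.2 (P.mem g)

theorem eq_of_mem (hg : g ≠ 1) (hh : h ≠ 1) (hx : x ≠ 1) (h1 : x ∈ P.c g) (h2 : x ∈ P.c h) :
    P.c g = P.c h := (P.eq hg hx h1).symm.trans (P.eq hh hx h2)

theorem mem_of_pow (hg : g ≠ 1) {n : ℕ} (h1 : h ^ n ∈ P.c g) (h2 : h ^ n ≠ 1) : h ∈ P.c g := by
  have hh : h ≠ 1 := by rintro rfl; exact h2 (one_pow n)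
  rw [P.eq_of_mem hg hh h2 h1 (pow_mem (P.mem h) n)]
  exact P.mem h

theorem pow_eq_one (hg : g ≠ 1) {n : ℕ} (h1 : h ^ n ∈ P.c g) (h2 : h ∉ P.c g) : h ^ n = 1 := by
  by_contra e
  exact h2 (P.mem_of_pow hg h1 e)

theorem symm (hg : g ≠ 1) (hh : h ≠ 1) (h1 : h ∈ P.c g) : g ∈ P.c h := by
  rw [P.eq hg hh h1]; exact P.mem g

theorem ne_one (h2 : h ∉ P.c g) : h ≠ 1 := by
  rintro rfl; exact h2 (one_mem _)

theorem pow_order (hg : g ≠ 1) (hc : Commute g h) (hn : h ∉ P.c g) : h ^ orderOf g = 1 := by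
  have hh := P.ne_one hn
  by_contra e
  have h1 : (g * h) ^ orderOf g = h ^ orderOf g := by rw [hc.mul_pow, pow_orderOf_eq_one, one_mul]
  have h2 : g * h ∈ P.c h := P.mem_of_pow hh (h1 ▸ pow_mem (P.mem h) _) (h1 ▸ e)
  exact hn (P.symm hh hg ((mul_mem_cancel_right (P.mem h)).1 h2))

theorem order_eq (hg : g ≠ 1) (hc : Commute g h) (hn : h ∉ P.c g) : orderOf h = orderOf g :=
  Nat.dvd_antisymm (orderOf_dvd_of_pow_eq_one (P.pow_order hg hc hn))
    (orderOf_dvd_of_pow_eq_one (P.pow_order (P.ne_one hn) hc.symm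
      fun e => hn (P.symm (P.ne_one hn) hg e)))

theorem order_prime [Finite G] (hg : g ≠ 1) (hc : Commute g h) (hn : h ∉ P.c g) :
    (orderOf g).Prime := by
  obtain ⟨p, j, hp, -, hj⟩ := FGS.exists_pow_orderOf_prime hg
  have h1 : g ^ j ≠ 1 := FGS.ne_one_of_orderOf_prime hp hj
  have h2 := P.order_eq h1 (hc.pow_left j) (by rwa [P.eq hg h1 (pow_mem (P.mem g) j)])
  rwa [← P.order_eq hg hc hn, h2, hj]

theorem mem_of_comm (hg : g ≠ 1) (hc : Commute g h) (ho : orderOf h ≠ orderOf g) : h ∈ P.c g := by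
  by_contra hn
  exact ho (P.order_eq hg hc hn)

theorem mem_of_coprime (hg : g ≠ 1) (hc : Commute g h) (ho : (orderOf h).Coprime (orderOf g)) :
    h ∈ P.c g := by
  by_contra hn
  rw [P.order_eq hg hc hn, Nat.coprime_self, orderOf_eq_one_iff] at ho
  exact hg ho

theorem conj_iff (hg : g ≠ 1) : x * h * x⁻¹ ∈ P.c (x * g * x⁻¹) ↔ h ∈ P.c g := by
  refine ⟨fun e => ?_, P.conj x hg⟩
  have := P.conj x⁻¹ (by rwa [Ne, conj_eq_one_iff]) e
  convert this using 2 <;> group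

theorem mem_conj (hg : g ≠ 1) : h ∈ P.c (x * g * x⁻¹) ↔ x⁻¹ * h * x ∈ P.c g := by
  rw [← P.conj_iff (x := x) hg]
  congr! 1; group

theorem mem_norm (hg : g ≠ 1) (hh : h ≠ 1) (h1 : h ∈ P.c g) (h2 : x * h * x⁻¹ ∈ P.c g) :
    x ∈ normalizer (P.c g : Set G) := by
  have h3 : P.c (x * h * x⁻¹) = P.c g := P.eq hg (by rwa [Ne, conj_eq_one_iff]) h2
  refine mem_normalizer_iff.2 fun k => ?_
  rw [← h3, P.conj_iff hh, h3, P.eq hg hh h1]

theorem mem_norm_of_comm (hg : g ≠ 1) (hc : x * g = g * x) : x ∈ normalizer (P.c g : Set G) :=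
  P.mem_norm hg hg (P.mem g) (by rw [hc, mul_inv_cancel_right]; exact P.mem g)

theorem normal_of_le {N : Subgroup G} [hN : N.Normal] (h0 : N ≠ ⊥) (hg : g ≠ 1) (h : N ≤ P.c g) :
    (P.c g).Normal := by
  obtain ⟨⟨y, hy⟩, hy1⟩ := (ne_bot_iff_exists_ne_one).1 h0
  exact Core.normal_of_le_normalizer fun x _ =>
    P.mem_norm hg (fun e => hy1 (Subtype.ext e)) (h hy) (h (hN.conj_mem y hy x))

/-- An involution normalising a member and outside it inverts the member. -/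
theorem inverts (hg : g ≠ 1) (hy : y ∈ normalizer (P.c g : Set G)) (hn : y ∉ P.c g)
    (h2 : y * y ∈ P.c g) (hx : x ∈ P.c g) : y * x * y⁻¹ = x⁻¹ := by
  have h3 : y * y = 1 := by rw [← sq] at h2 ⊢; exact P.pow_eq_one hg h2 hn
  have h4 : (x * y) ^ 2 = x * (y * x * y⁻¹) := by
    rw [sq, ← mul_one (x * (y * x * y⁻¹)), ← h3]; group
  have h5 : (x * y) ^ 2 = 1 := P.pow_eq_one hg
    (h4 ▸ mul_mem hx ((mem_normalizer_iff.1 hy x).1 hx))
    fun e => hn ((mul_mem_cancel_left hx).1 e)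
  exact eq_inv_of_mul_eq_one_right (h4 ▸ h5)

theorem frobenius (hg : g ≠ 1) (hn : normalizer (P.c g : Set G) ≤ P.c g) :
    IsFrobeniusComplement (P.c g) := by
  refine ⟨fun e => hg (mem_bot.1 (e ▸ P.mem g)), P.ne_top hg, fun x hx => eq_bot_iff.2 fun k hk => ?_⟩
  by_contra h1
  have h2 : x⁻¹ * k * x⁻¹⁻¹ ∈ P.c g := by simpa using FGS.mem_conj_iff.1 hk.2
  exact hx ((inv_mem_iff).1 (hn (P.mem_norm hg h1 hk.1 h2)))

theorem nilpotent [Finite G] (hg : g ≠ 1) (hn : ¬ normalizer (P.c g : Set G) ≤ P.c g) :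
    Group.IsNilpotent (P.c g) := by
  set H := P.c g
  let N := normalizer (H : Set G)
  have hHN : H ≤ N := le_normalizer
  have : (H.subgroupOf N).Normal := normal_in_normalizer
  have hne : Nat.card (N ⧸ H.subgroupOf N) ≠ 1 := fun e =>
    hn (subgroupOf_eq_top.1 (index_eq_one.1 e))
  obtain ⟨p, hp, hd⟩ := Nat.exists_prime_and_dvd hne
  have := Fact.mk hp
  obtain ⟨u, hu⟩ := exists_prime_orderOf_dvd_card' p hd
  let K : Subgroup N := (zpowers u).comap (QuotientGroup.mk' _)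
  have hK : H.subgroupOf N ≤ K := fun k hk => by
    simp only [K, mem_comap, QuotientGroup.mk'_apply]
    rw [(QuotientGroup.eq_one_iff k).2 hk]; exact one_mem _
  have hi : ((H.subgroupOf N).subgroupOf K).index = p := by
    have h1 := Core.card_comap_mk' (H.subgroupOf N) (zpowers u)
    have h2 := Core.card_mul_relIndex hK
    rw [Nat.card_zpowers, hu] at h1
    exact Nat.eq_of_mul_eq_mul_left Nat.card_pos (h2.trans h1)
  have h3 := FGS.nilpotent_of_index_prime hp K _ inferInstance hi fun k hk => by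
    have h4 : k ^ p ∈ (H.subgroupOf N).subgroupOf K := hi ▸ pow_index_mem _ k
    exact Subtype.ext (Subtype.ext (P.pow_eq_one hg h4 hk))
  exact nilpotent_of_mulEquiv ((subgroupOfEquivOfLe hK).trans (subgroupOfEquivOfLe hHN))

theorem nilpotent_of_nf [Finite G] (hF : ¬ ∃ H : Subgroup G, IsFrobeniusComplement H) (hg : g ≠ 1) :
    Group.IsNilpotent (P.c g) :=
  P.nilpotent hg fun e => hF ⟨_, P.frobenius hg e⟩

/-- The partition induced on a subgroup. -/
def sub (N : Subgroup G) (hN : ∀ g, g ≠ 1 → ¬ N ≤ P.c g) : Prt N where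
  c g := (P.c g).subgroupOf N
  mem g := P.mem g
  eq {g h} hg hh e := by
    rw [P.eq (fun e => hg (Subtype.ext e)) (fun e => hh (Subtype.ext e)) e]
  ne_top {g} hg e := hN g (fun e => hg (Subtype.ext e)) (subgroupOf_eq_top.1 e)
  conj x {g h} hg e := P.conj x (fun e => hg (Subtype.ext e)) e

end Prt

end Cfsg.Agent.Part
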