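import Mathlib
import Cfsg.Agent.Part.Basic
import Cfsg.Agent.FGS.DPi
import Cfsg.Agent.FGS.Thompson
import Cfsg.Agent.S0205
import Cfsg.Agent.H2.SubnormalCore
import Cfsg.Agent.Inv.Fus
import Cfsg.Agent.GW.Basic
import Cfsg.Agent.Classical.SmallRecog

set_option autoImplicit false
set_option linter.unusedSectionVars false

/-! Partitioned groups with non-trivial Fitting subgroup (Baer). -/

namespace Cfsg.Agent.Part

open Subgroup
open scoped Pointwise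

variable {G : Type*} [Group G] [Finite G]

theorem mul_pow_mem {M : Subgroup G} [M.Normal] {m y : G} {n : ℕ} (hm : m ∈ M) (hy : y ^ n ∈ M) :
    (m * y) ^ n ∈ M := by
  rw [← QuotientGroup.eq_one_iff] at hm hy ⊢
  rw [QuotientGroup.mk_pow] at hy
  rw [QuotientGroup.mk_pow, QuotientGroup.mk_mul, hm, one_mul, hy]

theorem coprime_pow {p q : ℕ} (hp : p.Prime) (hq : q.Prime) (h : p ≠ q) (k : ℕ) :
    (p ^ k).Coprime q := ((Nat.coprime_primes hp hq).2 h).pow_left k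

theorem key {F M V : Subgroup G} [F.Normal] [M.Normal] [V.Normal] [IsMulCommutative V] {s l : ℕ}
    [hs : Fact s.Prime] (hl : l.Prime) (hFM : ¬ M ≤ F) (hM : ∀ m ∈ M, ∃ k, m ^ s ^ k ∈ F)
    (hV : V ≤ M) (hsV : ¬ s ∣ Nat.card V) {y : G} (hy : ∀ m ∈ M, (m * y) ^ l = 1)
    (hC : ∀ a, a ∉ F → (∃ k, orderOf a = s ^ k) → ∀ v ∈ V, a * v = v * a → v = 1) : V = ⊥ := by
  obtain ⟨Q, hQ⟩ := Core.exists_isSylowOf s M
  obtain ⟨k, hk, ha⟩ := hQ.exists_mul_normalizer (g := y) (le_normalizer_of_normal (mem_top y))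
  obtain ⟨m, hm, hmF⟩ := SetLike.not_le_iff_exists.1 hFM
  obtain ⟨a, b, ha1, hb1, rfl, -, ⟨j, hj⟩, hb⟩ := FGS.exists_pPart s m
  have hbF : b ∈ F := by
    obtain ⟨i, hi⟩ := hM b (zpowers_le.2 hm hb1)
    exact Core.mem_of_pow_mem_of_coprime hi (hb.symm.pow_left i)
  obtain ⟨g, -, hg⟩ := hQ.exists_conj_le (FGS.isPGroup_zpowers hj) (zpowers_le.2 (zpowers_le.2 hm ha1))
  have hC' : V ⊓ centralizer (Q : Set G) = ⊥ := eq_bot_iff.2 fun v hv =>
    hC (g * a * g⁻¹) (fun e => hmF (mul_mem (by simpa [mul_assoc] using Normal.conj_mem ‹F.Normal› _ e g⁻¹) hbF))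
      ⟨j, by rw [← hj]; exact (MulAut.conj g).orderOf_eq a⟩ v hv.1
      (hv.2 _ (hg (H2.conj_mem_conj_smul g (mem_zpowers a))))
  refine eq_bot_iff.2 fun v hv => ?_
  have h1 := FGS.pow_card_eq_one_of_coset ha hl (fun v hv w hw => by
    have := hy (v * w * k⁻¹) (mul_mem (mul_mem (hV hv) (hQ.le hw)) (inv_mem hk))
    simpa only [mul_assoc] using this) hC' ⟨v, hv⟩
  have h2 := Nat.eq_one_of_dvd_coprimes (k := orderOf (⟨v, hv⟩ : V))
    (Core.coprime_of_isPGroup hQ.isPGroup ((Nat.Prime.coprime_iff_not_dvd hs.out).2 hsV).symm)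
    (orderOf_dvd_natCard _) (orderOf_dvd_of_pow_eq_one h1)
  exact congrArg Subtype.val (orderOf_eq_one_iff.1 h2)

theorem exists_M {F : Subgroup G} [hF : F.Normal] (h1 : F ≠ ⊤) (hC : centralizer (F : Set G) ≤ F)
    (h2 : ∀ t, t ∉ F → t * t ∈ F → t * t = 1) :
    ∃ (M : Subgroup G) (s : ℕ), M.Normal ∧ s.Prime ∧ F ≤ M ∧ ¬ M ≤ F ∧
      ∀ m ∈ M, ∃ k, m ^ s ^ k ∈ F := by
  suffices h : ∃ (N : Subgroup (G ⧸ F)) (s : ℕ), N.Normal ∧ N ≠ ⊥ ∧ s.Prime ∧ IsPGroup s N by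
    obtain ⟨N, s, hN, h0, hs, hp⟩ := h
    refine ⟨N.comap (QuotientGroup.mk' F), s, inferInstance, hs, fun x hx => ?_, fun e => h0 ?_,
      fun m hm => ?_⟩
    · rw [mem_comap, QuotientGroup.mk'_apply, (QuotientGroup.eq_one_iff x).2 hx]; exact one_mem _
    · refine eq_bot_iff.2 fun x hx => ?_
      obtain ⟨x, rfl⟩ := QuotientGroup.mk_surjective x
      exact (QuotientGroup.eq_one_iff x).2 (e hx)
    · obtain ⟨k, hk⟩ := hp ⟨_, hm⟩
      exact ⟨k, (QuotientGroup.eq_one_iff _).1 (congrArg Subtype.val hk)⟩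
  have : Nontrivial (G ⧸ F) := QuotientGroup.nontrivial_iff.2 h1
  rcases Nat.even_or_odd (Nat.card (G ⧸ F)) with h | h
  · have : Fact (Nat.Prime 2) := ⟨Nat.prime_two⟩
    obtain ⟨u, hu⟩ := exists_prime_orderOf_dvd_card' 2 h.two_dvd
    obtain ⟨t, rfl⟩ := QuotientGroup.mk_surjective u
    have inv : ∀ t, t ∉ F → t * t ∈ F → ∀ x ∈ F, t * x * t⁻¹ = x⁻¹ := fun t ht htt x hx => by
      have h3 : x * t * (x * t) = x * (t * x * t⁻¹) * (t * t) := by group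
      have h4 := h2 (x * t) (fun e => ht ((mul_mem_cancel_left hx).1 e))
        (h3 ▸ mul_mem (mul_mem hx (hF.conj_mem x hx t)) htt)
      rw [h3, h2 t ht htt, mul_one] at h4
      exact eq_inv_of_mul_eq_one_right h4
    have ht : t ∉ F := fun e => by
      rw [(QuotientGroup.eq_one_iff t).2 e, orderOf_one] at hu; omega
    have htt : t * t ∈ F := (QuotientGroup.eq_one_iff _).1 (by
      rw [QuotientGroup.mk_mul, ← sq, ← hu, pow_orderOf_eq_one])
    refine ⟨zpowers (t : G ⧸ F), 2, ?_, fun e => ht ((QuotientGroup.eq_one_iff t).1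
      (zpowers_eq_bot.1 e)), Nat.prime_two, FGS.isPGroup_zpowers (k := 1) hu⟩
    suffices h : ∀ g : G ⧸ F, g * t = t * g from ⟨fun n hn g => by
      obtain ⟨i, rfl⟩ := hn
      rw [(Commute.zpow_right (h g) i).eq, mul_inv_cancel_right]
      exact zpow_mem_zpowers _ i⟩
    intro g
    obtain ⟨g, rfl⟩ := QuotientGroup.mk_surjective g
    have h5 := inv (g * t * g⁻¹) (fun e => ht (by simpa [mul_assoc] using hF.conj_mem _ e g⁻¹))
      (by rw [conj_mul]; exact hF.conj_mem _ htt g)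
    have h6 : t⁻¹ * (g * t * g⁻¹) ∈ F := hC fun x hx => by
      have h7 := inv t ht htt x hx
      rw [← h5 x hx] at h7
      calc x * (t⁻¹ * (g * t * g⁻¹)) = t⁻¹ * (t * x * t⁻¹) * (g * t * g⁻¹) := by group
        _ = _ := by rw [h7]; group
    have h8 := QuotientGroup.eq.2 h6
    rw [QuotientGroup.mk_mul, QuotientGroup.mk_mul, QuotientGroup.mk_inv] at h8
    exact (mul_inv_eq_iff_eq_mul.1 h8.symm)
  · have := S0205.result h
    exact Core.exists_normal_pGroup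

theorem exists_V {r : ℕ} [Fact r.Prime] {x : G} (hx : x ∈ fittingSubgroup G) (ho : orderOf x = r) :
    ∃ V : Subgroup G, V.Normal ∧ V ≠ ⊥ ∧ IsMulCommutative V ∧ IsPGroup r V ∧
      V ≤ fittingSubgroup G := by
  have h1 := Core.le_pCore_of_le_fitting (FGS.isPGroup_zpowers (k := 1) (by rw [ho, pow_one]))
    (zpowers_le.2 hx)
  obtain ⟨V, p, h2, h3, h4, -, h5, -⟩ := Core.exists_minimal_normal_elementary_le (pCore r G)
    (Core.solvable_of_isPGroup (Core.pCore_isPGroup r)) fun e =>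
      FGS.ne_one_of_orderOf_prime Fact.out ho (mem_bot.1 (e ▸ h1 (mem_zpowers x)))
  exact ⟨V, h2, h3, h5.1, (Core.pCore_isPGroup r).to_le h4, h4.trans (Core.pCore_le_fitting r)⟩

theorem le_fitting_of_pow {p : ℕ} [Fact p.Prime] {M : Subgroup G} (hM : M.Normal)
    (h : ∀ m ∈ M, ∃ k, m ^ p ^ k = 1) : M ≤ fittingSubgroup G :=
  (Core.le_pCore hM fun m => (h m m.2).imp fun _ e => Subtype.ext e).trans (Core.pCore_le_fitting p)

theorem not_dvd_card {r s : ℕ} [hr : Fact r.Prime] (hs : s.Prime) (h : r ≠ s) {V : Subgroup G}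
    (hV : IsPGroup r V) : ¬ s ∣ Nat.card V := fun e =>
  h (FGS.isPGroup_iff_forall_prime.1 hV s hs e).symm

namespace Prt

variable (P : Prt G) (hnil : ∀ g : G, g ≠ 1 → Group.IsNilpotent (P.c g))
  (hH : ∀ p : ℕ, p.Prime → closure {g : G | g ^ p ≠ 1} = ⊤)
  (hF : ¬ ∃ H : Subgroup G, IsFrobeniusComplement H)
include hnil hH hF

local notation "𝐅" => fittingSubgroup G

theorem caseA1 {f : G} (hf : f ≠ 1) (hf' : f ∈ 𝐅) (hle : 𝐅 ≤ P.c f) : False := by
  have h0 : 𝐅 ≠ ⊥ := fun e => hf (mem_bot.1 (e ▸ hf'))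
  have e : P.c f = 𝐅 := le_antisymm (Core.le_fitting (P.normal_of_le h0 hf hle) (hnil f hf)) hle
  have hpow : ∀ y, y ∉ 𝐅 → ∀ n : ℕ, y ^ n ∈ 𝐅 → y ^ n = 1 := fun y hy n h =>
    P.pow_eq_one hf (e ▸ h) (e ▸ hy)
  have hc : ∀ x ∈ 𝐅, x ≠ 1 → P.c x = 𝐅 := fun x hx h1 => (P.eq hf h1 (hle hx)).trans e
  have hcomm : ∀ x ∈ 𝐅, x ≠ 1 → ∀ y, y ∉ 𝐅 → x * y = y * x →
      orderOf y = orderOf x ∧ (orderOf x).Prime := fun x hx h1 y hy h =>
    ⟨P.order_eq h1 h (by rwa [hc x hx h1]), P.order_prime h1 h (by rwa [hc x hx h1])⟩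
  have htop : 𝐅 ≠ ⊤ := e ▸ P.ne_top hf
  obtain ⟨y₀, hy₀, x₀, hx₀, h1, h2⟩ : ∃ y, y ∉ 𝐅 ∧ ∃ x ∈ 𝐅, x * y = y * x ∧ x ≠ 1 := by
    by_contra! h
    exact hF ((frobenius_of_normal h0 htop h).imp fun _ => And.left)
  obtain ⟨hyp, hp⟩ := hcomm x₀ hx₀ h2 y₀ hy₀ h1
  set p := orderOf x₀ with hpx
  have := Fact.mk hp
  obtain ⟨V, hVn, hV0, hVc, hVp, hVF⟩ := exists_V hx₀ hpx.symm
  have hp1 : ∀ u, u ∉ 𝐅 → p ∣ orderOf u → orderOf u = p := fun u hu hd => by
    by_contra hne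
    obtain ⟨j, hj⟩ := FGS.exists_pow_orderOf_eq hd
    have hj1 := FGS.ne_one_of_orderOf_prime hp hj
    have hu1 : u ≠ 1 := fun e => hu (e ▸ one_mem _)
    obtain ⟨v, hv, hv1, hv2⟩ := exists_mem_comm_of_normalizer hVp hV0
      (FGS.isPGroup_zpowers (k := 1) (hj.trans (pow_one p).symm)) le_normalizer_of_normal
    have h3 : Commute (u ^ j) (v * u * v⁻¹) := by
      have h4 : v * u ^ j * v⁻¹ = u ^ j := by rw [← hv2 _ (mem_zpowers _)]; group
      rw [← h4, ← conj_pow]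
      exact (Commute.refl _).pow_left j
    have h4 := P.mem_of_comm hj1 h3 (by rw [hj]; exact ((MulAut.conj v).orderOf_eq u).trans_ne hne)
    rw [P.eq hu1 hj1 (pow_mem (P.mem u) j)] at h4
    have h5 : v * u * v⁻¹ * u⁻¹ = 1 := by
      by_contra h5
      have h6 : v * u * v⁻¹ * u⁻¹ ∈ 𝐅 := by
        have := mul_mem (hVF hv) (Normal.conj_mem inferInstance _ (inv_mem (hVF hv)) u)
        simpa only [mul_assoc] using this
      have := P.eq hu1 h5 (mul_mem h4 (inv_mem (P.mem u)))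
      rw [hc _ h6 h5] at this
      exact hu (this ▸ P.mem u)
    obtain ⟨h6, h7⟩ := hcomm v (hVF hv) hv1 u hu
      (mul_inv_eq_iff_eq_mul.1 (mul_inv_eq_one.1 h5))
    exact hne ((Nat.prime_dvd_prime_iff_eq hp (h6 ▸ h7)).1 hd).symm
  obtain ⟨g, hg, hgp⟩ : ∃ g, g ∉ 𝐅 ∧ g ^ p ≠ 1 := by
    by_contra! h
    exact htop (eq_top_iff.2 (hH p hp ▸ (closure_le _).2 fun g hg => by_contra fun e => hg (h g e)))
  obtain ⟨q, j, hq, hqd, hj⟩ := FGS.exists_pow_orderOf_prime (x := (g : G ⧸ 𝐅))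
    fun e => hg ((QuotientGroup.eq_one_iff g).1 e)
  have hqp : p ≠ q := by
    rintro rfl
    exact hgp (hp1 g hg (hqd.trans (orderOf_map_dvd (QuotientGroup.mk' 𝐅) g)) ▸ pow_orderOf_eq_one g)
  have hy₁ : g ^ j ∉ 𝐅 := fun e =>
    FGS.ne_one_of_orderOf_prime hq hj ((QuotientGroup.eq_one_iff _).2 e)
  have hy₂ : (g ^ j) ^ q = 1 := hpow _ hy₁ q ((QuotientGroup.eq_one_iff _).1 (by
    rw [QuotientGroup.mk_pow, QuotientGroup.mk_pow, ← hj, pow_orderOf_eq_one]))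
  have hC : centralizer (𝐅 : Set G) ≤ 𝐅 := by
    intro y hy
    by_contra hy'
    obtain ⟨h3, h4⟩ := hcomm f hf' hf y hy' (hy f hf')
    have := Fact.mk h4
    refine hy' (le_fitting_of_pow (p := orderOf f) inferInstance (fun z hz => ⟨1, ?_⟩) hy)
    rw [pow_one]
    by_cases h5 : z ∈ 𝐅
    · by_cases h6 : z = 1
      · rw [h6, one_pow]
      · rw [← h3, (hcomm z h5 h6 y hy' (hy z h5)).1, pow_orderOf_eq_one]
    · rw [← (hcomm f hf' hf z h5 (hz f hf')).1, pow_orderOf_eq_one]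
  obtain ⟨M, s, hMn, hs, hFM, hMF, hM⟩ := exists_M htop hC fun t ht h => by
    rw [← sq] at h ⊢; exact hpow t ht 2 h
  have := Fact.mk hs
  have hfix : ∀ (r : ℕ) [Fact r.Prime] (W : Subgroup G), IsPGroup r W → W ≤ 𝐅 → r ≠ s →
      ∀ a, a ∉ 𝐅 → (∃ k, orderOf a = s ^ k) → ∀ v ∈ W, a * v = v * a → v = 1 := by
    rintro r hr W hW hWF hrs a ha ⟨k, hk⟩ v hv h
    by_contra h3
    obtain ⟨h4, h5⟩ := hcomm v (hWF hv) h3 a ha h.symm
    obtain ⟨i, hi⟩ := FGS.exists_orderOf_eq_of_mem hW hv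
    exact hrs (((Nat.prime_dvd_prime_iff_eq h5 hr.out).1 (h5.dvd_of_dvd_pow hi.dvd)).symm.trans
      ((Nat.prime_dvd_prime_iff_eq h5 hs).1 (h5.dvd_of_dvd_pow (h4.symm.trans hk).dvd)))
  have hout : ∀ (y : G) (l : ℕ), l.Prime → s ≠ l → y ∉ 𝐅 → y ^ l = 1 → ∀ m ∈ M,
      m * y ∉ M ∧ (m * y) ^ l ∈ M := fun y l hl hsl hy hyl m hm => by
    refine ⟨fun e => hy ?_, mul_pow_mem hm (hyl ▸ one_mem _)⟩
    obtain ⟨k, hk⟩ := hM y ((mul_mem_cancel_left hm).1 e)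
    exact Core.mem_of_pow_mem_of_coprime hk
      ((coprime_pow hs hl hsl k).coprime_dvd_right (orderOf_dvd_of_pow_eq_one hyl))
  by_cases hsp : s = p
  · have hnp : ¬ IsPGroup p 𝐅 := fun h => hMF (le_fitting_of_pow (p := p) hMn fun m hm => by
      obtain ⟨k, hk⟩ := hM m hm
      obtain ⟨i, hi⟩ := h ⟨_, hk⟩
      exact ⟨k + i, by rw [pow_add, pow_mul, ← hsp]; exact hsp ▸ congrArg Subtype.val hi⟩)
    rw [FGS.isPGroup_iff_forall_prime] at hnp
    push_neg at hnp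
    obtain ⟨r, hr, hrd, hrp⟩ := hnp
    have := Fact.mk hr
    obtain ⟨x, hx, hxr⟩ := FGS.exists_prime_orderOf_mem hr hrd
    obtain ⟨W, hWn, hW0, hWc, hWp, hWF⟩ := exists_V hx hxr
    refine hW0 (key hq hMF hM (hWF.trans hFM) (not_dvd_card hs (hsp ▸ hrp) hWp) (y := g ^ j)
      (fun m hm => ?_) (hfix r W hWp hWF (hsp ▸ hrp)))
    obtain ⟨h3, h4⟩ := hout _ q hq (hsp ▸ hqp) hy₁ hy₂ m hm
    have h5 : ¬ p ∣ orderOf (m * g ^ j) := fun e => h3 (Core.mem_of_pow_mem_of_coprime h4 (by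
      rw [hp1 _ (fun e => h3 (hFM e)) e]; exact (Nat.coprime_primes hq hp).2 hqp.symm))
    obtain ⟨k, hk⟩ := hM _ h4
    rw [← pow_mul] at hk
    exact orderOf_dvd_iff_pow_eq_one.1 (Nat.Coprime.dvd_of_dvd_mul_right
      (hsp ▸ ((Nat.Prime.coprime_iff_not_dvd hp).2 h5).symm.pow_right k)
      (orderOf_dvd_of_pow_eq_one (hpow _ (fun e => h3 (hFM e)) _ hk)))
  · refine hV0 (key hp hMF hM (hVF.trans hFM) (not_dvd_card hs (Ne.symm hsp) hVp) (y := y₀)
      (fun m hm => ?_) (hfix p V hVp hVF (Ne.symm hsp)))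
    obtain ⟨h3, h4⟩ := hout _ p hp hsp hy₀ (hyp ▸ pow_orderOf_eq_one y₀) m hm
    rw [← hp1 _ (fun e => h3 (hFM e)) (by_contra fun e => h3 (Core.mem_of_pow_mem_of_coprime h4
      ((Nat.Prime.coprime_iff_not_dvd hp).2 e))), pow_orderOf_eq_one]

theorem caseA2 (h0 : 𝐅 ≠ ⊥) (hno : ∀ g : G, g ≠ 1 → ¬ 𝐅 ≤ P.c g) :
    Nonempty (G ≃* Equiv.Perm (Fin 4)) := by
  set W := 𝐅 ⊓ centralizer (𝐅 : Set G) with hW
  have hW0 : W ≠ ⊥ := FGS.inf_centralizer_ne_bot_of_nilpotent Core.fitting_nilpotent h0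
  have hWc : IsMulCommutative W := Core.isMulCommutative_of_forall fun x hx y hy => hy.2 x hx.1
  obtain ⟨p, z₀, hp, hz₀, hz₀p⟩ : ∃ (p : ℕ) (z : G), p.Prime ∧ z ∈ W ∧ orderOf z = p := by
    obtain ⟨⟨y, hy⟩, hy1⟩ := (ne_bot_iff_exists_ne_one).1 hW0
    obtain ⟨q, j, hq, -, hj⟩ := FGS.exists_pow_orderOf_prime (x := y) fun e => hy1 (Subtype.ext e)
    exact ⟨q, _, hq, pow_mem hy j, hj⟩
  have := Fact.mk hp
  have hz₁ := FGS.ne_one_of_orderOf_prime hp hz₀p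
  have hFp : IsPGroup p 𝐅 := by
    obtain ⟨w, hw, hw'⟩ := SetLike.not_le_iff_exists.1 (hno z₀ hz₁)
    have hwp := (P.order_eq hz₁ (hz₀.2 w hw).symm hw').trans hz₀p
    rintro ⟨x, hx⟩
    obtain ⟨a, b, -, hb1, e, -, ⟨k, hk⟩, hb⟩ := FGS.exists_pPart p x
    have hbF : b ∈ 𝐅 := Subgroup.zpowers_le.2 hx hb1
    obtain rfl : b = 1 := by
      by_contra h1
      refine hw' ?_
      rw [P.eq h1 hz₁ (P.mem_of_coprime h1 (hz₀.2 b hbF) (hz₀p ▸ hb.symm))]
      exact P.mem_of_coprime h1 (FGS.commute_of_nilpotent Core.fitting_nilpotent hw hbF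
        (hwp.trans (pow_one p).symm) hb).symm (hwp ▸ hb.symm)
    exact ⟨k, Subtype.ext (by simp [e, ← hk])⟩
  have hord : ∀ x ∈ 𝐅, ∀ y : G, (orderOf y).Coprime p → (orderOf x).Coprime (orderOf y) :=
    fun x hx y hy => by
      obtain ⟨k, hk⟩ := FGS.exists_orderOf_eq_of_mem hFp hx
      rw [hk]; exact hy.symm.pow_left k
  have hA : ∀ y, y ≠ 1 → (orderOf y).Coprime p → ∀ x ∈ 𝐅, x ∈ P.c y → x = 1 := by
    intro y hy hyp x hx hxy
    by_contra hx1
    have hlt : 𝐅 ⊓ P.c y < 𝐅 := lt_of_le_of_ne inf_le_left fun e => hno y hy (e ▸ inf_le_right)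
    obtain ⟨u, hu, hu'⟩ := SetLike.exists_of_lt
      (Core.lt_inf_normalizer_of_nilpotent Core.fitting_nilpotent hlt)
    have h1 := P.mem_norm hy hx1 hxy ((mem_normalizer_iff.1 hu.2 x).1 ⟨hx, hxy⟩).2
    have h2 : u * y * u⁻¹ * y⁻¹ ∈ P.c y :=
      mul_mem ((mem_normalizer_iff.1 h1 y).1 (P.mem y)) (inv_mem (P.mem y))
    have h3 : u * y * u⁻¹ * y⁻¹ ∈ 𝐅 := by
      have h : u ∈ 𝐅 := hu.1
      have := mul_mem h (Normal.conj_mem inferInstance _ (inv_mem h) y)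
      simpa only [mul_assoc] using this
    obtain ⟨k, hk⟩ := FGS.exists_orderOf_eq_of_mem hFp h3
    have h4 : Commute (u * y * u⁻¹ * y⁻¹) y :=
      FGS.commute_of_nilpotent (hnil y hy) h2 (P.mem y) hk hyp
    have h5 := h4.mul_pow (orderOf y)
    rw [inv_mul_cancel_right, conj_pow, pow_orderOf_eq_one, mul_one, mul_one, mul_inv_cancel] at h5
    have h6 := orderOf_eq_one_iff.1 (Nat.eq_one_of_dvd_coprimes (hord _ h3 y hyp) dvd_rfl
      (orderOf_dvd_of_pow_eq_one h5.symm))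
    exact hu' ⟨hu.1, P.mem_of_coprime hy (mul_inv_eq_iff_eq_mul.1 (mul_inv_eq_one.1 h6)).symm
      (hord u hu.1 y hyp)⟩
  have hfpf : ∀ y, y ≠ 1 → (orderOf y).Coprime p → ∀ x ∈ 𝐅, y * x = x * y → x = 1 :=
    fun y hy hyp x hx h => hA y hy hyp x hx (P.mem_of_coprime hy h (hord x hx y hyp))
  have hpel : ∀ g : G, p ∣ orderOf g → ∃ k, orderOf g = p ^ k := fun g hg => by
    obtain ⟨a, b, -, -, rfl, hab, ⟨k, hk⟩, hb⟩ := FGS.exists_pPart p g
    by_cases hb1 : b = 1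
    · exact ⟨k, by rw [hb1, mul_one, hk]⟩
    have ha1 : a ≠ 1 := by
      rintro rfl
      rw [one_mul] at hg
      exact (Nat.Prime.coprime_iff_not_dvd hp).1 hb.symm hg
    obtain ⟨v, hv, hv1, hv2⟩ := exists_mem_comm_of_normalizer hFp h0 (FGS.isPGroup_zpowers hk)
      le_normalizer_of_normal
    have hco : (orderOf b).Coprime (orderOf a) := hk ▸ hb.pow_right k
    have h1 := P.mem_of_coprime ha1 hab hco
    have h2 : v * b * v⁻¹ ∈ P.c a := by
      have := P.conj v ha1 h1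
      rwa [← hv2 a (mem_zpowers a), mul_inv_cancel_right] at this
    rw [← P.eq ha1 hb1 h1] at h2
    have h3 := hA b hb1 hb (v * b * v⁻¹ * b⁻¹) (by
      have := mul_mem hv (Normal.conj_mem inferInstance _ (inv_mem hv) b)
      simpa only [mul_assoc] using this) (mul_mem h2 (inv_mem (P.mem b)))
    exact absurd (hfpf b hb1 hb v hv (mul_inv_eq_iff_eq_mul.1 (mul_inv_eq_one.1 h3)).symm) hv1
  have hcp : ∀ v ∈ 𝐅, v ≠ 1 → ∀ g : G, g * v = v * g → ∃ k, g ^ p ^ k = 1 := fun v hv hv1 g h => by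
    by_cases hg : p ∣ orderOf g
    · exact (hpel g hg).imp fun k hk => by rw [← hk, pow_orderOf_eq_one]
    · by_cases hg1 : g = 1
      · exact ⟨0, by rw [hg1, one_pow]⟩
      · exact absurd (hfpf g hg1 ((Nat.Prime.coprime_iff_not_dvd hp).2 hg).symm v hv h) hv1
  have hCW : centralizer (W : Set G) ≤ 𝐅 := le_fitting_of_pow (p := p) inferInstance fun g hg =>
    hcp z₀ hz₀.1 hz₁ g (hg z₀ hz₀).symm
  have hC : centralizer (𝐅 : Set G) ≤ 𝐅 := (centralizer_le inf_le_left).trans hCW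
  have htop : 𝐅 ≠ ⊤ := fun e => P.ne_top hz₁ (eq_top_iff.2 (hH p hp ▸ (closure_le _).2
    fun g hg => by_contra fun h => hg (by
      rw [← hz₀p, P.pow_order hz₁ (hz₀.2 g (e ▸ mem_top g)).symm h])))
  obtain ⟨y, hy, hyp⟩ : ∃ y, y ∉ 𝐅 ∧ ∃ k, orderOf y = p ^ k := by
    by_contra! h
    refine hF ((frobenius_of_normal h0 htop fun y hy x hx e => ?_).imp fun _ => And.left)
    by_contra h1
    obtain ⟨k, hk⟩ := hcp x hx h1 y e.symm
    obtain ⟨j, -, hj⟩ := (Nat.dvd_prime_pow hp).1 (orderOf_dvd_of_pow_eq_one hk)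
    exact h y hy j hj
  -- the generic contradiction
  have gen : p ≠ 2 → (∀ x, x ∉ 𝐅 → (∃ k, orderOf x = p ^ k) → x ^ p = 1) → False := by
    rintro hp2 h
    obtain ⟨M, s, hMn, hs, hFM, hMF, hM⟩ := exists_M htop hC fun t ht htt => by
      obtain ⟨k, hk⟩ := FGS.exists_orderOf_eq_of_mem hFp htt
      by_contra h1
      have h2 : p ∣ orderOf t := by
        rcases k with _ | k
        · exact absurd (orderOf_eq_one_iff.1 hk) h1
        · exact ((dvd_pow_self p k.succ_ne_zero).trans hk.symm.dvd).trans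
            (by rw [← sq]; exact orderOf_pow_dvd 2)
      obtain ⟨i, hi⟩ := hpel t h2
      refine ht (Core.mem_of_pow_mem_of_coprime (n := 2) (sq t ▸ htt) ?_)
      rw [hi]
      exact ((Nat.coprime_primes Nat.prime_two hp).2 hp2.symm).pow_right i
    have := Fact.mk hs
    have hsp : s ≠ p := by
      rintro rfl
      refine hMF (le_fitting_of_pow (p := s) hMn fun m hm => ?_)
      obtain ⟨k, hk⟩ := hM m hm
      obtain ⟨i, hi⟩ := hFp ⟨_, hk⟩
      exact ⟨k + i, by rw [pow_add, pow_mul]; exact congrArg Subtype.val hi⟩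
    refine hW0 (key hp hMF hM (inf_le_left.trans hFM)
      (not_dvd_card hs hsp.symm (hFp.to_le inf_le_left)) (y := y) (fun m hm => ?_)
      fun a ha ⟨k, hk⟩ v hv e => hfpf a (fun e => ha (e ▸ one_mem _))
        (hk ▸ coprime_pow hs hp hsp k) v hv.1 e)
    have h3 : m * y ∉ M := fun e => hy (by
      obtain ⟨k, hk⟩ := hM y ((mul_mem_cancel_left hm).1 e)
      exact Core.mem_of_pow_mem_of_coprime hk
        ((coprime_pow hs hp hsp k).coprime_dvd_right (orderOf_dvd_of_pow_eq_one (h y hy hyp))))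
    exact h _ (fun e => h3 (hFM e)) (hpel _ (by_contra fun e => h3 (Core.mem_of_pow_mem_of_coprime
      (mul_pow_mem hm (h y hy hyp ▸ one_mem _)) ((Nat.Prime.coprime_iff_not_dvd hp).2 e))))
  -- a central element of a Sylow subgroup
  have hz : ∀ x : G, (∃ k, orderOf x = p ^ k) → ∃ z ∈ W, z ≠ 1 ∧ x * z = z * x ∧
      ∀ w ∈ 𝐅, w * x ∉ P.c z → (w * x) ^ p = 1 := by
    rintro x ⟨k, hk⟩
    obtain ⟨v, hv, hv1, hv2⟩ := exists_mem_comm_of_normalizer (hFp.to_le inf_le_left) hW0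
      (FGS.isPGroup_zpowers hk) le_normalizer_of_normal
    refine ⟨v, hv, hv1, hv2 x (mem_zpowers x), fun w hw h => ?_⟩
    have h1 : Commute v (w * x) := Commute.mul_right (hv.2 w hw).symm (hv2 x (mem_zpowers x)).symm
    obtain ⟨i, hi⟩ := FGS.exists_orderOf_eq_of_mem hFp hv.1
    have h2 := P.order_prime hv1 h1 h
    rw [← (Nat.prime_dvd_prime_iff_eq h2 hp).1 (h2.dvd_of_dvd_pow hi.dvd)]
    exact P.pow_order hv1 h1 h
  have hWK : ∀ z, z ≠ 1 → W ≤ P.c z → P.c z ≤ 𝐅 := fun z hz h =>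
    Core.le_fitting (P.normal_of_le hW0 hz h) (hnil z hz)
  obtain rfl : p = 2 := by
    by_contra hp2
    refine gen hp2 fun x hx hxp => ?_
    obtain ⟨z, hzW, hz1, -, hz3⟩ := hz x hxp
    by_cases hxK : x ∈ P.c z
    · obtain ⟨w, hw, hw'⟩ := SetLike.not_le_iff_exists.1 fun e => hx (hWK z hz1 e hxK)
      have h1 := hz3 w hw.1 fun e => hw' ((mul_mem_cancel_right hxK).1 e)
      have h2 := hz3 (w * w) (mul_mem hw.1 hw.1) fun e => hw' (by
        obtain ⟨i, hi⟩ := FGS.exists_orderOf_eq_of_mem hFp hw.1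
        refine Core.mem_of_pow_mem_of_coprime (n := 2)
          (sq w ▸ (mul_mem_cancel_right hxK).1 e) ?_
        rw [hi]
        exact ((Nat.coprime_primes Nat.prime_two hp).2 (Ne.symm hp2)).pow_right i)
      have h3 := FGS.mul_pow_eq_prod (V := W) ⟨w, hw⟩ x p
      have h4 := FGS.mul_pow_eq_prod (V := W) (⟨w, hw⟩ * ⟨w, hw⟩) x p
      simp only [map_mul, Finset.prod_mul_distrib] at h4
      rw [coe_mul, coe_mul, mul_assoc _ _ (x ^ p), ← h3, h1, h2, mul_one] at h4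
      rw [h1, ← h4, one_mul] at h3
      exact h3.symm
    · simpa using hz3 1 (one_mem _) (by rwa [one_mul])
  have hinv : ∀ x, x ∉ 𝐅 → (∃ k, orderOf x = 2 ^ k) → ∃ z ∈ W, z ≠ 1 ∧ ¬ W ≤ P.c z ∧
      ∀ w ∈ 𝐅, w * x ∉ P.c z → (w * x) ^ 2 = 1 := fun x hx hxp => by
    obtain ⟨z, hzW, hz1, -, hz3⟩ := hz x hxp
    refine ⟨z, hzW, hz1, fun e => hx ?_, hz3⟩
    have h1 : ∀ w ∈ 𝐅, (w * x) ^ 2 = 1 := fun w hw =>
      hz3 w hw fun h => hx ((mul_mem_cancel_left hw).1 (hWK z hz1 e h))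
    have h2 : ∀ w ∈ 𝐅, x * w * x⁻¹ = w⁻¹ := fun w hw => by
      have h3 : (w * x) ^ 2 = w * (x * w * x⁻¹) * (1 * x) ^ 2 := by rw [sq, sq]; group
      rw [h1 w hw, h1 1 (one_mem _), mul_one] at h3
      exact eq_inv_of_mul_eq_one_right h3.symm
    refine Core.pCore_le_fitting 2 (H2.baer_suzuki_elem fun g => ?_)
    obtain ⟨v, hv, hv2⟩ := FGS.exists_prime_orderOf_mem Nat.prime_two
      (Core.prime_dvd_card_of_isPGroup hFp h0)
    have h3 : ∀ w ∈ 𝐅, orderOf w = 2 → x * w = w * x := fun w hw h => by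
      rw [← mul_inv_eq_iff_eq_mul, h2 w hw, inv_eq_iff_mul_eq_one, ← sq, ← h, pow_orderOf_eq_one]
    have h4 : closure {x, g * x * g⁻¹} ≤ centralizer {v} := by
      simp only [closure_le, Set.insert_subset_iff, Set.singleton_subset_iff, SetLike.mem_coe,
        mem_centralizer_singleton_iff]
      refine ⟨h3 v hv hv2, ?_⟩
      have := h3 (g⁻¹ * v * g⁻¹⁻¹) (Normal.conj_mem inferInstance _ hv _)
        (hv2 ▸ (MulAut.conj g⁻¹).orderOf_eq v)
      calc g * x * g⁻¹ * v = g * (x * (g⁻¹ * v * g⁻¹⁻¹)) * g⁻¹ := by group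
        _ = _ := by rw [this]; group
    exact fun u => (hcp v hv (FGS.ne_one_of_orderOf_prime Nat.prime_two hv2) u
      (mem_centralizer_singleton_iff.1 (h4 u.2))).imp fun k hk => Subtype.ext hk
  have hexp : ∀ w ∈ 𝐅, w * w = 1 := fun w hw => by
    obtain ⟨z, hzW, hz1, hz2, -⟩ := hinv y hy hyp
    by_contra h1
    have hw1 : w ≠ 1 := by rintro rfl; exact h1 (one_mul 1)
    have h2 : W ≤ P.c w := fun v hv => by_contra fun h => h1 (by
      have h3 := P.order_prime hw1 (hv.2 w hw) h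
      obtain ⟨i, hi⟩ := FGS.exists_orderOf_eq_of_mem hFp hw
      rw [← sq, ← (Nat.prime_dvd_prime_iff_eq h3 hp).1 (h3.dvd_of_dvd_pow hi.dvd),
        pow_orderOf_eq_one])
    exact hz2 (P.eq hw1 hz1 (h2 hzW) ▸ h2)
  have hcomm : ∀ v ∈ 𝐅, ∀ w ∈ 𝐅, v * w = w * v := fun v hv w hw => by
    rw [← inv_eq_of_mul_eq_one_right (hexp _ (mul_mem hv hw)), mul_inv_rev,
      inv_eq_of_mul_eq_one_right (hexp v hv), inv_eq_of_mul_eq_one_right (hexp w hw)]
  have hidx : ∀ x, x ∉ 𝐅 → (∃ k, orderOf x = 2 ^ k) → (centralizer {x}).relIndex 𝐅 ≤ 2 := by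
    intro x hx hxp
    obtain ⟨z, -, hz1, hz2, hz3⟩ := hinv x hx hxp
    obtain ⟨u, hu, hux⟩ : ∃ u ∈ 𝐅, u * x ∉ P.c z := by
      by_cases h : x ∈ P.c z
      · obtain ⟨w, hw, hw'⟩ := SetLike.not_le_iff_exists.1 hz2
        exact ⟨w, hw.1, fun e => hw' ((mul_mem_cancel_right h).1 e)⟩
      · exact ⟨1, one_mem _, by rwa [one_mul]⟩
    have h1 : ∀ w ∈ 𝐅, w ∉ centralizer {x} → w * (u * x) ∈ P.c z := fun w hw h => by
      by_contra h2
      have h3 := hz3 _ (mul_mem hw hu) (by rwa [mul_assoc])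
      have h4 : (w * u * x) ^ 2 = w * (u * (x * w * x⁻¹) * u⁻¹) * (u * x) ^ 2 := by
        rw [sq, sq]; group
      rw [h3, hz3 u hu hux, mul_one, hcomm u hu _ (Normal.conj_mem inferInstance _ hw x),
        mul_inv_cancel_right, ← hexp w hw, mul_left_cancel_iff] at h4
      exact h (mem_centralizer_singleton_iff.2 (mul_inv_eq_iff_eq_mul.1 h4.symm).symm)
    refine Nat.le_of_dvd two_pos (index_dvd_two_iff.2 ?_)
    by_cases h : ∀ w : 𝐅, (w : G) ∈ centralizer {x}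
    · exact ⟨1, fun b => Or.inr (h b)⟩
    · obtain ⟨a, ha⟩ := not_forall.1 h
      refine ⟨a, fun b => or_iff_not_imp_right.2 fun hb => by_contra fun hab => hux ?_⟩
      have h2 := h1 _ (b * a).2 hab
      rw [coe_mul, mul_assoc, mul_mem_cancel_right (h1 _ a.2 ha)] at h2
      exact (mul_mem_cancel_left h2).1 (h1 _ b.2 hb)
  have h4 : Nat.card 𝐅 ≤ 4 := by
    by_contra h4
    refine hy (Core.pCore_le_fitting 2 (H2.baer_suzuki_elem fun g => ?_))
    have h1 := hidx y hy hyp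
    have h2 := hidx (g * y * g⁻¹)
      (fun e => hy (by simpa [mul_assoc] using Normal.conj_mem inferInstance _ e g⁻¹))
      (hyp.imp fun k hk => ((MulAut.conj g).orderOf_eq y).trans hk)
    have h3 := (relIndex_inf_le (H := centralizer {y}) (K := centralizer {g * y * g⁻¹})
      (L := 𝐅)).trans (Nat.mul_le_mul h1 h2)
    have h5 := Core.card_inf_mul_relIndex (centralizer {y} ⊓ centralizer {g * y * g⁻¹}) 𝐅
    obtain ⟨⟨v, hv⟩, hv1⟩ := (ne_bot_iff_exists_ne_one (H := centralizer {y} ⊓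
      centralizer {g * y * g⁻¹} ⊓ 𝐅)).1 fun e => by rw [e, card_bot] at h5; omega
    have h6 : closure {y, g * y * g⁻¹} ≤ centralizer {v} := by
      simp only [closure_le, Set.insert_subset_iff, Set.singleton_subset_iff, SetLike.mem_coe]
      exact ⟨FGS.mem_centralizer_symm.1 hv.1.1, FGS.mem_centralizer_symm.1 hv.1.2⟩
    exact fun u => (hcp v hv.2 (fun e => hv1 (Subtype.ext e)) u
      (mem_centralizer_singleton_iff.1 (h6 u.2))).imp fun k hk => Subtype.ext hk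
  obtain ⟨q, hq, hqd, hq2⟩ : ∃ q : ℕ, q.Prime ∧ q ∣ Nat.card G ∧ q ≠ 2 := by
    by_contra! h
    exact htop (Core.fitting_eq_top_iff.2 (FGS.isPGroup_iff_forall_prime.2 h).isNilpotent)
  have := Fact.mk hq
  obtain ⟨b, hb⟩ := exists_prime_orderOf_dvd_card' q hqd
  have hcyc : ∀ g : G, g ≠ 1 → ¬ (zpowers g).Normal := fun g hg hn => by
    have h1 : g ∈ 𝐅 := Core.le_fitting_of_isMulCommutative hn inferInstance (mem_zpowers g)
    refine hg (hfpf b (FGS.ne_one_of_orderOf_prime hq hb)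
      (hb ▸ (Nat.coprime_primes hq hp).2 hq2) g h1 ?_)
    rcases (GW.mem_zpowers_two (hexp g h1)).1 (hn.conj_mem g (mem_zpowers g) b) with h | h
    · exact absurd (conj_eq_one_iff.1 h) hg
    · exact mul_inv_eq_iff_eq_mul.1 h
  have h5 : Nat.card 𝐅 = 4 := by
    obtain ⟨n, hn⟩ := hFp.exists_card_eq
    have h1 : Nat.card 𝐅 ≠ 2 := fun e => hcyc z₀ hz₁ (by
      rw [Core.eq_of_le_of_card_le (Subgroup.zpowers_le.2 hz₀.1) (by rw [e, Nat.card_zpowers, hz₀p])]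
      infer_instance)
    have h2 := (one_lt_card_iff_ne_bot _).2 h0
    rcases n with _ | _ | _ | n
    · omega
    · omega
    · omega
    · rw [pow_succ, pow_succ, pow_succ] at hn
      have := Nat.two_pow_pos n
      omega
  have h6 := Inv.four_relIndex_dvd (Inv.isKleinFour_of_card_of_mul_self h5 hexp) (N := ⊤)
    le_normalizer_of_normal
  rw [le_antisymm hC fun v hv w hw => hcomm w hw v hv, relIndex_top_right] at h6
  have h7 : 2 ∣ 𝐅.index := by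
    obtain ⟨k, hk⟩ := hyp
    by_contra h
    exact hy (Core.mem_of_pow_mem_of_coprime (pow_index_mem 𝐅 y)
      (hk ▸ ((Nat.Prime.coprime_iff_not_dvd hp).2 h).symm.pow_right k))
  have h8 : q ∣ 𝐅.index := by
    rw [← 𝐅.card_mul_index, h5] at hqd
    exact ((Nat.coprime_primes hq hp).2 hq2).pow_right 2 |>.dvd_of_dvd_mul_left hqd
  refine Classical.SmallRecog.equiv_S4_of_no_cyclic ?_ hcyc
  rw [← 𝐅.card_mul_index, h5]
  have h9 := Nat.le_of_dvd (by norm_num) h6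
  have h10 : 𝐅.index ≠ 2 := fun e => hq2 ((Nat.prime_dvd_prime_iff_eq hq hp).1 (e ▸ h8))
  generalize 𝐅.index = k at *
  interval_cases k <;> omega

theorem caseA (h0 : 𝐅 ≠ ⊥) : Nonempty (G ≃* Equiv.Perm (Fin 4)) := by
  refine P.caseA2 hnil hH hF h0 fun g hg e => ?_
  obtain ⟨⟨f, hf⟩, hf1⟩ := (ne_bot_iff_exists_ne_one).1 h0
  have h1 : f ≠ 1 := fun e => hf1 (Subtype.ext e)
  exact P.caseA1 hnil hH hF h1 hf (P.eq hg h1 (e hf) ▸ e)

end Prt

end Cfsg.Agent.Part
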