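import Mathlib
import Cfsg.Agent.Ben.Cons2
import Cfsg.Agent.GW.Basic

set_option autoImplicit false
set_option linter.unusedSectionVars false

/-! Groups with a strongly embedded subgroup in which no element fixes three points. -/

namespace Cfsg.Agent.Part

open Subgroup MulAction Suz

variable {G : Type*} [Group G] [Finite G]

/-- `PSL₂(2ⁿ)`, `n ≥ 2`, or a Suzuki group. -/
def ZT (G : Type*) [Group G] : Prop :=
  (∃ (F : Type) (_ : Field F) (_ : Fintype F), (∃ n : ℕ, 2 ≤ n ∧ Fintype.card F = 2 ^ n) ∧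
    Nonempty (G ≃* Matrix.ProjectiveSpecialLinearGroup (Fin 2) F)) ∨ Cfsg.Lie.IsoSuzuki G

theorem oddCore_eq_bot (h : fittingSubgroup G = ⊥) : oddCore G = ⊥ := by
  by_contra e
  have := Core.fitting_ne_bot_of_solvable_normal (oddCore G) (GW.solv_of_odd Inv.odd_card_oddCore) e
  rw [h, bot_inf_eq] at this
  exact this rfl

theorem even_card [Nontrivial G] (h : fittingSubgroup G = ⊥) : Even (Nat.card G) := by
  by_contra e
  have := S0205.result (Nat.not_even_iff_odd.1 e)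
  exact Core.fitting_ne_bot h

theorem twoRank [Nontrivial G] (h : fittingSubgroup G = ⊥) : TwoRank G := by
  by_contra e
  have : Fact (Nat.Prime 2) := ⟨Nat.prime_two⟩
  obtain ⟨t, ht⟩ := exists_prime_orderOf_dvd_card' 2 (even_card h).two_dvd
  have h1 := Ben.oddCore_sup_cent e ht
  rw [oddCore_eq_bot h, bot_sup_eq, centralizer_eq_top_iff_subset, Set.singleton_subset_iff] at h1
  exact (Ben.sq_of_two ht).1 (mem_bot.1 (h ▸ Core.center_le_fitting h1))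

theorem exists_setup {M : Subgroup G} (hM : IsStronglyEmbedded M) (hO : oddCore G = ⊥)
    (h2 : TwoRank G) : FaithfulSMul G (G ⧸ M) ∧
      ∃ (t : G) (Q : Subgroup G), IsRankOneSetup G (G ⧸ M) ((1 : G) : G ⧸ M) t Q := by
  have h1 := (Ben.bender' (Ben.se_quotient hM) h2 ((1 : G) : G ⧸ M)).1
  rw [hO, MonoidHom.ker_eq_bot_iff] at h1
  have : FaithfulSMul G (G ⧸ M) := ⟨fun e => h1 (Equiv.ext e)⟩
  exact ⟨this, Ben.bender (Ben.se_quotient hM) h2 _⟩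

section

variable {Ω : Type*} [MulAction G Ω] {a : Ω} {t : G} {Q : Subgroup G}

theorem LL_eq_top [FaithfulSMul G Ω] (hS : IsRankOneSetup G Ω a t Q) (h2 : TwoRank G)
    (hV : VV a t = ⊥) : ZF.LL t Q = ⊤ := by
  obtain ⟨F, _, _, _, ⟨Z⟩⟩ := exists_ZF hS h2
  have h1 : stabilizer G a ≤ ZF.LL t Q := hS.sup_eq ▸ sup_le (ZF.Q_le_LL t Q) fun d hd => by
    obtain ⟨l, hl, v, hv, rfl⟩ := Z.exists_k_mul_V hd
    rw [mem_bot.1 (hV.le hv), mul_one]
    exact Z.k_mem_LL hl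
  refine eq_top_iff.2 fun g _ => ?_
  by_cases hg : g • a = a
  · exact h1 hg
  · obtain ⟨q, hq, e⟩ := RankOne.Setup.exists_smul_eq_of_ne hS (RankOne.Setup.ta_ne hS) hg
    have h3 : (q * t)⁻¹ * g ∈ stabilizer G a := by
      rw [mem_stabilizer_iff, mul_smul, ← e, ← mul_smul q, inv_smul_smul]
    exact (mul_mem_cancel_left (inv_mem (mul_mem (ZF.Q_le_LL t Q hq) (ZF.t_mem_LL t Q)))).1 (h1 h3)

theorem zt_of_V [FaithfulSMul G Ω] (hS : IsRankOneSetup G Ω a t Q) (h2 : TwoRank G)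
    (hV : VV a t = ⊥) : ZT G ∧ ((∀ x ∈ Q, x * x = 1) → ∃ (F : Type) (_ : Field F) (_ : Fintype F),
      (∃ n : ℕ, 2 ≤ n ∧ Fintype.card F = 2 ^ n) ∧
        Nonempty (G ≃* Matrix.ProjectiveSpecialLinearGroup (Fin 2) F)) := by
  have hT := LL_eq_top hS h2 hV
  have hW := weak hS h2
  obtain ⟨F, _, _, _, ⟨Z⟩⟩ := exists_ZF hS h2
  have h1 : (∀ x ∈ Q, x * x = 1) → ∃ (F : Type) (_ : Field F) (_ : Fintype F),
      (∃ n : ℕ, 2 ≤ n ∧ Fintype.card F = 2 ^ n) ∧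
        Nonempty (G ≃* Matrix.ProjectiveSpecialLinearGroup (Fin 2) F) := fun h => by
    have e := Z.equiv_PSL2 h
    rw [hT] at e
    exact ⟨F, inferInstance, inferInstance, Z.exists_card, ⟨topEquiv.symm.trans e.some⟩⟩
  refine ⟨?_, h1⟩
  rcases hW.cases with h | ⟨hn, h | ⟨h, ω, hω, hω', ζ, hζ, -, hζ', g, hg, d, hd, e⟩⟩
  · exact Or.inl (h1 h)
  · have e := Z.isoSuzuki hW.two hn (Z.qOf_eq ▸ h)
    rw [hT] at e
    obtain ⟨F, _, _, m, hm, hF, ⟨e⟩⟩ := e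
    exact Or.inr ⟨F, inferInstance, inferInstance, m, hm, hF, ⟨topEquiv.symm.trans e⟩⟩
  · have hω1 : ω ∈ Z.N := ⟨hω, fun e => hω' (Z.mem_Zs'.mp e).2⟩
    have hζ1 : ζ ∈ WW a t := Z.mem_WW.mpr ⟨hζ, fun b => hζ' _ (Z.z_mem b) (Z.z_mul_self b)⟩
    have r : Rel a t Q ω g d (ζ⁻¹ * ω⁻¹ * ζ) :=
      ⟨hω, hg, hd, D_inv_conj_Q hS hζ (inv_mem hω), e⟩
    exact absurd (mem_bot.1 (hV.le (Z.W_le_V hζ1)))
      (Z.beta_ne (Z.special hW.two hn) hω1 hζ1 r)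

end

/-- The form in which the result is used. -/
theorem zass [Nontrivial G] {M : Subgroup G} (hM : IsStronglyEmbedded M)
    (hF : fittingSubgroup G = ⊥)
    (hV : ∀ v t s : G, v ≠ 1 → Odd (orderOf v) → orderOf t = 2 → orderOf s = 2 → s ∈ M →
      v * t = t * v → v * s = s * v → t ∈ M) :
    ZT G ∧ ∃ Q : Subgroup G, Core.IsSylowOf 2 Q ⊤ ∧ normalizer (Q : Set G) = M ∧
      (∀ O ≤ M, Q ≤ normalizer (O : Set G) → Odd (Nat.card O) → O = ⊥) ∧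
      ((∀ x ∈ Q, ∀ y ∈ Q, x * y = y * x) → (∀ x ∈ Q, x * x = 1) ∧
        ∃ (F : Type) (_ : Field F) (_ : Fintype F), (∃ n : ℕ, 2 ≤ n ∧ Fintype.card F = 2 ^ n) ∧
          Nonempty (G ≃* Matrix.ProjectiveSpecialLinearGroup (Fin 2) F)) := by
  have h2 := twoRank hF
  have : Fact (Nat.Prime 2) := ⟨Nat.prime_two⟩
  obtain ⟨_, t, Q, hS⟩ := exists_setup hM (oddCore_eq_bot hF) h2
  have hst := Ben.stab_one M
  have h3 : VV ((1 : G) : G ⧸ M) t = ⊥ := eq_bot_iff.2 fun v hv => by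
    by_contra h1
    obtain ⟨F, _, _, _, ⟨Z⟩⟩ := exists_ZF hS h2
    refine hS.not_mem (hst.ge (hV v t (Z.z 1) h1 (GW.odd_orderOf hS.odd_card hv.1)
      (orderOf_eq_prime (by rw [sq, hS.mul_self]) hS.ne_one)
      (orderOf_eq_prime (by rw [sq, Z.z_mul_self]) fun e => one_ne_zero (Z.z_eq_one.1 e))
      (hst.le (hS.le (Z.z_mem 1))) (mem_VV.1 hv).2 (Z.V_comm_s hv)))
  obtain ⟨h4, h5⟩ := zt_of_V hS h2 h3
  refine ⟨h4, Q, Ben.sylow_Q hS h2, (Ben.norm_Q_eq hS).trans hst,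
    fun O hO => Ben.eq_one_of_odd_normal hS h2 (hst.symm ▸ hO), fun hc => ?_⟩
  have h6 : ∀ x ∈ Q, x * x = 1 := (weak hS h2).cases.resolve_right fun ⟨⟨x, hx, y, hy, e⟩, _⟩ =>
    e (hc x hx y hy)
  exact ⟨h6, h5 h6⟩

end Cfsg.Agent.Part
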