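import Mathlib
import Cfsg.Agent.Part.Basic
import Cfsg.Agent.Part.Zass
import Cfsg.Agent.FGS.DPi
import Cfsg.Agent.GW.Cor
import Cfsg.Agent.Transfer.Abelian
import Cfsg.Agent.Transfer.FPF
import Cfsg.Agent.H2.FrobAction
import Cfsg.Agent.Classical.DihRecog

set_option autoImplicit false
set_option linter.unusedSectionVars false

/-! Partitions with nilpotent members of groups with trivial Fitting subgroup: the 2-structure. -/

namespace Cfsg.Agent.Part

open Subgroup Core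
open scoped Pointwise

variable {G : Type*} [Group G] [Finite G]

/-- No non-trivial element of odd order commutes with two distinct involutions. -/
def UI (G : Type*) [Group G] : Prop :=
  ∀ v t s : G, v ≠ 1 → Odd (orderOf v) → orderOf t = 2 → orderOf s = 2 → v * t = t * v →
    v * s = s * v → t = s

theorem two_of_sq {t : G} (h1 : t ≠ 1) (h2 : t * t = 1) : orderOf t = 2 :=
  haveI : Fact (Nat.Prime 2) := ⟨Nat.prime_two⟩
  orderOf_eq_prime (by rw [sq, h2]) h1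

theorem ord_conj (g t : G) : orderOf (g * t * g⁻¹) = orderOf t :=
  (MulAut.conj g).orderOf_eq t

theorem exists_conj_mem {S M : Subgroup G} (hS : IsSylowOf 2 S M) {x : G} (hx : x ∈ M) {k : ℕ}
    (ho : orderOf x = 2 ^ k) : ∃ m ∈ M, m * x * m⁻¹ ∈ S := by
  have : Fact (Nat.Prime 2) := ⟨Nat.prime_two⟩
  obtain ⟨m, hm, h⟩ := hS.exists_conj_le (FGS.isPGroup_zpowers ho) (Subgroup.zpowers_le.2 hx)
  refine ⟨m, hm, h (FGS.mem_conj_iff.2 ?_)⟩
  simp [mul_assoc]

namespace Prt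

variable (P : Prt G) (hnil : ∀ g : G, g ≠ 1 → Group.IsNilpotent (P.c g))
  (hF : fittingSubgroup G = ⊥)

include hnil hF in
theorem norm_ne_top {z : G} (hz : z ≠ 1) : normalizer (P.c z : Set G) ≠ ⊤ := fun e =>
  hz (mem_bot.1 (hF ▸ le_fitting (normalizer_eq_top_iff.1 e) (hnil z hz) (P.mem z)))

theorem odd_mem {v t : G} (hv : Odd (orderOf v)) (ht : orderOf t = 2) (h : v * t = t * v) :
    v ∈ P.c t :=
  P.mem_of_coprime (Ben.sq_of_two ht).1 (Commute.symm h) (ht ▸ Nat.coprime_two_right.2 hv)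

include hnil hF in
theorem caseI {S : Subgroup G} (hS : IsSylowOf 2 S ⊤) {z : G} (hz : z ≠ 1) (hle : S ≤ P.c z) :
    ZT G ∧ P.c z = S ∧ ((∀ x ∈ S, ∀ y ∈ S, x * y = y * x) → ∀ x ∈ S, x * x = 1) := by
  have : Fact (Nat.Prime 2) := ⟨Nat.prime_two⟩
  have : Nontrivial G := ⟨z, 1, hz⟩
  set M := normalizer (P.c z : Set G) with hM
  have hHM : P.c z ≤ M := le_normalizer
  have h2 : ∀ x ∈ M, ∀ k, orderOf x = 2 ^ k → x ∈ P.c z := fun x hx k ho => by
    obtain ⟨m, hm, h⟩ := exists_conj_mem (hS.of_le (hle.trans hHM) le_top) hx ho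
    exact (mem_normalizer_iff.1 hm x).2 (hle h)
  obtain ⟨s, hs, -, hs1, hs2⟩ := Inv.exists_central_invol hS.isPGroup
    (hS.ne_bot (by rw [card_top]; exact (even_card hF).two_dvd))
  have hse : IsStronglyEmbedded M := Inv.se_of (P.norm_ne_top hnil hF hz) (hHM (hle hs))
    (two_of_sq hs1 hs2) fun t ht ho g hg => P.mem_norm hz (Ben.sq_of_two ho).1
      (h2 t ht 1 (by rw [ho, pow_one])) (h2 _ hg 1 (by rw [ord_conj, ho, pow_one]))
  obtain ⟨hZ, Q, hQ, hQM, hO, hab⟩ := zass hse hF fun v t s hv hvo ht hs hsM hvt hvs => by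
    have h3 := h2 s hsM 1 (by rw [hs, pow_one])
    have h4 := P.odd_mem hvo hs hvs
    rw [P.eq hz (Ben.sq_of_two hs).1 h3] at h4
    have h5 := P.symm (Ben.sq_of_two ht).1 hv (P.odd_mem hvo ht hvt)
    rw [P.eq hz hv h4] at h5
    exact hHM h5
  have hQH : Q ≤ P.c z := fun x hx => by
    obtain ⟨k, hk⟩ := FGS.exists_orderOf_eq_of_mem hQ.isPGroup hx
    exact h2 x (hQM ▸ le_normalizer hx) k hk
  have hp : IsPGroup 2 (P.c z) := fun ⟨x, hx⟩ => by
    obtain ⟨a, b, ha, hb, e, -, ⟨k, hk⟩, hbo⟩ := FGS.exists_pPart 2 x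
    have hb' : b ∈ P.c z := Subgroup.zpowers_le.2 hx hb
    have h3 := hO (zpowers b) (Subgroup.zpowers_le.2 (hHM hb')) (fun y hy => by
      obtain ⟨j, hj⟩ := FGS.exists_orderOf_eq_of_mem hQ.isPGroup hy
      exact centralizer_le_normalizer _ (by
        rw [mem_centralizer_iff]
        rintro _ ⟨n, rfl⟩
        exact ((Commute.zpow_right (FGS.commute_of_nilpotent (hnil z hz) (hQH hy) hb' hj hbo) n).symm)))
      (by rw [Nat.card_zpowers]; exact Nat.coprime_two_right.1 hbo)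
    rw [zpowers_eq_bot.1 h3, mul_one] at e
    exact ⟨k, Subtype.ext (by simp [e, ← hk])⟩
  have e1 := hS.eq_of_le hp le_top hle
  have e2 := hQ.eq_of_le hp le_top hQH
  refine ⟨hZ, e1.symm, ?_⟩
  rw [e1, ← e2]
  exact fun h => (hab h).1

include hF in
theorem caseC [Nontrivial G] {S : Subgroup G} (hS : IsSylowOf 2 S ⊤)
    (h : ∀ z ∈ S, orderOf z = 2 → (∀ x ∈ S, x * z = z * x) → ∀ y ∈ P.c z, y * y = 1) : ZT G := by
  have : Fact (Nat.Prime 2) := ⟨Nat.prime_two⟩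
  have h0 := hS.ne_bot (by rw [card_top]; exact (even_card hF).two_dvd)
  obtain ⟨s, hs, hsz, hs1, hs2⟩ := Inv.exists_central_invol hS.isPGroup h0
  have h1 : ∀ z ∈ S, orderOf z = 2 → (∀ x ∈ S, x * z = z * x) → ∀ y, y * z = z * y → y * y = 1 :=
    fun z hz ho hc y hy => by
      by_cases e : y ∈ P.c z
      · exact h z hz ho hc y e
      · rw [← sq, ← ho, ← P.order_eq (Ben.sq_of_two ho).1 (Commute.symm hy) e, pow_orderOf_eq_one]
  have h2 : ∀ x ∈ S, x * x = 1 := fun x hx =>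
    h1 s hs (two_of_sq hs1 hs2) (Fusion.mem_cz.1 hsz) x (Fusion.mem_cz.1 hsz x hx)
  have h3 : ∀ x ∈ S, ∀ y ∈ S, x * y = y * x := fun x hx y hy => by
    have e1 := h2 _ (mul_mem hx hy)
    calc x * y = x * ((x * y) * (x * y)) * y := by rw [e1, mul_one]
      _ = (x * x) * (y * x) * (y * y) := by group
      _ = y * x := by rw [h2 x hx, h2 y hy, one_mul, mul_one]
  have h4 : ∀ z ∈ S, orderOf z = 2 → centralizer {z} = S := fun z hz ho =>
    (hS.eq_of_le (fun ⟨y, hy⟩ => ⟨1, Subtype.ext (by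
      simpa [sq] using h1 z hz ho (fun x hx => h3 x hx z hz) y
        (mem_centralizer_singleton_iff.1 hy))⟩) le_top
      fun x hx => mem_centralizer_singleton_iff.2 (h3 x hx z hz)).symm
  have h5 : ∀ t ∈ normalizer (S : Set G), orderOf t = 2 → t ∈ S := fun t ht ho =>
    hS.le_of_le_normalizer' (FGS.isPGroup_zpowers (k := 1) (by rw [ho, pow_one])) le_top
      (Subgroup.zpowers_le.2 ht) (mem_zpowers t)
  have hse : IsStronglyEmbedded (normalizer (S : Set G)) := Inv.se_of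
    (fun e => h0 (eq_bot_iff.2 (hF ▸ le_fitting (normalizer_eq_top_iff.1 e) hS.isPGroup.isNilpotent)))
    (le_normalizer hs) (two_of_sq hs1 hs2) fun t ht ho g hg => by
      have ho' := (ord_conj g t).trans ho
      have e := FGS.centralizer_conj g t
      rw [h4 _ (h5 _ hg ho') ho', h4 _ (h5 _ ht ho) ho] at e
      refine mem_normalizer_iff.2 fun x => ?_
      conv_rhs => rw [e, FGS.mem_conj_iff]
      simp [mul_assoc]
  refine (zass hse hF fun v t s hv hvo ht hs hsM hvt hvs => absurd ?_ hv).1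
  have e := h1 s (h5 s hsM hs) hs (fun x hx => h3 x hx s (h5 s hsM hs)) v hvs
  rw [← sq] at e
  exact orderOf_eq_one_iff.1 ((Nat.coprime_two_right.2 hvo).eq_one_of_dvd (orderOf_dvd_of_pow_eq_one e))

theorem klein {g a b h : G} (hg : g ≠ 1) (ha : a ∈ normalizer (P.c g : Set G))
    (hb : b ∈ normalizer (P.c g : Set G)) (ha' : a ∉ P.c g) (hb' : b ∉ P.c g)
    (hab : a * b ∉ P.c g) (ha2 : a * a ∈ P.c g) (hb2 : b * b ∈ P.c g)
    (hab2 : a * b * (a * b) ∈ P.c g) (hh : h ∈ P.c g) : h * h = 1 := by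
  have e1 := P.inverts hg ha ha' ha2 (inv_mem hh)
  have e2 := P.inverts hg hb hb' hb2 hh
  have e3 := P.inverts hg (mul_mem ha hb) hab hab2 hh
  rw [show a * b * h * (a * b)⁻¹ = a * (b * h * b⁻¹) * a⁻¹ by group, e2, e1, inv_inv] at e3
  exact mul_eq_one_iff_eq_inv.2 e3

section

variable {S : Subgroup G} (hS : IsSylowOf 2 S ⊤) {z h₀ : G} (hzS : z ∈ S) (hz : orderOf z = 2)
  (hc : ∀ x ∈ S, x * z = z * x) (h0 : h₀ ∈ P.c z) (h1 : h₀ * h₀ ≠ 1)

include hz hc in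
theorem out_two {u : G} (hu : u ∈ S) (hn : u ∉ P.c z) : orderOf u = 2 :=
  (P.order_eq (Ben.sq_of_two hz).1 (Commute.symm (hc u hu)) hn).trans hz

include hz hc in
theorem out_inv {u x : G} (hu : u ∈ S) (hn : u ∉ P.c z) (hx : x ∈ P.c z) : u * x * u⁻¹ = x⁻¹ :=
  P.inverts (Ben.sq_of_two hz).1 (P.mem_norm_of_comm (Ben.sq_of_two hz).1 (hc u hu)) hn
    ((Ben.sq_of_two (P.out_two hz hc hu hn)).2 ▸ one_mem _) hx

include hz hc h0 h1 in
theorem out_mul {u w : G} (hu : u ∈ S) (hn : u ∉ P.c z) (hw : w ∈ S) (hn' : w ∉ P.c z) :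
    u * w ∈ P.c z := by
  by_contra e
  have k : ∀ u ∈ S, u ∉ P.c z → u * u ∈ P.c z := fun u hu hn =>
    (Ben.sq_of_two (P.out_two hz hc hu hn)).2 ▸ one_mem _
  exact h1 (P.klein (Ben.sq_of_two hz).1 (P.mem_norm_of_comm (Ben.sq_of_two hz).1 (hc u hu))
    (P.mem_norm_of_comm (Ben.sq_of_two hz).1 (hc w hw)) hn hn' e (k u hu hn) (k w hw hn')
    (k _ (mul_mem hu hw) e) h0)

include hz hc in
theorem in_comm (hn : ¬ S ≤ P.c z) {x y : G} (hx : x ∈ P.c z) (hy : y ∈ P.c z) : x * y = y * x := by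
  obtain ⟨u, hu, hn⟩ := SetLike.not_le_iff_exists.1 hn
  have e := P.out_inv hz hc hu hn (mul_mem hx hy)
  rw [show u * (x * y) * u⁻¹ = (u * x * u⁻¹) * (u * y * u⁻¹) by group, P.out_inv hz hc hu hn hx,
    P.out_inv hz hc hu hn hy, ← mul_inv_rev, inv_inj] at e
  exact e.symm

include hz hc h0 h1 in
theorem relIndex_two (hn : ¬ S ≤ P.c z) : (P.c z).relIndex S = 2 := by
  obtain ⟨u, hu, hn⟩ := SetLike.not_le_iff_exists.1 hn
  refine relIndex_eq_two_iff_exists_notMem_and.2 ⟨u, hu, hn, fun b hb => ?_⟩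
  by_cases e : b ∈ P.c z
  · exact Or.inr e
  · exact Or.inl (P.out_mul hz hc h0 h1 hb e hu hn)

include hz hc h0 h1 in
theorem invol_eq {u g e : G} (hu : u ∈ S) (hn : u ∉ P.c z) (hg : g * u * g⁻¹ ∈ P.c z)
    (he : e ∈ P.c z) (he2 : orderOf e = 2) : e = z := by
  by_contra hne
  obtain ⟨z1, z2⟩ := Ben.sq_of_two hz
  obtain ⟨e1, e2⟩ := Ben.sq_of_two he2
  have u1 := P.ne_one hn
  have k : ∀ a ∈ P.c z, a ≠ 1 → a ∉ P.c u := fun a ha a1 ha' =>
    hn (P.eq_of_mem z1 u1 a1 ha ha' ▸ P.mem u)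
  have k2 : ∀ a ∈ P.c z, a * a = 1 → a ∈ normalizer (P.c u : Set G) := fun a ha a2 =>
    P.mem_norm_of_comm u1 (by
      have := P.out_inv hz hc hu hn ha
      rw [← mul_eq_one_iff_eq_inv.1 a2, mul_inv_eq_iff_eq_mul] at this
      exact this.symm)
  have hcm : e * z = z * e := P.in_comm hz hc (fun h => hn (h hu)) he (P.mem z)
  have ez : e * z * (e * z) = 1 := by
    rw [show e * z * (e * z) = e * (z * e) * z by group, ← hcm]
    rw [show e * (e * z) * z = e * e * (z * z) by group, e2, z2, one_mul]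
  have h2 : g⁻¹ * h₀ * g ∈ P.c u := by
    rw [← P.mem_conj u1, P.eq z1 (by rwa [Ne, conj_eq_one_iff]) hg]; exact h0
  have h3 := P.klein u1 (k2 e he e2) (k2 z (P.mem z) z2) (k e he e1) (k z (P.mem z) z1)
    (k _ (mul_mem he (P.mem z)) fun h => hne (by
      rw [mul_eq_one_iff_eq_inv.1 h, ← mul_eq_one_iff_eq_inv.1 z2]))
    (e2 ▸ one_mem _) (z2 ▸ one_mem _) (ez ▸ one_mem _) h2
  refine h1 ?_
  rw [show h₀ * h₀ = g * (g⁻¹ * h₀ * g * (g⁻¹ * h₀ * g)) * g⁻¹ by group, h3]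
  group

include hnil hS hzS hz hc h0 h1 in
theorem caseIIA {u g : G} (hu : u ∈ S) (hn : u ∉ P.c z) (hg : g * u * g⁻¹ ∈ P.c z) :
    GW.DihSyl G ∧ UI G := by
  have : Fact (Nat.Prime 2) := ⟨Nat.prime_two⟩
  obtain ⟨z1, z2⟩ := Ben.sq_of_two hz
  have hn' : ¬ S ≤ P.c z := fun h => hn (h hu)
  refine ⟨?_, fun v t s hv hvo ht hs hvt hvs => ?_⟩
  · obtain ⟨T, rfl⟩ := hS.exists_sylow_top
    let D : Subgroup T := (P.c z).subgroupOf T
    have : IsCyclic D := by
      letI : CommGroup D := { (inferInstance : Group D) with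
        mul_comm := fun a b => Subtype.ext (Subtype.ext (P.in_comm hz hc hn' a.2 b.2)) }
      refine H2.isCyclic_of_comm_of_unique fun p hp a b ha hb => ?_
      have ha' : orderOf ((a : T) : G) = p := by rw [orderOf_coe, orderOf_coe, ha]
      have hb' : orderOf ((b : T) : G) = p := by rw [orderOf_coe, orderOf_coe, hb]
      obtain ⟨k, hk⟩ := FGS.exists_orderOf_eq_of_mem T.isPGroup' (a : T).2
      obtain rfl : p = 2 := ((Nat.Prime.pow_eq_iff hp).1 (hk.symm.trans ha')).1.symm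
      rw [show a = b from Subtype.ext (Subtype.ext ((P.invol_eq hz hc h0 h1 hu hn hg a.2 ha').trans
        (P.invol_eq hz hc h0 h1 hu hn hg b.2 hb').symm))]
      exact mem_zpowers b
    obtain ⟨e⟩ := Classical.DihRecog.equiv_dihedral_of_index_two D
      (P.relIndex_two hz hc h0 h1 hn') fun x hx =>
        Subtype.ext (Ben.sq_of_two (P.out_two hz hc x.2 hx)).2
    refine GW.dihSyl_of_equiv T ?_ e
    exact Finite.one_lt_card_iff_nontrivial.2
      ⟨⟨⟨z, hzS⟩, P.mem z⟩, 1, fun h => z1 (congrArg (fun a : D => ((a : T) : G)) h)⟩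
  · by_contra hne
    have ht' := P.symm (Ben.sq_of_two ht).1 hv (P.odd_mem hvo ht hvt)
    have hs' := P.symm (Ben.sq_of_two hs).1 hv (P.odd_mem hvo hs hvs)
    obtain ⟨T, hT⟩ := exists_isSylowOf 2 (P.c v)
    have hTn := Transfer.le_normalizer_of_isSylowOf_of_nilpotent hT (hnil v hv)
    have k : ∀ t ∈ P.c v, orderOf t = 2 → t ∈ T := fun t ht ho =>
      hT.le_of_le_normalizer' (FGS.isPGroup_zpowers (k := 1) (by rw [ho, pow_one]))
        (Subgroup.zpowers_le.2 ht) (Subgroup.zpowers_le.2 (hTn ht)) (mem_zpowers t)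
    obtain ⟨m, -, hm⟩ := hS.exists_conj_le hT.isPGroup le_top
    have k2 : ∀ t ∈ T, m * t * m⁻¹ ∈ S := fun t ht =>
      hm (FGS.mem_conj_iff.2 (by simpa [mul_assoc] using ht))
    have v1 : m * v * m⁻¹ ≠ 1 := by rwa [Ne, conj_eq_one_iff]
    have t1 := P.conj m hv ht'
    have s1 := P.conj m hv hs'
    have t2 := (ord_conj m t).trans ht
    have s2 := (ord_conj m s).trans hs
    have hne' : m * t * m⁻¹ ≠ m * s * m⁻¹ := by simpa using hne
    have k3 : ∀ a ∈ P.c (m * v * m⁻¹), a ≠ 1 → a ∈ P.c z → False := fun a ha a1 ha' => by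
      rw [P.eq_of_mem v1 z1 a1 ha ha'] at t1 s1
      exact hne' ((P.invol_eq hz hc h0 h1 hu hn hg t1 t2).trans (P.invol_eq hz hc h0 h1 hu hn hg s1 s2).symm)
    refine k3 _ (mul_mem t1 s1) (fun h => hne' ?_) (P.out_mul hz hc h0 h1 (k2 t (k t ht' ht))
      (k3 _ t1 (Ben.sq_of_two t2).1) (k2 s (k s hs' hs)) (k3 _ s1 (Ben.sq_of_two s2).1))
    rw [mul_eq_one_iff_eq_inv.1 h, ← mul_eq_one_iff_eq_inv.1 (Ben.sq_of_two s2).2]

include hnil hF hS hzS hz hc h0 h1 in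
theorem caseIIB (hn : ¬ S ≤ P.c z) (h : ∀ u ∈ S, u ∉ P.c z → ∀ g : G, g * u * g⁻¹ ∉ P.c z) :
    False := by
  have : Fact (Nat.Prime 2) := ⟨Nat.prime_two⟩
  obtain ⟨z1, z2⟩ := Ben.sq_of_two hz
  obtain ⟨T, rfl⟩ := hS.exists_sylow_top
  have hR : ∀ x ∈ pResidual 2 G, x ∈ (T : Subgroup G) → x ∈ P.c z := fun x hx hxT => by
    by_contra e
    have k1 : Odd (T : Subgroup G).index := Nat.not_even_iff_odd.1 fun h => T.not_dvd_index h.two_dvd
    obtain ⟨M, _, hM, hxM⟩ := Transfer.thompson_transfer k1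
      (P.relIndex_two hz hc h0 h1 hn) (P.out_two hz hc hxT e) (h x hxT e)
    have k2 : pResidual 2 G ≤ M :=
      Transfer.pResidual_le_of_index_eq_pow (k := 1) (by rw [hM, pow_one])
    exact hxM (k2 hx)
  obtain ⟨N, hN⟩ : ∃ N : Subgroup G, N = pResidual 2 G ⊔ (T ⊓ P.c z) := ⟨_, rfl⟩
  have hTN : (T : Subgroup G) ≤ normalizer (P.c z : Set G) := fun x hx =>
    P.mem_norm_of_comm z1 (hc x hx)
  have hNn : N.Normal := normal_of_le_normalizer (by
    rw [← Transfer.pResidual_sup_sylow T]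
    refine sup_le ((le_sup_left.trans hN.ge).trans le_normalizer) ?_
    rw [hN]
    exact le_normalizer_sup le_normalizer_of_normal (le_normalizer_inf le_normalizer hTN))
  have hTN' : ∀ x ∈ N, x ∈ (T : Subgroup G) → x ∈ P.c z := fun x hx hxT => by
    rw [hN] at hx
    obtain ⟨a, ha, b, hb, rfl⟩ := mem_sup_of_normal_left.1 hx
    exact mul_mem (hR a ha ((mul_mem_cancel_right (mem_inf.1 hb).1).1 hxT)) hb.2
  have hHN : P.c z ≤ N := fun x hx => by
    obtain ⟨a, b, ha, hb, rfl, -, ⟨k, hk⟩, hbo⟩ := FGS.exists_pPart 2 x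
    have ha' := Subgroup.zpowers_le.2 hx ha
    have hT := hS.inf_of_normal le_top hTN
    rw [hN]
    exact mul_mem (mem_sup_right (hT.le_of_le_normalizer' (FGS.isPGroup_zpowers hk)
      (Subgroup.zpowers_le.2 ha') ((Subgroup.zpowers_le.2 ha').trans
        (Transfer.le_normalizer_of_isSylowOf_of_nilpotent hT (hnil z z1))) (mem_zpowers a)))
      (mem_sup_left (Transfer.mem_pResidual_of_coprime hbo))
  have hNP : ∀ g, g ≠ 1 → ¬ N ≤ P.c g := fun g hg e => by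
    have h2 := le_fitting hNn (nilpotent_of_le e (hnil g hg)) (hHN (P.mem z))
    rw [hF] at h2
    exact z1 (mem_bot.1 h2)
  have hFN : fittingSubgroup N = ⊥ := by rw [fitting_eq_subgroupOf, hF, bot_subgroupOf]
  have hsyl : IsSylowOf 2 ((T ⊓ N : Subgroup G).subgroupOf N) ⊤ := by
    rw [← subgroupOf_self N]
    exact (isSylowOf_sylow_inf_normal T N).subgroupOf le_rfl
  obtain ⟨-, e, hab⟩ := (P.sub N hNP).caseI (fun g hg =>
      nilpotent_subgroupOf (K := N) (hnil g fun e => hg (Subtype.ext e))) hFN hsyl (z := ⟨z, hHN (P.mem z)⟩)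
    (fun e => z1 (congrArg Subtype.val e)) fun x hx => hTN' x x.2 hx.1
  rw [← e] at hab
  exact h1 (congrArg Subtype.val (hab (fun x hx y hy => Subtype.ext (P.in_comm hz hc hn hx hy))
    ⟨h₀, hHN h0⟩ h0))

end

include hnil hF in
theorem two_struct [Nontrivial G] : ZT G ∨ (GW.DihSyl G ∧ UI G) := by
  have : Fact (Nat.Prime 2) := ⟨Nat.prime_two⟩
  obtain ⟨S, hS⟩ := exists_isSylowOf 2 (⊤ : Subgroup G)
  by_cases h : ∀ z ∈ S, orderOf z = 2 → (∀ x ∈ S, x * z = z * x) → ∀ y ∈ P.c z, y * y = 1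
  · exact Or.inl (P.caseC hF hS h)
  push Not at h
  obtain ⟨z, hzS, hz, hc, h₀, h0, h1⟩ := h
  by_cases hn : S ≤ P.c z
  · exact Or.inl (P.caseI hnil hF hS (Ben.sq_of_two hz).1 hn).1
  by_cases h : ∀ u ∈ S, u ∉ P.c z → ∀ g : G, g * u * g⁻¹ ∉ P.c z
  · exact (P.caseIIB hnil hF hS hzS hz hc h0 h1 hn h).elim
  push Not at h
  obtain ⟨u, hu, hn', g, hg⟩ := h
  exact Or.inr (P.caseIIA hnil hS hzS hz hc h0 h1 hu hn' hg)

end Prt

end Cfsg.Agent.Part
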