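import Mathlib
import Cfsg.Agent.Part.Two
import Cfsg.Agent.Part.Solv
import Cfsg.Agent.GW.Main
import Cfsg.Agent.GW.K

set_option autoImplicit false
set_option linter.unusedSectionVars false

/-! Groups with dihedral Sylow 2-subgroups in which no element of odd order centralises two
involutions, and the classification of partitioned groups. -/

namespace Cfsg.Agent.Part

open Subgroup Core GW PLocal Classical.AutPSL Classical.AutPSL2
open scoped MatrixGroups

variable {G : Type*} [Group G] [Finite G]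

theorem oOf_top (hF : fittingSubgroup G = ⊥) : oOf (⊤ : Subgroup G) = ⊥ := by
  by_contra e
  have : (oOf (⊤ : Subgroup G)).Normal := inferInstance
  have := fitting_ne_bot_of_solvable_normal (oOf (⊤ : Subgroup G)) (solv_of_odd (odd_oOf _)) e
  rw [hF, bot_inf_eq] at this
  exact this rfl

theorem layOf_top [Nontrivial G] (hF : fittingSubgroup G = ⊥) : layOf (⊤ : Subgroup G) ≠ ⊥ :=
  fun e => by
  have h1 : fitOf (⊤ : Subgroup G) = ⊥ := by
    unfold fitOf
    rw [map_fitting_subtype, hF, bot_inf_eq]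
  have := le_fitOf_of_lay e le_rfl (by rw [h1]; exact le_centralizer_bot _)
  rw [h1] at this
  exact top_ne_bot (le_bot_iff.1 this)

theorem rep_top {A : Type*} [Group A] {L : Subgroup A} {f : G → A} (hF : fittingSubgroup G = ⊥)
    (h : Rep ⊤ L f) : ∃ φ : G →* A, Function.Injective φ ∧ L ≤ φ.range ∧ ∀ g, φ g = f g := by
  refine ⟨MonoidHom.mk' f fun a b => h.mul a trivial b trivial, (injective_iff_map_eq_one _).2
    fun a ha => ?_, fun x hx => ?_, fun _ => rfl⟩
  · have := (h.ker a trivial).1 ha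
    rwa [oOf_top hF, mem_bot] at this
  · obtain ⟨e, -, he⟩ := (h.lay x).1 hx
    exact ⟨e, he⟩

theorem UI.range {A : Type*} [Group A] (hU : UI G) {φ : G →* A} (hφ : Function.Injective φ)
    {v t s : A} (hv : v ∈ φ.range) (ht : t ∈ φ.range) (hs : s ∈ φ.range) (h1 : v ≠ 1)
    (h2 : Odd (orderOf v)) (h3 : orderOf t = 2) (h4 : orderOf s = 2) (h5 : v * t = t * v)
    (h6 : v * s = s * v) : t = s := by
  obtain ⟨v, rfl⟩ := hv
  obtain ⟨t, rfl⟩ := ht
  obtain ⟨s, rfl⟩ := hs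
  rw [orderOf_injective φ hφ] at h2 h3 h4
  rw [← map_mul, ← map_mul, hφ.eq_iff] at h5 h6
  rw [hU v t s (fun e => h1 (by rw [e, map_one])) h2 h3 h4 h5 h6]

theorem odd_of_dih {A : Type*} [Group A] (hD : DihSyl G) (ψ : G →* A)
    (h : ∀ s, orderOf s = 2 → ψ s = 1) (g : G) : Odd (orderOf (ψ g)) := by
  obtain ⟨S, x, y, n, hS⟩ := hD
  have h1 : ∀ t ∈ (S : Subgroup G), t ∉ zpowers x → t ∈ ψ.ker := fun t ht ht' =>
    h t (two_of_sq (fun e => ht' (e ▸ one_mem _)) (hS.sq_one ht ht'))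
  have hy := h1 y hS.y_mem hS.ny
  have h2 : (S : Subgroup G) ≤ ψ.ker := fun t ht => by
    by_cases e : t ∈ zpowers x
    · exact (mul_mem_cancel_right hy).1 (h1 _ (mul_mem ht hS.y_mem)
        fun e' => hS.ny ((mul_mem_cancel_left e).1 e'))
    · exact h1 t ht e
  have : Fact (Nat.Prime 2) := ⟨Nat.prime_two⟩
  have h3 : Odd ψ.ker.index := Nat.not_even_iff_odd.1 fun e =>
    FGS.not_dvd_index_of_sylow_le S h2 e.two_dvd
  refine h3.of_dvd_nat (orderOf_dvd_of_pow_eq_one ?_)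
  rw [← map_pow]
  exact pow_index_mem ψ.ker g

section

variable {F : Type} [Field F] [Fintype F]

theorem le_range_dA (h2 : (2 : F) ≠ 0) (hD : DihSyl G) (hU : UI G) {φ : G →* MulAut PSL(2, F)}
    (hφ : Function.Injective φ) (hL : Inn PSL(2, F) ≤ φ.range)
    (h : ∀ s, orderOf s = 2 → ∃ w : GL (Fin 2) F, dA w = φ s) :
    φ.range ≤ (dA : GL (Fin 2) F →* _).range := by
  obtain ⟨ρ, h1, h3⟩ := PG.exists_decomp' (F := F)
  rintro _ ⟨g, rfl⟩
  have ho : Odd (orderOf (ρ (φ g))) := odd_of_dih hD (ρ.comp φ) (fun s hs => by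
    obtain ⟨w, hw⟩ := h s hs
    rw [MonoidHom.comp_apply, ← hw, h1]) g
  obtain ⟨k, hk⟩ := h3 (φ g)
  set σ := ρ (φ g)
  suffices e : σ = 1 from ⟨k, by rw [hk, e, map_one, mul_one]⟩
  have : Finite (F ≃+* F) := finite_ringAut
  have h4 : fA (Fin 2) (σ * σ) ∈ φ.range := by
    have e : φ (g * g) = dA (k * Matrix.GeneralLinearGroup.map σ.toRingHom k) *
        fA (Fin 2) (σ * σ) := by
      rw [map_mul, hk, map_mul, map_mul, mul_assoc, ← mul_assoc (fA _ σ), fA_mul_dA]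
      simp only [mul_assoc]
    refine (mul_mem_cancel_left (hL (PG.dA_mem_inn.2 ?_))).1 ⟨g * g, e⟩
    rw [Units.val_mul, Matrix.det_mul]
    convert PG.sq_mul_map σ k.1.det
    exact (σ.toRingHom.map_det k.1).symm
  by_contra hσ
  have h5 : σ * σ ≠ 1 := fun e => hσ (orderOf_eq_one_iff.1
    ((Nat.coprime_two_right.2 ho).eq_one_of_dvd (orderOf_dvd_of_pow_eq_one (by rw [sq, e]))))
  let a : GL (Fin 2) F := Matrix.GeneralLinearGroup.mkOfDetNeZero !![0, 1; -1, 0]
    (by simp [Matrix.det_fin_two])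
  let b : GL (Fin 2) F := Matrix.GeneralLinearGroup.mkOfDetNeZero !![1, -2; 1, -1]
    (by simp [Matrix.det_fin_two]; norm_num)
  have ha : a.1 = !![0, 1; -1, 0] := rfl
  have hb : b.1 = !![1, -2; 1, -1] := rfl
  have k1 : ∀ c : GL (Fin 2) F, c.1.map (σ * σ) = c.1 →
      fA (Fin 2) (σ * σ) * dA c = dA c * fA (Fin 2) (σ * σ) := fun c hc => by
    rw [fA_mul_dA, show Matrix.GeneralLinearGroup.map (σ * σ).toRingHom c = c from Units.ext hc]
  have e := hU.range hφ h4 (t := dA a) (s := dA b)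
    (hL (PG.mem_inn.2 ⟨a, by simp [ha, Matrix.det_fin_two], rfl⟩))
    (hL (PG.mem_inn.2 ⟨b, by simp [hb, Matrix.det_fin_two]; norm_num, rfl⟩))
    (fun e => h5 (fA_injective (e.trans (map_one _).symm)))
    (by rw [orderOf_injective _ fA_injective, ← sq]; exact ho.of_dvd_nat (orderOf_pow_dvd 2))
    (PG.two_of_tl h2 (by simp [ha, Matrix.trace_fin_two]))
    (PG.two_of_tl h2 (by simp [hb, Matrix.trace_fin_two]))
    (k1 a (by rw [ha]; ext i j; fin_cases i <;> fin_cases j <;> simp))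
    (k1 b (by rw [hb]; ext i j; fin_cases i <;> fin_cases j <;> simp [map_ofNat]))
  obtain ⟨c, hc⟩ := PG.dA_eq.1 e
  have e1 := congrFun (congrFun hc 0) 0
  have e2 := congrFun (congrFun hc 1) 0
  simp [ha, hb] at e1 e2
  rw [← e1] at e2
  simp at e2

theorem eq_inn_or {X : Subgroup (MulAut PSL(2, F))} (h1 : Inn PSL(2, F) ≤ X)
    (h2 : X ≤ (dA : GL (Fin 2) F →* _).range) :
    X = Inn PSL(2, F) ∨ X = (dA : GL (Fin 2) F →* _).range := by
  by_cases e : X ≤ Inn PSL(2, F)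
  · exact Or.inl (le_antisymm e h1)
  obtain ⟨x, hx, hx'⟩ := SetLike.not_le_iff_exists.1 e
  obtain ⟨k, rfl⟩ := h2 hx
  refine Or.inr (le_antisymm h2 ?_)
  rintro _ ⟨g, rfl⟩
  by_cases e : dA g ∈ Inn PSL(2, F)
  · exact h1 e
  refine (mul_mem_cancel_right hx).1 (h1 ?_)
  rw [← map_mul, PG.dA_mem_inn, Units.val_mul, Matrix.det_mul]
  exact PG.sq_mul (mt PG.dA_mem_inn.2 e) (mt PG.dA_mem_inn.2 hx')

theorem conj_injective : Function.Injective (MulAut.conj : PSL(2, F) →* _) := by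
  refine (injective_iff_map_eq_one _).2 fun x hx => ?_
  obtain ⟨s, rfl⟩ := QuotientGroup.mk_surjective x
  rw [← dA_toGL, dA_eq_one_iff] at hx
  refine (QuotientGroup.eq_one_iff s).2 (mem_center_iff.2 fun g => ?_)
  exact Matrix.SpecialLinearGroup.toGL_injective (by
    rw [map_mul, map_mul]; exact mem_center_iff.1 hx _)

end

theorem dih_known [Nontrivial G] (hF : fittingSubgroup G = ⊥) (hD : DihSyl G) (hU : UI G) :
    ∃ (F : Type) (_ : Field F) (_ : Fintype F), 5 ≤ Fintype.card F ∧ Odd (Fintype.card F) ∧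
      (Nonempty (G ≃* PSL(2, F)) ∨ Nonempty (G ≃* (GL (Fin 2) F ⧸ center (GL (Fin 2) F)))) := by
  have : Fact (Nat.Prime 2) := ⟨Nat.prime_two⟩
  have hM : Nat.card (⊤ : Subgroup G) < Nat.card (G × G) := by
    rw [card_top, Nat.card_prod]
    exact (Nat.lt_mul_iff_one_lt_right Nat.card_pos).2 Finite.one_lt_card
  rcases shape (ih_all (G × G)) hD hM (layOf_top hF) with ⟨F, _, _, h2, h3, -, f, hf, hs⟩ | h
  · obtain ⟨φ, hφ, hL, e⟩ := rep_top hF hf
    have ho : Odd (Fintype.card F) := FiniteField.odd_card_of_char_ne_two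
      (fun h => h2 (by simpa [h] using ringChar.spec F 2)) |> Nat.odd_iff.2
    refine ⟨F, inferInstance, inferInstance, ?_, ho, ?_⟩
    · obtain ⟨k, hk⟩ := ho
      omega
    have e1 := MonoidHom.ofInjective hφ
    rcases eq_inn_or hL (le_range_dA h2 hD hU hφ hL fun s h => by
      obtain ⟨w, -, hw⟩ := hs s trivial h
      exact ⟨w, hw.trans (e s).symm⟩) with h | h
    · rw [h] at e1
      exact Or.inl ⟨e1.trans (MonoidHom.ofInjective conj_injective).symm⟩
    · rw [h] at e1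
      exact Or.inr ⟨e1.trans pglEquiv.symm⟩
  · obtain ⟨t, ht⟩ := exists_prime_orderOf_dvd_card' 2 (even_card hF).two_dvd
    obtain ⟨f, hf, -, -⟩ := h t trivial ht
    obtain ⟨φ, hφ, hL, -⟩ := rep_top hF hf
    obtain ⟨-, -, a, -, -, b, -, c, -, d, e, g, i, -⟩ := A7.small
    exact absurd (hU.range hφ (hL e) (hL a) (hL b) d (by rw [A7.three_k0]; decide) A7.two_t0
      A7.nci_s0.1 g i).symm c

theorem Prt.main (P : Prt G) [Nontrivial G] : Nonempty (G ≃* Equiv.Perm (Fin 4)) ∨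
    (∃ p : ℕ, p.Prime ∧ closure {g : G | g ^ p ≠ 1} ≠ ⊤) ∨
    (∃ H : Subgroup G, IsFrobeniusComplement H) ∨ (fittingSubgroup G = ⊥ ∧ (ZT G ∨
    ∃ (F : Type) (_ : Field F) (_ : Fintype F), 5 ≤ Fintype.card F ∧ Odd (Fintype.card F) ∧
      (Nonempty (G ≃* PSL(2, F)) ∨ Nonempty (G ≃* (GL (Fin 2) F ⧸ center (GL (Fin 2) F)))))) := by
  by_cases hH : ∃ p : ℕ, p.Prime ∧ closure {g : G | g ^ p ≠ 1} ≠ ⊤
  · exact Or.inr (Or.inl hH)
  by_cases hF : ∃ H : Subgroup G, IsFrobeniusComplement H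
  · exact Or.inr (Or.inr (Or.inl hF))
  push Not at hH
  have hnil : ∀ g : G, g ≠ 1 → Group.IsNilpotent (P.c g) := fun g hg => P.nilpotent_of_nf hF hg
  by_cases h0 : fittingSubgroup G = ⊥
  · refine Or.inr (Or.inr (Or.inr ⟨h0, ?_⟩))
    exact (P.two_struct hnil h0).imp_right fun h => dih_known h0 h.1 h.2
  · exact Or.inl (P.caseA hnil hH hF h0)

end Cfsg.Agent.Part
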