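import Mathlib
import Cfsg.Agent.Perm.Conj

/-!
# Rank 3 groups with a Frobenius suborbit: set-up
-/

set_option autoImplicit false

namespace Cfsg.Agent.Part.Rk

open MulAction Finset Subgroup

/-- A free action on a finite set has order dividing its size. -/
theorem dvd_card_of_free {G Y : Type*} [Group G] [Finite G] (Q : Subgroup G) (T : Finset Y)
    (φ : G → Y → Y) (h1 : ∀ y, φ 1 y = y) (hm : ∀ g h y, φ (g * h) y = φ g (φ h y))
    (hT : ∀ g ∈ Q, ∀ y ∈ T, φ g y ∈ T) (hf : ∀ g ∈ Q, ∀ y ∈ T, φ g y = y → g = 1) :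
    Nat.card Q ∣ T.card := by
  letI : MulAction Q {y // y ∈ T} :=
    { smul := fun g y => ⟨φ g y, hT g g.2 y y.2⟩
      one_smul := fun y => Subtype.ext (h1 y)
      mul_smul := fun g h y => Subtype.ext (hm g h y) }
  have := Cfsg.Agent.Perm.card_dvd_of_semiregular (G := Q) (α := {y // y ∈ T})
    (fun g hg a ha => hg (Subtype.ext (hf g g.2 a a.2 (congrArg Subtype.val ha))))
  simpa using this

theorem orb_card {G X : Type*} [Group G] [Finite G] [MulAction G X] (Q : Subgroup G) (x : X)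
    (T : Finset X) (h : ∀ y, y ∈ T ↔ ∃ g ∈ Q, g • x = y) :
    T.card * Nat.card ↥(Q ⊓ stabilizer G x) = Nat.card Q := by
  have e1 : (T : Set X) = orbit Q x := by
    ext y
    rw [Finset.mem_coe, h, mem_orbit_iff]
    exact ⟨fun ⟨g, h1, h2⟩ => ⟨⟨g, h1⟩, h2⟩, fun ⟨g, h2⟩ => ⟨g, g.2, h2⟩⟩
  have e2 : stabilizer Q x = (Q ⊓ stabilizer G x).subgroupOf Q := by
    ext g; simp [mem_subgroupOf, Subgroup.smul_def]
  rw [← Set.ncard_coe_finset, e1, ← index_stabilizer, ← (stabilizer Q x).index_mul_card, e2,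
    Nat.card_congr (subgroupOfEquivOfLe inf_le_left).toEquiv]

theorem even_card_of_invol {Y : Type*} (T : Finset Y) (f : ∀ y ∈ T, Y)
    (h1 : ∀ y hy, f y hy ≠ y) (h2 : ∀ y hy, f y hy ∈ T) (h3 : ∀ y hy, f (f y hy) (h2 y hy) = y) :
    Even T.card := by
  have : ∑ _y ∈ T, (1 : ZMod 2) = 0 :=
    Finset.sum_involution f (fun _ _ => by decide) (fun a ha _ => h1 a ha) h2 h3
  rw [Finset.sum_const, nsmul_eq_mul, mul_one] at this
  exact (ZMod.natCast_eq_zero_iff_even).mp this

theorem card_sub_eq {G : Type*} [Group G] [Fintype G] (Q : Subgroup G) [DecidablePred (· ∈ Q)] :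
    (univ.filter (· ∈ Q)).card = Nat.card Q := by
  rw [Nat.card_eq_fintype_card, Fintype.card_subtype]

variable (G X : Type*) [Group G] [Fintype G] [Fintype X] [MulAction G X]

/-- The configuration. -/
structure St where
  adj : X → X → Prop
  symm : ∀ {x y}, adj x y → adj y x
  irr : ∀ x, ¬ adj x x
  inv : ∀ (g : G) {x y}, adj x y → adj (g • x) (g • y)
  tr0 : ∀ x y : X, ∃ g : G, g • x = y
  tr1 : ∀ {x y x' y'}, adj x y → adj x' y' → ∃ g : G, g • x = x' ∧ g • y = y'
  tr2 : ∀ {x y x' y'}, x ≠ y → ¬ adj x y → x' ≠ y' → ¬ adj x' y' → ∃ g : G, g • x = x' ∧ g • y = y'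
  frob : ∀ {g : G} {v a b}, g • v = v → adj v a → adj v b → a ≠ b → g • a = a → g • b = b → g = 1
  K : X → Subgroup G
  memK : ∀ v g, g ∈ K v ↔ g • v = v ∧ (g = 1 ∨ ∀ a, adj v a → g • a ≠ a)
  nil : ∀ v, Group.IsNilpotent (K v)
  regK : ∀ {v a b}, adj v a → adj v b → ∃ g ∈ K v, g • a = b
  A : X
  B : X
  C : X
  AB : adj A B
  BC : adj B C
  AC : ¬ adj A C
  ACne : A ≠ C
  ex1 : ∃ C', A ≠ C' ∧ ¬ adj A C' ∧ adj C C'
  ex3 : ∃ g : G, g ≠ 1 ∧ g • A = A ∧ g • B = B
  even : Even (Nat.card G)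

variable {G X}

/-- Two-point stabilizer. -/
def S2 (G : Type*) {X : Type*} [Group G] [MulAction G X] (x y : X) : Subgroup G :=
  stabilizer G x ⊓ stabilizer G y

theorem mem_S2 {G X : Type*} [Group G] [MulAction G X] {x y : X} {g : G} :
    g ∈ S2 G x y ↔ g • x = x ∧ g • y = y := Iff.rfl

theorem card_conj_eq {G : Type*} [Group G] (P Q : Subgroup G) (g : G)
    (h : ∀ a, a ∈ P ↔ g * a * g⁻¹ ∈ Q) : Nat.card P = Nat.card Q := by
  refine Nat.card_congr ⟨fun a => ⟨g * a * g⁻¹, (h a).mp a.2⟩,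
    fun b => ⟨g⁻¹ * b * g, (h _).mpr (by simpa [mul_assoc] using b.2)⟩, fun a => ?_, fun b => ?_⟩
  · ext; simp [mul_assoc]
  · ext; simp [mul_assoc]

theorem conj_fix {G X : Type*} [Group G] [MulAction G X] (g a : G) (x : X) :
    (g * a * g⁻¹) • (g • x) = g • x ↔ a • x = x := by
  simp [mul_smul]

theorem card_S2_smul {G X : Type*} [Group G] [MulAction G X] (g : G) (x y : X) :
    Nat.card (S2 G x y) = Nat.card (S2 G (g • x) (g • y)) :=
  card_conj_eq _ _ g fun a => by simp only [mem_S2, conj_fix]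

theorem card_filter_smul (g : G) (p q : X → Prop) [DecidablePred p] [DecidablePred q]
    (h : ∀ x, p x ↔ q (g • x)) : (univ.filter p).card = (univ.filter q).card :=
  Finset.card_equiv (MulAction.toPerm g) (by simpa using h)

namespace St

variable (s : St G X)

/-- Distinct and non-adjacent. -/
def na (x y : X) : Prop := x ≠ y ∧ ¬ s.adj x y

variable {s}

theorem adj_smul (g : G) (x y : X) : s.adj (g • x) (g • y) ↔ s.adj x y :=
  ⟨fun h => by simpa using s.inv g⁻¹ h, s.inv g⟩

theorem na_smul (g : G) (x y : X) : s.na (g • x) (g • y) ↔ s.na x y := by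
  simp [na, adj_smul]

theorem na.symm {x y : X} (h : s.na x y) : s.na y x := ⟨h.1.symm, fun h' => h.2 (s.symm h')⟩

theorem adj_ne {x y : X} (h : s.adj x y) : x ≠ y := fun e => s.irr x (e ▸ h)

theorem naAC : s.na s.A s.C := ⟨s.ACne, s.AC⟩

theorem tri (x y : X) : x = y ∨ s.adj x y ∨ s.na x y := by
  unfold na; tauto

theorem trn {x y x' y' : X} (h : s.na x y) (h' : s.na x' y') : ∃ g : G, g • x = x' ∧ g • y = y' :=
  s.tr2 h.1 h.2 h'.1 h'.2

variable (s)

open Classical in
/-- Neighbours. -/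
noncomputable def N (v : X) : Finset X := univ.filter (s.adj v)
open Classical in
/-- Non-neighbours. -/
noncomputable def Γ (v : X) : Finset X := univ.filter (s.na v)

noncomputable def k : ℕ := (s.N s.A).card
noncomputable def l : ℕ := (s.Γ s.A).card
noncomputable def m : ℕ := Nat.card (S2 G s.A s.B)
noncomputable def el : ℕ := Nat.card (S2 G s.A s.C)
open Classical in
noncomputable def lam : ℕ := (s.N s.A ∩ s.N s.B).card
open Classical in
noncomputable def mu : ℕ := (s.N s.A ∩ s.N s.C).card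

variable {s}

@[simp] theorem mem_N {v x : X} : x ∈ s.N v ↔ s.adj v x := by simp [N]
@[simp] theorem mem_Γ {v x : X} : x ∈ s.Γ v ↔ s.na v x := by simp [Γ]

theorem card_N (v : X) : (s.N v).card = s.k := by
  classical
  obtain ⟨g, rfl⟩ := s.tr0 s.A v
  unfold k N
  exact (card_filter_smul g _ _ fun x => (adj_smul g _ _).symm).symm

theorem card_Γ (v : X) : (s.Γ v).card = s.l := by
  classical
  obtain ⟨g, rfl⟩ := s.tr0 s.A v
  unfold l Γ
  exact (card_filter_smul g _ _ fun x => (na_smul g _ _).symm).symm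

theorem card_S2_adj {x y : X} (h : s.adj x y) : Nat.card (S2 G x y) = s.m := by
  obtain ⟨g, rfl, rfl⟩ := s.tr1 s.AB h
  exact (card_S2_smul g _ _).symm

theorem card_S2_na {x y : X} (h : s.na x y) : Nat.card (S2 G x y) = s.el := by
  obtain ⟨g, rfl, rfl⟩ := trn naAC h
  exact (card_S2_smul g _ _).symm

open Classical in
theorem card_inter_smul (g : G) (p q p' q' : X → Prop) (hp : ∀ x, p x ↔ p' (g • x))
    (hq : ∀ x, q x ↔ q' (g • x)) :
    (univ.filter p ∩ univ.filter q).card = (univ.filter p' ∩ univ.filter q').card := by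
  rw [← filter_and, ← filter_and]
  exact card_filter_smul g _ _ fun x => by rw [hp, hq]

open Classical in
theorem card_lam {x y : X} (h : s.adj x y) : (s.N x ∩ s.N y).card = s.lam := by
  obtain ⟨g, rfl, rfl⟩ := s.tr1 s.AB h
  exact (card_inter_smul g _ _ _ _ (fun x => (adj_smul g _ _).symm)
    (fun x => (adj_smul g _ _).symm)).symm

open Classical in
theorem card_mu {x y : X} (h : s.na x y) : (s.N x ∩ s.N y).card = s.mu := by
  obtain ⟨g, rfl, rfl⟩ := trn naAC h
  exact (card_inter_smul g _ _ _ _ (fun x => (adj_smul g _ _).symm)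
    (fun x => (adj_smul g _ _).symm)).symm

theorem card_X : Fintype.card X = 1 + s.k + s.l := by
  classical
  have : (univ : Finset X) = insert s.A (s.N s.A ∪ s.Γ s.A) := by
    ext x; have := tri (s := s) s.A x; simp; tauto
  rw [← card_univ, this, card_insert_of_notMem (by simp [s.irr, na]),
    card_union_of_disjoint (by rw [disjoint_left]; intro a h1 h2; simp [na] at h1 h2; tauto)]
  unfold k l; ring

theorem card_stab_k (v : X) : s.k * s.m = Nat.card (stabilizer G v) := by
  obtain ⟨g, rfl⟩ := s.tr0 s.A v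
  have h := s.inv g s.AB
  rw [← card_N (g • s.A), ← card_S2_adj h]
  exact orb_card _ _ _ fun y => by
    rw [mem_N]
    exact ⟨fun h' => let ⟨a, h1, h2⟩ := s.tr1 h h'; ⟨a, h1, h2⟩,
      fun ⟨a, h1, h2⟩ => by rw [← h2, ← (mem_stabilizer_iff.mp h1)]; simpa [h1] using s.inv a h⟩

theorem card_stab_l (v : X) : s.l * s.el = Nat.card (stabilizer G v) := by
  obtain ⟨g, rfl⟩ := s.tr0 s.A v
  have h := (na_smul g _ _).mpr (naAC (s := s))
  rw [← card_Γ (g • s.A), ← card_S2_na h]
  exact orb_card _ _ _ fun y => by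
    rw [mem_Γ]
    refine ⟨fun h' => let ⟨a, h1, h2⟩ := trn h h'; ⟨a, h1, h2⟩, fun ⟨a, h1, h2⟩ => ?_⟩
    have := (na_smul a _ _).mpr h
    rwa [mem_stabilizer_iff.mp h1, h2] at this

theorem km_eq : s.k * s.m = s.l * s.el := by rw [card_stab_k s.A, card_stab_l s.A]

theorem card_G : Nat.card G = Fintype.card X * (s.k * s.m) := by
  have := orb_card (⊤ : Subgroup G) s.A univ fun y => by simpa using s.tr0 s.A y
  rw [top_inf_eq, card_top, card_univ, ← card_stab_k (s := s)] at this
  exact this.symm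

theorem K_fix {v : X} {g : G} (h : g ∈ s.K v) : g • v = v := ((s.memK v g).mp h).1

theorem K_free {v a : X} {g : G} (h : g ∈ s.K v) (ha : s.adj v a) (hg : g • a = a) : g = 1 :=
  ((s.memK v g).mp h).2.resolve_right fun h' => h' a ha hg

theorem K_conj (g : G) (v : X) (a : G) : g * a * g⁻¹ ∈ s.K (g • v) ↔ a ∈ s.K v := by
  rw [s.memK, s.memK, conj_fix]
  refine and_congr_right fun _ => or_congr (by simp [mul_inv_eq_one]) ⟨fun h x hx => ?_, fun h x hx => ?_⟩
  · rw [Ne, ← conj_fix g]; exact h _ (s.inv g hx)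
  · obtain ⟨y, rfl⟩ : ∃ y, g • y = x := ⟨g⁻¹ • x, by simp⟩
    rw [Ne, conj_fix]; exact h _ ((adj_smul g _ _).mp hx)

theorem K_conj' {g : G} {v : X} (hg : g • v = v) {a : G} (ha : a ∈ s.K v) :
    g * a * g⁻¹ ∈ s.K v := by
  have := (K_conj g v a).mpr ha
  rwa [hg] at this

theorem exists_adj (v : X) : ∃ a, s.adj v a := by
  obtain ⟨g, rfl⟩ := s.tr0 s.A v
  exact ⟨_, s.inv g s.AB⟩

theorem card_K (v : X) : Nat.card (s.K v) = s.k := by
  obtain ⟨a, ha⟩ := exists_adj (s := s) v
  have := orb_card (s.K v) a (s.N v) fun y => by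
    rw [mem_N]
    refine ⟨fun h => s.regK ha h, fun ⟨g, h1, h2⟩ => ?_⟩
    have := s.inv g ha
    rwa [K_fix h1, h2] at this
  have e : s.K v ⊓ stabilizer G a = ⊥ := by
    rw [eq_bot_iff]; exact fun g hg => K_free hg.1 ha hg.2
  rw [e, card_bot, mul_one, card_N] at this
  exact this.symm

theorem m_dvd : s.m ∣ s.k - 1 := by
  classical
  have := dvd_card_of_free (S2 G s.A s.B) ((s.N s.A).erase s.B) (fun g x => g • x) (by simp)
    (by simp [mul_smul]) (fun g hg y hy => by
      simp only [mem_erase, mem_N] at hy ⊢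
      refine ⟨fun e => hy.1 (by rw [← hg.2] at e; simpa using e), ?_⟩
      have := s.inv g hy.2
      rwa [hg.1] at this)
    (fun g hg y hy h => by
      simp only [mem_erase, mem_N] at hy
      exact s.frob hg.1 s.AB hy.2 (Ne.symm hy.1) hg.2 h)
  rwa [card_erase_of_mem (by simpa using s.AB)] at this

theorem one_lt_m : 1 < s.m := by
  obtain ⟨g, h1, h2⟩ := s.ex3
  exact (one_lt_card_iff_ne_bot _).mpr fun e => h1 (by
    have : g ∈ S2 G s.A s.B := h2
    rwa [e] at this)

theorem two_le_k : 2 ≤ s.k := by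
  classical
  rw [← card_N s.B]
  exact one_lt_card.mpr ⟨s.A, by simpa using s.symm s.AB, s.C, by simpa using s.BC, s.ACne⟩

theorem m_lt_k : s.m < s.k := by
  have := Nat.le_of_dvd (by have := two_le_k (s := s); omega) (m_dvd (s := s))
  have := two_le_k (s := s); omega

theorem cop : Nat.Coprime s.k s.m := by
  obtain ⟨w, hw⟩ := m_dvd (s := s)
  have := two_le_k (s := s)
  have : s.k = 1 + s.m * w := by omega
  rw [this]; simp

theorem el_pos : 0 < s.el := Nat.card_pos

theorem pow_k {v : X} {g : G} (h : g ∈ s.K v) : g ^ s.k = 1 := by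
  have := pow_card_eq_one' (G := s.K v) (x := ⟨g, h⟩)
  rw [card_K] at this
  exact congrArg Subtype.val this

theorem pow_m {v a : X} {g : G} (ha : s.adj v a) (h1 : g • v = v) (h2 : g • a = a) :
    g ^ s.m = 1 := by
  have := pow_card_eq_one' (G := S2 G v a) (x := ⟨g, h1, h2⟩)
  rw [card_S2_adj ha] at this
  exact congrArg Subtype.val this

theorem exists_fix {v : X} {g : G} (h : g • v = v) (hK : g ∉ s.K v) :
    ∃ a, s.adj v a ∧ g • a = a := by
  rw [s.memK] at hK
  push Not at hK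
  exact (hK h).2

theorem mem_K_of_pow {v : X} {g : G} (h : g • v = v) {j : ℕ} (hj : g ^ j = 1)
    (hc : Nat.Coprime j s.m) : g ∈ s.K v := by
  by_contra hK
  obtain ⟨a, ha, h2⟩ := exists_fix h hK
  have := pow_gcd_eq_one.mpr ⟨hj, pow_m ha h h2⟩
  rw [hc, pow_one] at this
  exact hK (this ▸ one_mem _)

theorem K_of_K {v w : X} {g : G} (h : g ∈ s.K v) (hw : g • w = w) : g ∈ s.K w :=
  mem_K_of_pow hw (pow_k h) cop

theorem mem_K_of_comm {v : X} {g y : G} (h : g • v = v) (hy : y ∈ s.K v) (h1 : y ≠ 1)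
    (hc : g * y = y * g) : g ∈ s.K v := by
  by_contra hK
  obtain ⟨a, ha, h2⟩ := exists_fix h hK
  have h3 : s.adj v (y • a) := by have := s.inv y ha; rwa [K_fix hy] at this
  have h4 : g • y • a = y • a := by rw [← mul_smul, hc, mul_smul, h2]
  refine hK ((s.frob h ha h3 (fun e => h1 (K_free hy ha e.symm)) h2 h4) ▸ one_mem _)

open Classical in
/-- Fixed points. -/
noncomputable def fx (g : G) : Finset X := univ.filter fun v => g • v = v

@[simp] theorem mem_fx {g : G} {v : X} : v ∈ fx (X := X) g ↔ g • v = v := by simp [fx]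

theorem even_fx {g : G} (h : g ^ s.k ≠ 1) : Even (fx (X := X) g).card := by
  have h1 : g ≠ 1 := by rintro rfl; simp at h
  have ex : ∀ v ∈ fx (X := X) g, ∃ a, s.adj v a ∧ g • a = a := fun v hv =>
    exists_fix (mem_fx.mp hv) fun hK => h (pow_k hK)
  choose f hf1 hf2 using ex
  refine even_card_of_invol _ f (fun y hy => (adj_ne (hf1 y hy)).symm)
    (fun y hy => mem_fx.mpr (hf2 y hy)) fun y hy => ?_
  by_contra hne
  exact h1 (s.frob (hf2 y hy) (hf1 _ _) (s.symm (hf1 y hy)) hne (hf2 _ _) (mem_fx.mp hy))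

theorem el_dvd_mu : s.el ∣ s.mu := by
  classical
  refine dvd_card_of_free (S2 G s.A s.C) _ (fun g x => g • x) (by simp) (by simp [mul_smul])
    (fun g hg y hy => ?_) fun g hg y hy h => ?_
  · simp only [mem_inter, mem_N] at hy ⊢
    have h1 := s.inv g hy.1
    have h2 := s.inv g hy.2
    rw [hg.1] at h1; rw [hg.2] at h2
    exact ⟨h1, h2⟩
  · simp only [mem_inter, mem_N] at hy
    exact s.frob h (s.symm hy.1) (s.symm hy.2) s.ACne hg.1 hg.2

theorem mu_pos : 0 < s.mu := by
  classical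
  exact card_pos.mpr ⟨s.B, by simpa using ⟨s.AB, s.symm s.BC⟩⟩

open Classical in
theorem card_NΓ {x y : X} (h : s.adj x y) : (s.N y ∩ s.Γ x).card + s.lam + 1 = s.k := by
  have : s.N y = insert x ((s.N y ∩ s.Γ x) ∪ (s.N x ∩ s.N y)) := by
    ext z; have := tri (s := s) x z
    have := s.symm h
    simp only [mem_N, mem_insert, mem_union, mem_inter, mem_Γ]
    constructor
    · tauto
    · rintro (rfl | h | h) <;> tauto
  rw [← card_N y]
  conv_rhs => rw [this]
  rw [card_insert_of_notMem (by simp [s.irr, na]), card_union_of_disjoint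
    (by rw [disjoint_left]; intro a h1 h2; simp [na] at h1 h2; tauto), card_lam h]

theorem srg : s.k * (s.k - 1 - s.lam) = s.l * s.mu := by
  classical
  have := Finset.sum_card_bipartiteAbove_eq_sum_card_bipartiteBelow (s := s.N s.A) (t := s.Γ s.A)
    (r := s.adj)
  rw [sum_congr rfl (g := fun _ => s.k - 1 - s.lam), sum_congr (s₂ := s.Γ s.A) rfl
    (g := fun _ => s.mu)] at this
  · simpa [k, l] using this
  · intro c hc
    rw [← card_mu (mem_Γ.mp hc)]
    congr 1; ext z; simp only [bipartiteBelow, mem_filter, mem_N, mem_inter]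
    exact and_congr_right fun _ => ⟨s.symm, s.symm⟩
  · intro b hb
    have := card_NΓ (mem_N.mp hb)
    have e : bipartiteAbove s.adj (s.Γ s.A) b = s.N b ∩ s.Γ s.A := by
      ext z; simp [bipartiteAbove, and_comm]
    rw [e]; omega

theorem mu_lt_k : s.mu < s.k := by
  classical
  obtain ⟨C', h1, h2, h3⟩ := s.ex1
  rw [← card_N s.C]
  exact card_lt_card ⟨inter_subset_right, fun h => h2 (by
    have := h (mem_N.mpr h3); simp at this; exact this.1)⟩

theorem even_km : Even s.k ∨ Even s.m := by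
  by_contra hc
  push Not at hc
  rw [Nat.not_even_iff_odd, Nat.not_even_iff_odd] at hc
  have h1 : Odd (s.l * s.el) := km_eq (s := s) ▸ hc.1.mul hc.2
  have h2 := s.even
  rw [card_G (s := s), card_X (s := s), ← Nat.not_odd_iff_even] at h2
  refine h2 (Odd.mul ?_ (hc.1.mul hc.2))
  have := Nat.Odd.of_mul_left h1
  obtain ⟨a, ha⟩ := hc.1
  obtain ⟨b, hb⟩ := this
  exact ⟨a + b + 1, by omega⟩

end St

end Cfsg.Agent.Part.Rk
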