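import Mathlib
import Cfsg.Agent.Glaub.Alperin
import Cfsg.Agent.LocalEven.Iso
import Cfsg.Agent.LocalEven.Spe
import Cfsg.Agent.S3058
import Cfsg.Agent.Core.PConstrained

set_option autoImplicit false
set_option linter.unusedSectionVars false
open Cfsg Subgroup

namespace Cfsg.Agent.Part.AG

open Cfsg.Agent Cfsg.Agent.LocalEven Cfsg.Agent.Glaub

variable {G : Type*} [Group G] {p : ℕ}

/-- generators of the extendable part of the normalizer -/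
def gens (S H : Subgroup G) : Set G :=
  {n | n ∈ 𝐂⟮H⟯ ∨ (n ∈ 𝐍⟮H⟯ ∧ ∃ Q, H < Q ∧ Q ≤ S ∧ cj n Q ≤ S)}

/-- the extendable part of the normalizer -/
def gam (S H : Subgroup G) : Subgroup G := closure (gens S H)

theorem gam_le (S H : Subgroup G) : gam S H ≤ 𝐍⟮H⟯ := by
  rw [gam, closure_le]
  rintro n (h | h)
  exacts [centralizer_le_normalizer' H h, h.1]

theorem cent_le_gam (S H : Subgroup G) : 𝐂⟮H⟯ ≤ gam S H := fun _ h => subset_closure (Or.inl h)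

theorem mem_gam {S H Q : Subgroup G} {n : G} (hn : n ∈ 𝐍⟮H⟯) (h1 : H < Q) (h2 : Q ≤ S)
    (h3 : n ∈ 𝐍⟮Q⟯) : n ∈ gam S H :=
  subset_closure (Or.inr ⟨hn, Q, h1, h2, by rw [cj_eq_of_mem_normalizer h3]; exact h2⟩)

theorem inf_le_gam {S H : Subgroup G} (h : H < S) : S ⊓ 𝐍⟮H⟯ ≤ gam S H :=
  fun _ hn => mem_gam hn.2 h le_rfl (le_normalizer hn.1)

theorem cj_gam_le {S H : Subgroup G} {y : G} (hy : y ∈ 𝐍⟮S⟯) : cj y (gam S H) ≤ gam S (cj y H) := by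
  rw [gam, cj_closure, closure_le]
  rintro _ ⟨n, h | ⟨h, Q, h1, h2, h3⟩, rfl⟩
  · exact cent_le_gam _ _ (conj_mem_cent h)
  · refine subset_closure (Or.inr ⟨conj_mem_norm h, cj y Q, cj_lt_cj.2 h1,
      cj_le_of_mem_normalizer hy h2, ?_⟩)
    rw [cj_cj, inv_mul_cancel_right, cj_mul]
    exact cj_le_of_mem_normalizer hy h3

/-- essential subgroups -/
structure Ess (p : ℕ) (S H : Subgroup G) : Prop where
  lt : H < S
  ext : IsSylowIn p (S ⊓ 𝐍⟮H⟯) 𝐍⟮H⟯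
  ne : ¬ 𝐍⟮H⟯ ≤ gam S H

theorem Ess.conj {S H : Subgroup G} (h : Ess p S H) {y : G} (hy : y ∈ 𝐍⟮S⟯) :
    Ess p S (cj y H) := by
  refine ⟨?_, ?_, fun h1 => h.ne ?_⟩
  · have := (cj_lt_cj (g := y)).2 h.lt
    rwa [cj_eq_of_mem_normalizer hy] at this
  · have := h.ext.cj y
    rwa [cj_inf, cj_eq_of_mem_normalizer hy, cj_normalizer] at this
  · have h2 := (cj_mono y⁻¹ h1).trans (cj_gam_le (inv_mem hy))
    rwa [cj_normalizer, cj_inv_cj] at h2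

/-- the family of normal subgroups of `N(H)` over `H` with index divisible by `p` -/
def fam (p : ℕ) (H : Subgroup G) : Set (Subgroup G) :=
  {Y | H ≤ Y ∧ Y ≤ 𝐍⟮H⟯ ∧ 𝐍⟮H⟯ ≤ 𝐍⟮Y⟯ ∧ p ∣ H.relIndex Y}

theorem fam_cj {H Y : Subgroup G} (h : Y ∈ fam p H) (y : G) : cj y Y ∈ fam p (cj y H) := by
  obtain ⟨h1, h2, h3, h4⟩ := h
  refine ⟨cj_mono y h1, ?_, ?_, by rwa [relIndex_cj]⟩
  · rw [← cj_normalizer]; exact cj_mono y h2
  · rw [← cj_normalizer, ← cj_normalizer]; exact cj_mono y h3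

/-- the smallest member -/
def XX (p : ℕ) (H : Subgroup G) : Subgroup G := sInf (fam p H)

theorem cj_XX_le (H : Subgroup G) (y : G) : cj y (XX p H) ≤ XX p (cj y H) := by
  refine le_sInf fun Y hY => ?_
  have := fam_cj hY y⁻¹
  rw [cj_inv_cj] at this
  rw [cj_le_iff]
  exact sInf_le this

variable [hp : Fact p.Prime] [Finite G]

theorem Ess.pg {S H : Subgroup G} (h : Ess p S H) : IsPGroup p H :=
  h.ext.pgrp.to_le (le_inf h.lt.le le_normalizer)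

theorem Ess.syl {S H K : Subgroup G} (h : Ess p S H) (h1 : K ≤ 𝐍⟮H⟯) (h2 : 𝐍⟮H⟯ ≤ 𝐍⟮K⟯) :
    IsSylowIn p (S ⊓ K) K := by
  have := h.ext.inf_of_le_normalizer h1 h2
  rwa [inf_assoc, inf_eq_right.2 h1] at this

theorem Ess.frat {S H K : Subgroup G} (h : Ess p S H) (h0 : H ≤ K) (h1 : K ≤ 𝐍⟮H⟯)
    (h2 : 𝐍⟮H⟯ ≤ 𝐍⟮K⟯) (h3 : ¬ S ⊓ K ≤ H) {n : G} (hn : n ∈ 𝐍⟮H⟯) :
    ∃ x ∈ pResOf p K, ∃ m ∈ gam S H, n = x * m := by
  have hs := h.syl h1 h2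
  obtain ⟨k, hk, m, hm, rfl⟩ := hs.frattini (h2 hn)
  obtain ⟨x, hx, t, ht, rfl⟩ := hs.exists_mul_eq hk
  have hmN : m ∈ 𝐍⟮H⟯ := by
    have := mul_mem (inv_mem (h1 hk)) hn
    rwa [inv_mul_cancel_left] at this
  refine ⟨x, hx, t * m, mul_mem (inf_le_gam h.lt ⟨ht.1, h1 ht.2⟩) ?_, by group⟩
  exact mem_gam hmN (lt_of_le_not_ge (le_inf h.lt.le h0) h3) inf_le_left hm

theorem Ess.inf_le {S H K : Subgroup G} (h : Ess p S H) (h0 : H ≤ K) (h1 : K ≤ 𝐍⟮H⟯)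
    (h2 : 𝐍⟮H⟯ ≤ 𝐍⟮K⟯) (h3 : pResOf p K ≤ gam S H) : S ⊓ K ≤ H := by
  by_contra h4
  refine h.ne fun n hn => ?_
  obtain ⟨x, hx, m, hm, rfl⟩ := h.frat h0 h1 h2 h4 hn
  exact mul_mem (h3 hx) hm

theorem Ess.cent {S H : Subgroup G} (h : Ess p S H) : S ⊓ 𝐂⟮H⟯ ≤ H := by
  refine le_trans (inf_le_inf_left S le_sup_right) (h.inf_le (K := H ⊔ 𝐂⟮H⟯) le_sup_left
    (sup_le le_normalizer (centralizer_le_normalizer' H))
    (le_normalizer_sup le_rfl (normalizer_le_normalizer_centralizer H)) ?_)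
  exact (pResOf_le _).trans (sup_le ((le_inf h.lt.le le_normalizer).trans (inf_le_gam h.lt))
    (cent_le_gam _ _))

theorem core_le_cent {H : Subgroup G} (hH : IsPGroup p H) :
    (pPrimeCore p 𝐍⟮H⟯).map 𝐍⟮H⟯.subtype ≤ 𝐂⟮H⟯ := by
  rw [← LocalEven.commutator_eq_bot_iff, eq_bot_iff]
  have h1 : ⁅(pPrimeCore p 𝐍⟮H⟯).map 𝐍⟮H⟯.subtype, H⁆ ≤ H :=
    commutator_le_right_of_le_normalizer (map_subtype_le _)
  have h2 : ⁅(pPrimeCore p 𝐍⟮H⟯).map 𝐍⟮H⟯.subtype, H⁆ ≤ (pPrimeCore p 𝐍⟮H⟯).map 𝐍⟮H⟯.subtype :=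
    commutator_le_left_of_le_normalizer (le_normalizer.trans (le_normalizer_map_subtype _))
  refine (le_inf h1 h2).trans (inf_eq_bot_of_not_dvd hH ?_).le
  rw [card_map_subtype]
  exact not_dvd_of_coprime (Core.pPrimeCore_coprime p)

theorem pRes_le_core (N : Subgroup G) :
    pResOf p ((pPrimePCore p N).map N.subtype) ≤ (pPrimeCore p N).map N.subtype := by
  rw [pResOf_le_iff]
  rintro _ ⟨x, hx, rfl⟩ ho
  refine ⟨x, Core.le_pPrimeCore_of_le_pPrimePCore (Y := zpowers x) (by simpa using hx) ?_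
    (mem_zpowers x), rfl⟩
  rw [Nat.card_zpowers, ← orderOf_coe]
  exact ho

theorem Ess.opp {S H : Subgroup G} (h : Ess p S H) :
    (pPrimePCore p 𝐍⟮H⟯).map 𝐍⟮H⟯.subtype = H ⊔ 𝐂⟮H⟯ := by
  have h0 : H ≤ (pPrimePCore p 𝐍⟮H⟯).map 𝐍⟮H⟯.subtype := by
    refine le_trans (le_pCoreOf le_normalizer le_rfl h.pg) ?_
    exact map_mono (Core.pCore_le_pPrimePCore p)
  have h1 : (pPrimePCore p 𝐍⟮H⟯).map 𝐍⟮H⟯.subtype ≤ 𝐍⟮H⟯ := map_subtype_le _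
  have h2 := le_normalizer_map_subtype (pPrimePCore p 𝐍⟮H⟯)
  have h3 := (pRes_le_core (p := p) 𝐍⟮H⟯).trans (core_le_cent h.pg)
  apply le_antisymm
  · rw [← (h.syl h1 h2).pResOf_sup, sup_comm]
    exact sup_le_sup (h.inf_le h0 h1 h2 (h3.trans (cent_le_gam _ _))) h3
  · refine sup_le h0 ?_
    have hs := h.syl (centralizer_le_normalizer' H) (normalizer_le_normalizer_centralizer H)
    rw [← hs.pResOf_sup]
    refine sup_le ?_ (h.cent.trans h0)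
    have h4 := coprime_pResOf_of_burnside hs (inf_le_left.trans (cent_anti h.cent))
    have h5 : pResOf p 𝐂⟮H⟯ ≤ 𝐍⟮H⟯ := (pResOf_le _).trans (centralizer_le_normalizer' H)
    rw [← map_subgroupOf_eq_of_le h5]
    refine map_mono (le_trans (Core.le_pPrimeCore ?_ ?_) (Core.pPrimeCore_le_pPrimePCore p))
    · exact (normal_subgroupOf_iff_le_normalizer h5).2
        ((normalizer_le_normalizer_centralizer H).trans (normalizer_le_normalizer_pResOf _))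
    · rwa [card_subgroupOf h5]

/-- pull back a subgroup of the quotient -/
def pb {H : Subgroup G} (Q : Subgroup (𝐍⟮H⟯ ⧸ H.subgroupOf 𝐍⟮H⟯)) : Subgroup G :=
  (Q.comap (QuotientGroup.mk' _)).map 𝐍⟮H⟯.subtype

/-- push forward a subgroup to the quotient -/
def pf (H Y : Subgroup G) : Subgroup (𝐍⟮H⟯ ⧸ H.subgroupOf 𝐍⟮H⟯) :=
  (Y.subgroupOf 𝐍⟮H⟯).map (QuotientGroup.mk' _)

theorem mem_pb {H : Subgroup G} {Q : Subgroup (𝐍⟮H⟯ ⧸ H.subgroupOf 𝐍⟮H⟯)} {x : 𝐍⟮H⟯} :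
    (x : G) ∈ pb Q ↔ QuotientGroup.mk' _ x ∈ Q := mem_map_subtype

theorem pb_le {H : Subgroup G} (Q : Subgroup (𝐍⟮H⟯ ⧸ H.subgroupOf 𝐍⟮H⟯)) : pb Q ≤ 𝐍⟮H⟯ :=
  map_subtype_le _

theorem le_pb {H : Subgroup G} (Q : Subgroup (𝐍⟮H⟯ ⧸ H.subgroupOf 𝐍⟮H⟯)) : H ≤ pb Q := by
  intro x hx
  refine (mem_pb (x := ⟨x, le_normalizer hx⟩)).2 ?_
  rw [QuotientGroup.mk'_apply, (QuotientGroup.eq_one_iff _).2 (mem_subgroupOf.2 hx)]
  exact one_mem _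

theorem pb_pf {H Y : Subgroup G} (h0 : H ≤ Y) (h1 : Y ≤ 𝐍⟮H⟯) : pb (pf H Y) = Y := by
  rw [pb, pf, comap_map_eq, QuotientGroup.ker_mk', sup_eq_left.2 (subgroupOf_mono _ h0),
    map_subgroupOf_eq_of_le h1]

theorem pf_pb {H : Subgroup G} (Q : Subgroup (𝐍⟮H⟯ ⧸ H.subgroupOf 𝐍⟮H⟯)) : pf H (pb Q) = Q := by
  rw [pb, pf, map_subtype_subgroupOf, map_comap_eq_self_of_surjective
    (QuotientGroup.mk'_surjective _)]

theorem pb_mono {H : Subgroup G} {Q R : Subgroup (𝐍⟮H⟯ ⧸ H.subgroupOf 𝐍⟮H⟯)} (h : Q ≤ R) :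
    pb Q ≤ pb R := map_mono (comap_mono h)

theorem card_pf {H Y : Subgroup G} (h1 : Y ≤ 𝐍⟮H⟯) : Nat.card (pf H Y) = H.relIndex Y := by
  rw [pf, ← relIndex_subgroupOf h1]
  conv_rhs => lhs; rw [← QuotientGroup.ker_mk' (H.subgroupOf 𝐍⟮H⟯)]
  rw [relIndex_ker]

theorem pf_normal {H Y : Subgroup G} (h1 : Y ≤ 𝐍⟮H⟯) (h2 : 𝐍⟮H⟯ ≤ 𝐍⟮Y⟯) : (pf H Y).Normal :=
  ((normal_subgroupOf_iff_le_normalizer h1).2 h2).map _ (QuotientGroup.mk'_surjective _)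

theorem pf_eq_bot {H Y : Subgroup G} (h0 : H ≤ Y) (h1 : Y ≤ 𝐍⟮H⟯) (h : pf H Y = ⊥) : Y ≤ H := by
  intro x hx
  have : QuotientGroup.mk' (H.subgroupOf 𝐍⟮H⟯) ⟨x, h1 hx⟩ ∈ pf H Y :=
    mem_map_of_mem _ (mem_subgroupOf.2 hx)
  rw [h, mem_bot] at this
  exact (QuotientGroup.eq_one_iff (N := H.subgroupOf 𝐍⟮H⟯) _).1 this

theorem mem_norm_pb {H : Subgroup G} {Q : Subgroup (𝐍⟮H⟯ ⧸ H.subgroupOf 𝐍⟮H⟯)} {x : 𝐍⟮H⟯}
    (hx : QuotientGroup.mk' _ x ∈ 𝐍⟮Q⟯) : (x : G) ∈ 𝐍⟮pb Q⟯ :=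
  le_normalizer_map _ ⟨x, le_normalizer_comap _ hx, rfl⟩

theorem Ess.disc {S H : Subgroup G} (h : Ess p S H) (hS : IsPGroup p S) :
    ¬ IsSylowChainConnected p (𝐍⟮H⟯ ⧸ H.subgroupOf 𝐍⟮H⟯) := by
  rw [not_isSylowChainConnected_iff]
  have h0 : H ≤ S ⊓ 𝐍⟮H⟯ := le_inf h.lt.le le_normalizer
  have h1 : H ≤ gam S H := h0.trans (inf_le_gam h.lt)
  have hs : IsSylowIn p (pf H (S ⊓ 𝐍⟮H⟯)) ⊤ := by
    have := (h.ext.subgroupOf le_rfl).map (QuotientGroup.mk' (H.subgroupOf 𝐍⟮H⟯))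
    rwa [subgroupOf_self, map_top_of_surjective _ (QuotientGroup.mk'_surjective _)] at this
  refine ⟨pf H (gam S H), spe_of_sylow (fun e => h.ne ?_) hs.toSylowTop (fun e => ?_) ?_⟩
  · rw [← pb_pf h1 (gam_le S H), e]
    intro x hx
    exact (mem_pb (x := ⟨x, hx⟩)).2 (mem_top _)
  · exact not_le_of_gt (lt_inf_normalizer hS h.lt) (pf_eq_bot h0 inf_le_right e)
  · intro Q hQ hne x hx
    obtain ⟨x, rfl⟩ := QuotientGroup.mk'_surjective _ x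
    refine mem_map_of_mem _ (mem_subgroupOf.2 (mem_gam x.2 (Q := pb Q) ?_ ?_ (mem_norm_pb hx)))
    · refine lt_of_le_not_ge (le_pb Q) fun h2 => hne ?_
      rw [← pf_pb Q, pf, Subgroup.map_eq_bot_iff, QuotientGroup.ker_mk']
      exact subgroupOf_mono _ h2
    · have : pb Q ≤ pb (pf H (S ⊓ 𝐍⟮H⟯)) := pb_mono hQ
      rw [pb_pf h0 inf_le_right] at this
      exact this.trans inf_le_left

theorem Ess.top_mem {S H : Subgroup G} (h : Ess p S H) (hS : IsPGroup p S) : 𝐍⟮H⟯ ∈ fam p H := by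
  refine ⟨le_normalizer, le_rfl, le_normalizer, ?_⟩
  by_contra hn
  have h1 := isSylowIn_of_not_dvd le_normalizer h.pg hn
  exact (lt_inf_normalizer hS h.lt).ne (h1.eq_of_le h.ext (le_inf h.lt.le le_normalizer))

theorem Ess.inf_mem {S H : Subgroup G} (h : Ess p S H) (hS : IsPGroup p S) {Y Z : Subgroup G}
    (hY : Y ∈ fam p H) (hZ : Z ∈ fam p H) : Y ⊓ Z ∈ fam p H := by
  obtain ⟨a1, a2, a3, a4⟩ := hY
  obtain ⟨b1, b2, b3, b4⟩ := hZ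
  refine ⟨le_inf a1 b1, inf_le_left.trans a2, le_normalizer_inf a3 b3, ?_⟩
  haveI := pf_normal a2 a3
  haveI := pf_normal b2 b3
  have h1 := S3058.result p (h.disc hS) (pf H Y) (pf H Z) (by rwa [card_pf a2])
    (by rwa [card_pf b2])
  rw [← card_pf (inf_le_left.trans a2)]
  refine h1.trans (card_dvd_of_le ?_)
  rw [← pf_pb (pf H Y ⊓ pf H Z)]
  refine map_mono (subgroupOf_mono _ (le_inf ?_ ?_))
  · exact (pb_mono inf_le_left).trans (pb_pf a1 a2).le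
  · exact (pb_mono inf_le_right).trans (pb_pf b1 b2).le

theorem Ess.XX_mem {S H : Subgroup G} (h : Ess p S H) (hS : IsPGroup p S) : XX p H ∈ fam p H := by
  obtain ⟨Y, hY, hmin⟩ := (Set.toFinite (fam p H)).exists_minimal ⟨_, h.top_mem hS⟩
  have : XX p H = Y := by
    refine le_antisymm (sInf_le hY) (le_sInf fun Z hZ => ?_)
    exact (hmin (h.inf_mem hS hY hZ) inf_le_left).trans inf_le_right
  rwa [this]

/-- one step of a chain -/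
def St (p : ℕ) (S : Subgroup G) (T : Subgroup G) (x : G) : Prop :=
  ∃ j : {H : Subgroup G // Ess p S H}, T ≤ j.1 ∧ x⁻¹ ∈ pResOf p (XX p j.1)

theorem chain_cj {S T : Subgroup G} {g y : G} (hy : y ∈ 𝐍⟮S⟯) (h : Chain (St p S) T g) :
    Chain (St p S) (cj y T) (y * g * y⁻¹) := by
  induction h with
  | nil T => rw [mul_one, mul_inv_cancel]; exact Chain.nil _
  | @cons T x g hx _ ih =>
    obtain ⟨j, h1, h2⟩ := hx
    have h3 : St p S (cj y T) (y * x * y⁻¹) := by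
      refine ⟨⟨cj y j.1, j.2.conj hy⟩, cj_mono y h1, pResOf_mono (cj_XX_le j.1 y) ?_⟩
      rw [← cj_pResOf]
      have := conj_mem_cj (g := y) h2
      convert this using 1; group
    have e : y * (g * x) * y⁻¹ = (y * g * y⁻¹) * (y * x * y⁻¹) := by group
    rw [e]
    refine Chain.cons h3 ?_
    rwa [cj_cj, inv_mul_cancel_right, cj_mul]

/-- decomposable elements -/
def Dec (p : ℕ) (S : Subgroup G) (T : Subgroup G) (g : G) : Prop :=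
  ∃ c ∈ 𝐂⟮T⟯, ∃ y ∈ 𝐍⟮S⟯, Chain (St p S) T (y * g * c)

theorem Dec.comp {S T : Subgroup G} {g h : G} (h1 : Dec p S T g) (h2 : Dec p S (cj g T) h) :
    Dec p S T (h * g) := by
  obtain ⟨c, hc, y, hy, h3⟩ := h1
  obtain ⟨d, hd, z, hz, h4⟩ := h2
  have h5 := chain_cj hy h4
  have e : cj y (cj g T) = cj (y * g * c) T := by
    rw [cj_mul, cj_of_mem_cent hc, cj_mul]
  rw [e] at h5
  refine ⟨g⁻¹ * d * g * c, mul_mem (inv_conj_mem_cent hd) hc, y * z, mul_mem hy hz, ?_⟩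
  convert h3.comp h5 using 1
  group

theorem Dec.res {S T T' : Subgroup G} {g : G} (h : T' ≤ T) (h1 : Dec p S T g) : Dec p S T' g := by
  obtain ⟨c, hc, y, hy, h3⟩ := h1
  exact ⟨c, cent_anti h hc, y, hy, h3.res (fun T T' x h ⟨j, h1, h2⟩ => ⟨j, h.trans h1, h2⟩) h⟩

theorem dec_gam {S U : Subgroup G}
    (ih : ∀ T', T' ≤ S → Nat.card U < Nat.card T' → ∀ g ∈ (⊤ : Subgroup G), cj g T' ≤ S →
      Dec p S T' g) {n : G} (hn : n ∈ gam S U) : Dec p S U n := by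
  have hc : ∀ n ∈ 𝐂⟮U⟯, Dec p S U n := fun n h =>
    ⟨n⁻¹, inv_mem h, 1, one_mem _, by rw [one_mul, mul_inv_cancel]; exact Chain.nil _⟩
  have hg : ∀ n ∈ gens S U, Dec p S U n := by
    rintro n (h | ⟨-, Q, h1, h2, h3⟩)
    · exact hc n h
    · exact (ih Q h2 (card_lt_of_lt h1) n (mem_top _) h3).res h1.le
  induction hn using closure_induction'' with
  | one => exact hc 1 (one_mem _)
  | mem x hx => exact hg x hx
  | inv_mem x hx =>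
    refine hg _ ?_
    rcases hx with h | ⟨h, Q, h1, h2, h3⟩
    · exact Or.inl (inv_mem h)
    · refine Or.inr ⟨inv_mem h, cj x Q, ?_, h3, by rwa [cj_inv_cj]⟩
      have := (cj_lt_cj (g := x)).2 h1
      rwa [cj_eq_of_mem_normalizer h] at this
  | mul x y _ hy hx' hy' =>
    refine hy'.comp ?_
    rwa [cj_eq_of_mem_normalizer (gam_le S U hy)]

theorem dec_all (P : Sylow p G) {T : Subgroup G} (hT : T ≤ P) {g : G} (hg : cj g T ≤ P) :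
    Dec p P T g := by
  refine alperin_ext (isSylowIn_top P) (Dec p P) (fun T g h _ _ _ _ _ h1 h2 => h1.comp h2)
    (fun T T' g h _ _ h1 => h1.res h) ?_ T hT g (mem_top _) hg
  intro U hU hext ih n _ hn
  rcases hU.eq_or_lt with rfl | hlt
  · exact ⟨1, one_mem _, n⁻¹, inv_mem hn, by rw [mul_one, inv_mul_cancel]; exact Chain.nil _⟩
  by_cases hne : 𝐍⟮U⟯ ≤ gam P U
  · exact dec_gam ih (hne hn)
  have hE : Ess p P U := ⟨hlt, by simpa [Extr] using hext, hne⟩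
  obtain ⟨h0, h1, h2, h3⟩ := hE.XX_mem P.isPGroup'
  obtain ⟨x, hx, m, hm, rfl⟩ := hE.frat h0 h1 h2 (fun h4 => by
    have h5 := (hE.syl h1 h2).not_dvd
    rw [le_antisymm h4 (le_inf hU h0)] at h5
    exact h5 h3) hn
  refine (dec_gam ih hm).comp ?_
  rw [cj_eq_of_mem_normalizer (gam_le _ _ hm)]
  exact ⟨1, one_mem _, 1, one_mem _, by
    rw [one_mul, mul_one]; exact Chain.single ⟨⟨U, hE⟩, le_rfl, inv_mem hx⟩⟩

end Cfsg.Agent.Part.AG
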