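import Mathlib
import Cfsg.Agent.LocalEven.FrakM
import Cfsg.Agent.H2.SubnormalCore
import Cfsg.Agent.Core.Coprime2

/-! Preliminaries for the asymmetric L-lemma. -/

set_option autoImplicit false
set_option linter.unusedSectionVars false

namespace Cfsg.Agent.Part.Asy

open Subgroup Cfsg.Agent.LocalEven

variable {G : Type*} [Group G] {p : ℕ}

/-- Elements normalizing `W` and centralizing `X` modulo `W`. -/
def Tr (X : Set G) (W : Subgroup G) : Subgroup G where
  carrier := {g | g ∈ normalizer (W : Set G) ∧ ∀ x ∈ X, g * x * g⁻¹ * x⁻¹ ∈ W}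
  one_mem' := ⟨one_mem _, fun x _ => by simp⟩
  mul_mem' := fun {a b} ha hb => ⟨mul_mem ha.1 hb.1, fun x hx => by
    have := mul_mem (conj_mem_of_mem_normalizer ha.1 (hb.2 x hx)) (ha.2 x hx)
    simpa [mul_assoc] using this⟩
  inv_mem' := fun {a} ha => ⟨inv_mem ha.1, fun x hx => by
    have := inv_conj_mem_of_mem_normalizer ha.1 (inv_mem (ha.2 x hx))
    simpa [mul_assoc] using this⟩

theorem mem_Tr {X : Set G} {W : Subgroup G} {g : G} :
    g ∈ Tr X W ↔ g ∈ normalizer (W : Set G) ∧ ∀ x ∈ X, g * x * g⁻¹ * x⁻¹ ∈ W := Iff.rfl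

theorem conj_mem_Tr {X W : Subgroup G} {g k : G} (h1 : k ∈ normalizer (X : Set G))
    (h2 : k ∈ normalizer (W : Set G)) (hg : g ∈ Tr X W) : k * g * k⁻¹ ∈ Tr X W :=
  ⟨mul_mem (mul_mem h2 hg.1) (inv_mem h2), fun x hx => by
    have := conj_mem_of_mem_normalizer h2 (hg.2 _ (inv_conj_mem_of_mem_normalizer h1 hx))
    simpa [mul_assoc] using this⟩

theorem norm_Tr {X W K : Subgroup G} (h1 : K ≤ normalizer (X : Set G))
    (h2 : K ≤ normalizer (W : Set G)) : K ≤ normalizer (Tr X W : Set G) :=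
  le_normalizer_of_cj_le fun _ hk => cj_le_iff'.2 fun _ hg => conj_mem_Tr (h1 hk) (h2 hk) hg

theorem mem_Tr_of_le [Finite G] {X W : Subgroup G} (hle : W ≤ X) {g : G}
    (h : ∀ x ∈ X, g * x * g⁻¹ * x⁻¹ ∈ W) : g ∈ Tr X W :=
  ⟨mem_normalizer_of_cj_le (cj_le_iff'.2 fun x hx => by
    simpa using mul_mem (h x (hle hx)) hx), h⟩

theorem comm_le_of_Tr {X W K : Subgroup G} (h : K ≤ Tr X W) : ⁅X, K⁆ ≤ W := by
  rw [commutator_comm]
  exact commutator_le.2 fun k hk x hx => (h hk).2 x hx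

theorem swap_mem {W : Subgroup G} {a b : G} (h : a * b * a⁻¹ * b⁻¹ ∈ W) : b * a * b⁻¹ * a⁻¹ ∈ W := by
  simpa [mul_assoc] using inv_mem h

theorem comm_one {X : Subgroup G} {a b : G} (ha : a ∈ centralizer (X : Set G)) (hb : b ∈ X) :
    a * b * a⁻¹ * b⁻¹ = 1 := by
  rw [← ha b hb]; simp

variable [Finite G] [hp : Fact p.Prime]

theorem exists_fix {P W : Subgroup G} (hP : IsPGroup p P) (X : Subgroup G) (hX : X ≤ P)
    (hn : P ≤ normalizer (X : Set G)) (hW : ¬ X ≤ W) :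
    ∃ b ∈ X, b ∉ W ∧ ∀ d ∈ P, d * b * d⁻¹ * b⁻¹ ∈ W := by
  induction X using WellFoundedLT.induction with
  | ind X ih =>
  by_cases h : ⁅X, P⁆ ≤ W
  · obtain ⟨b, h1, h2⟩ := SetLike.not_le_iff_exists.1 hW
    exact ⟨b, h1, h2, fun d hd => swap_mem (h (commutator_mem_commutator h1 hd))⟩
  · have hlt : ⁅X, P⁆ < X := Core.commutator_lt_of_isPGroup (hP.to_le hX) hP hn
      (fun e => hW (e ▸ bot_le))
    obtain ⟨b, h1, h2⟩ := ih _ hlt (hlt.le.trans hX) (le_normalizer_commutator hn le_normalizer) h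
    exact ⟨b, hlt.le h1, h2⟩

theorem chain {H K V₁ V₂ : Subgroup G} (hH : CharP p H) (hK : K ≤ H) (h1 : V₁ ≤ pCoreOf p H)
    (h2 : V₂ ≤ pCoreOf p H) (k1 : K ≤ Tr (pCoreOf p H) V₁) (k2 : K ≤ Tr V₁ V₂)
    (k3 : K ≤ centralizer (V₂ : Set G)) : IsPGroup p K := by
  refine isPGroup_of_forall_coprime fun x hx hc => ?_
  have hz := zpowers_le.2 hx
  have cop : ∀ {W : Subgroup G}, W ≤ pCoreOf p H → (Nat.card (zpowers x)).Coprime (Nat.card W) :=
    fun hW => by
      obtain ⟨n, hn⟩ := IsPGroup.iff_card.1 (isPGroup_of_le_pCoreOf hW)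
      rw [hn, Nat.card_zpowers]
      exact hc.pow_right n
  have c1 := Core.le_centralizer_of_commutator_le_of_centralizes _ V₁ V₂ (cop h2) (hz.trans k3)
    (comm_le_of_Tr (hz.trans k2))
  have c2 := Core.le_centralizer_of_commutator_le_of_centralizes _ _ V₁ (cop h1) c1
    (comm_le_of_Tr (hz.trans k1))
  have := cop ((le_inf (hz.trans hK) c2).trans hH)
  rw [Nat.coprime_self, Nat.card_zpowers] at this
  exact orderOf_eq_one_iff.1 this

/-- The abstract setting. -/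
structure St (p : ℕ) (Y R H : Subgroup G) : Prop where
  YR : Y ≤ R
  RC : R ≤ centralizer (Y : Set G)
  wc : WC p R
  nRY : normalizer (R : Set G) ≤ normalizer (Y : Set G)
  asym : ∀ g, cj g Y ≤ normalizer (Y : Set G) → cj g⁻¹ Y ≤ normalizer (Y : Set G) →
    cj g Y ≤ centralizer (Y : Set G)
  ch : CharP p H
  RH : R ≤ H
  mn : ∀ P, R ≤ P → P < H → Y ≤ pCoreOf p P

namespace St

variable {Y R H : Subgroup G} (s : St p Y R H)
include s

theorem Yp : IsPGroup p Y := s.wc.pgrp.to_le s.YR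

theorem YH : Y ≤ H := s.YR.trans s.RH

theorem YC : Y ≤ centralizer (Y : Set G) := s.YR.trans s.RC

theorem ON {P : Subgroup G} (h : R ≤ P) : pCoreOf p P ≤ normalizer (Y : Set G) :=
  (s.wc.pCoreOf_le_norm h).trans s.nRY

theorem comm_of_lt {P : Subgroup G} {h : G} (hh : h ∈ H) (h1 : R ≤ P) (h2 : cj h R ≤ P)
    (h3 : P < H) : cj h Y ≤ centralizer (Y : Set G) := by
  have h4 : cj h⁻¹ P < H := by
    rw [← cj_eq_of_mem (inv_mem hh)]; exact cj_lt_cj.2 h3
  have h5 := s.mn _ (cj_le_iff.1 h2) h4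
  refine s.asym h ((cj_le_iff.2 (by rwa [cj_pCoreOf])).trans (s.ON h1))
    (((cj_mono _ (s.mn P h1 h3)).trans (cj_pCoreOf _ _).le).trans (s.ON (cj_le_iff.1 h2)))

theorem inter {h : G} (hh : h ∈ H) (hn : ¬ cj h Y ≤ centralizer (Y : Set G)) :
    Y ⊓ cj h Y ≤ centralizer (H : Set G) := by
  have h1 : R ⊔ cj h R = H := by
    by_contra e
    exact hn (s.comm_of_lt hh le_sup_left le_sup_right
      (lt_of_le_of_ne (sup_le s.RH (cj_le_of_mem hh s.RH)) e))
  rw [le_centralizer_iff, ← h1]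
  refine sup_le (s.RC.trans (centralizer_le inf_le_left)) ?_
  exact ((cj_mono _ s.RC).trans (cj_centralizer _ _).le).trans (centralizer_le inf_le_right)

theorem Y_Tr : Y ≤ Tr (pCoreOf p H) (pCoreOf p H ⊓ Y) := fun y hy =>
  mem_Tr_of_le inf_le_left fun v hv =>
    mem_inf.2 ⟨mul_mem (conj_mem_of_mem_normalizer (le_normalizer_pCoreOf H (s.YH hy)) hv)
      (inv_mem (show v ∈ pCoreOf p H from hv)), by
      simpa [mul_assoc] using
        mul_mem hy (conj_mem_of_mem_normalizer (s.ON s.RH hv) (inv_mem hy))⟩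

theorem not_norm {L : Subgroup G} (hL : L ≤ H) (hY : Y ≤ L) (hn : ¬ Y ≤ pCoreOf p L) :
    ¬ L ≤ normalizer ((pCoreOf p H ⊓ Y : Subgroup G) : Set G) := fun h => by
  have nV := hL.trans (le_normalizer_pCoreOf (p := p) H)
  refine hn (le_trans (b := L ⊓ Tr (pCoreOf p H) (pCoreOf p H ⊓ Y) ⊓
    centralizer ((pCoreOf p H ⊓ Y : Subgroup G) : Set G)) (le_inf (le_inf hY s.Y_Tr)
      (s.YC.trans (centralizer_le inf_le_right))) (le_pCoreOf (inf_le_left.trans inf_le_left)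
      (le_normalizer_inf (le_normalizer_inf le_normalizer (norm_Tr nV h))
        (le_normalizer_centralizer h)) ?_))
  refine chain s.ch (inf_le_left.trans (inf_le_left.trans hL)) inf_le_left inf_le_left
    (inf_le_left.trans inf_le_right) (fun k hk => mem_Tr_of_le le_rfl fun x hx => ?_) inf_le_right
  rw [comm_one hk.2 hx]
  exact one_mem _

end St

end Cfsg.Agent.Part.Asy
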