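import Mathlib
import Cfsg.Agent.Part.Asy1

/-! The asymmetric L-lemma. -/

set_option autoImplicit false
set_option linter.unusedSectionVars false

namespace Cfsg.Agent.Part.Asy

open Subgroup Cfsg.Agent.LocalEven

variable {G : Type*} [Group G] {p : ℕ} [Finite G] [hp : Fact p.Prime]

/-- The setting with the minimal subgroup `L`. -/
structure Sl (p : ℕ) (Y R H L : Subgroup G) (g : G) : Prop extends St p Y R H where
  LH : L ≤ H
  YL : Y ≤ L
  nO : ¬ Y ≤ pCoreOf p L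
  mL : ∀ X, Y ≤ X → X < L → Y ≤ pCoreOf p X
  gL : g ∈ L
  gen : Y ⊔ cj g Y = L

theorem pg_of_lt {Y L : Subgroup G} (hY : IsPGroup p Y) (YL : Y ≤ L)
    (mL : ∀ X, Y ≤ X → X < L → Y ≤ pCoreOf p X) {x : G} (hx : x ∈ L) (h : Y ⊔ cj x Y ≠ L) :
    IsPGroup p (Y ⊔ cj x Y : Subgroup G) := by
  have h1 := mL _ le_sup_left (lt_of_le_of_ne (sup_le YL (cj_le_of_mem hx YL)) h)
  exact (isPGroup_sup (isPGroup_cj x hY) (isPGroup_pCoreOf _)
    (le_sup_right.trans (le_normalizer_pCoreOf _))).to_le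
    (sup_le (h1.trans le_sup_right) le_sup_left)

theorem St.exists_sl {Y R H L : Subgroup G} (s : St p Y R H) (LH : L ≤ H) (YL : Y ≤ L)
    (nO : ¬ Y ≤ pCoreOf p L) (mL : ∀ X, Y ≤ X → X < L → Y ≤ pCoreOf p X) :
    ∃ g, Sl p Y R H L g := by
  by_contra h
  obtain ⟨N, h1, h2, h3, h4⟩ := H2.baer_suzuki_rel (p := p) YL fun x hx => by
    rw [← cj_eq_smul]
    exact pg_of_lt s.Yp YL mL hx fun e => h ⟨x, s, LH, YL, nO, mL, hx, e⟩
  exact nO (h1.trans (le_pCoreOf h2 h3 h4))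

theorem mem_cent_sup {X X' : Subgroup G} {c : G} (h1 : c ∈ centralizer (X : Set G))
    (h2 : c ∈ centralizer (X' : Set G)) : c ∈ centralizer ((X ⊔ X' : Subgroup G) : Set G) :=
  zpowers_le.1 (le_centralizer_iff.1 (sup_le (le_centralizer_iff.1 (zpowers_le.2 h1))
    (le_centralizer_iff.1 (zpowers_le.2 h2))))

namespace Sl

variable {Y R H L : Subgroup G} {g : G} (s : Sl p Y R H L g)
include s

local notation "V" => pCoreOf p H
local notation "A" => (pCoreOf p H ⊓ Y : Subgroup G)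
local notation "B" => (cj g (pCoreOf p H ⊓ Y) ⊔ pCoreOf p H ⊓ Y : Subgroup G)
local notation "Z" => (pCoreOf p H ⊓ Y ⊓ centralizer (H : Set G) : Subgroup G)
local notation "E" => (pCoreOf p H ⊓ centralizer (Y : Set G) : Subgroup G)

theorem npg : ¬ IsPGroup p L := fun h => s.nO (by rw [pCoreOf_eq_self h]; exact s.YL)

theorem nc : ¬ cj g Y ≤ centralizer (Y : Set G) := fun h => s.npg (by
  rw [← s.gen, sup_comm]
  exact isPGroup_sup (isPGroup_cj g s.Yp) s.Yp (h.trans (centralizer_le_normalizer _)))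

theorem cjV {h : G} (hh : h ∈ H) : cj h V = V :=
  cj_eq_of_mem_normalizer (le_normalizer_pCoreOf H hh)

theorem cjA {h : G} (hh : h ∈ H) : cj h A = V ⊓ cj h Y := by rw [cj_inf, s.cjV hh]

theorem VA : V ≤ normalizer (A : Set G) := le_normalizer_inf le_normalizer (s.ON s.RH)

theorem VA' {h : G} (hh : h ∈ H) : V ≤ normalizer (cj h A : Set G) := by
  rw [← cj_normalizer]
  exact (s.cjV hh).ge.trans (cj_mono _ s.VA)

theorem BV : B ≤ V := sup_le ((s.cjA (s.LH s.gL)).le.trans inf_le_left) inf_le_left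

theorem memB {b : G} (hb : b ∈ B) : ∃ a' ∈ cj g A, ∃ a ∈ A, a' * a = b :=
  (mem_sup_iff_of_le_normalizer' (inf_le_left.trans (s.VA' (s.LH s.gL)))).1 hb

theorem L_Tr : L ≤ Tr V B := by
  rw [← s.gen]
  refine sup_le (fun y hy => mem_Tr_of_le s.BV fun v hv => mem_sup_right ((s.Y_Tr hy).2 v hv))
    fun y hy => mem_Tr_of_le s.BV fun v hv => mem_sup_left ?_
  have := (s.Y_Tr (mem_cj.1 hy)).2 (g⁻¹ * v * g)
    (inv_conj_mem_of_mem_normalizer (le_normalizer_pCoreOf H (s.LH s.gL)) hv)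
  rw [mem_cj]
  simpa [mul_assoc] using this

theorem LB : L ≤ normalizer (B : Set G) := fun _ h => (s.L_Tr h).1

theorem HZ : H ≤ normalizer (Z : Set G) :=
  (le_centralizer_iff.1 inf_le_right).trans (centralizer_le_normalizer _)

theorem F {b : G} (hb : b ∈ B) (h : ∀ y ∈ Y, y * b * y⁻¹ * b⁻¹ ∈ Z) : b ∈ A := by
  obtain ⟨a', h1, a, h2, rfl⟩ := s.memB hb
  refine mul_mem ?_ h2
  have h3 : L ≤ Tr {a'} Z := by
    rw [← s.gen]
    refine sup_le (fun y hy => ⟨s.HZ (s.YH hy), ?_⟩) fun y hy =>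
      ⟨s.HZ (cj_le_of_mem (s.LH s.gL) s.YH hy), ?_⟩
    · intro x hx
      rw [Set.mem_singleton_iff.1 hx]
      have := h y hy
      rwa [show y * (a' * a) * y⁻¹ * (a' * a)⁻¹ = y * a' * y⁻¹ * (y * a * y⁻¹ * a⁻¹) * a'⁻¹ by
        group, comm_one (s.YC hy) h2.2, mul_one] at this
    · rintro _ rfl
      rw [comm_one (X := cj g Y) ((cj_mono g s.YC).trans (cj_centralizer _ _).le hy)
        (cj_mono g inf_le_right h1)]
      exact one_mem _
  have h4 : g⁻¹ * a' * g⁻¹⁻¹ * a'⁻¹ ∈ A := ((h3 (inv_mem s.gL)).2 a' rfl).1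
  have h5 := mul_mem (inv_mem h4) (mem_cj.1 h1)
  rwa [show (g⁻¹ * a' * g⁻¹⁻¹ * a'⁻¹)⁻¹ * (g⁻¹ * a' * g) = a' by group] at h5

theorem comm_of_pg {x : G} (hx : x ∈ L) (h : IsPGroup p (Y ⊔ cj x Y : Subgroup G)) :
    cj x Y ≤ centralizer (Y : Set G) := by
  by_contra hn
  have n1 : Y ⊔ cj x Y ≤ normalizer (B : Set G) := (sup_le s.YL (cj_le_of_mem hx s.YL)).trans s.LB
  obtain ⟨b, h1, h2, h3⟩ := exists_fix (W := Z) (isPGroup_sup h (isPGroup_of_le_pCoreOf s.BV) n1) B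
    le_sup_right (sup_le n1 le_normalizer) fun e => s.not_norm s.LH s.YL s.nO
      (s.LH.trans ((le_centralizer_iff.1 ((le_sup_right.trans e).trans inf_le_right)).trans
        (centralizer_le_normalizer _)))
  have h4 := s.F h1 fun y hy => h3 y (mem_sup_left (mem_sup_left hy))
  have h5 := s.F (inv_conj_mem_of_mem_normalizer (s.LB hx) h1) fun y hy => by
    have := inv_conj_mem_of_mem_normalizer (s.HZ (s.LH hx))
      (h3 _ (mem_sup_left (mem_sup_right (conj_mem_cj hy))))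
    simpa [mul_assoc] using this
  exact h2 ⟨h4, s.inter (s.LH hx) hn ⟨h4.2, mem_cj.2 h5.2⟩⟩

theorem normA_of_comm {x : G} (hx : x ∈ L) (h : cj x Y ≤ centralizer (Y : Set G)) :
    x ∈ normalizer (A : Set G) :=
  mem_normalizer_of_cj_le fun b hb => s.F (cj_le_of_mem_normalizer (s.LB hx) le_sup_right hb)
    fun y hy => by
      refine swap_mem ?_
      rw [comm_one (h (cj_mono x inf_le_right hb)) hy]
      exact one_mem _

theorem AE : A ≤ E := inf_le_inf_left _ s.YC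

theorem memE {e : G} (he : e ∈ E) : ∃ a ∈ A, ∃ c ∈ V, c ∈ centralizer (L : Set G) ∧ a * c = e := by
  obtain ⟨a', h1, a, h2, h3⟩ := s.memB ((s.L_Tr s.gL).2 e he.1)
  have h4 : a * e ∈ E := mul_mem (s.AE h2) he
  refine ⟨a⁻¹, inv_mem h2, a * e, h4.1, ?_, by simp⟩
  rw [← s.gen]
  refine mem_cent_sup h4.2 ?_
  rw [show a * e = a'⁻¹ * (g * e * g⁻¹) by rw [eq_inv_mul_iff_mul_eq, ← mul_assoc, h3]; group,
    ← cj_centralizer]
  exact mul_mem (inv_mem (cj_mono g (inf_le_right.trans s.YC) h1)) (conj_mem_cj he.2)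

theorem R_Tr : R ≤ Tr V E := fun r hr => mem_Tr_of_le inf_le_left fun v hv =>
  mem_inf.2 ⟨mul_mem (conj_mem_of_mem_normalizer (le_normalizer_pCoreOf H (s.RH hr)) hv)
    (inv_mem (show v ∈ V from hv)), s.RC (by
      simpa [mul_assoc] using
        mul_mem hr (conj_mem_of_mem_normalizer (s.wc.pCoreOf_le_norm s.RH hv) (inv_mem hr)))⟩

theorem normY_of_normA {x : G} (hx : x ∈ L) (h : x ∈ normalizer (A : Set G)) :
    x ∈ normalizer (Y : Set G) := by
  have x1 : x ∈ Tr E A := ⟨h, fun e he => by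
    obtain ⟨a, ha, c, -, hc, rfl⟩ := s.memE he
    rw [show x * (a * c) * x⁻¹ * (a * c)⁻¹ = x * a * x⁻¹ * a⁻¹ by
      rw [mul_assoc x (a * c), mul_assoc a, ← hc _ (inv_mem hx)]; group]
    exact mul_mem (conj_mem_of_mem_normalizer h ha) (inv_mem ha)⟩
  have x2 : x ∈ normalizer (E : Set G) := (mem_Tr_of_le le_rfl fun e he => s.AE (x1.2 e he)).1
  have xV := le_normalizer_pCoreOf (p := p) H (s.LH hx)
  have RV := s.RH.trans (le_normalizer_pCoreOf (p := p) H)
  have RA : R ≤ centralizer (A : Set G) := s.RC.trans (centralizer_le inf_le_right)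
  have RA' := RA.trans (centralizer_le_normalizer _)
  have RE : R ≤ normalizer (E : Set G) := fun r hr => (s.R_Tr hr).1
  have hD : IsPGroup p (H ⊓ Tr V E ⊓ Tr E A ⊓ centralizer (A : Set G) : Subgroup G) :=
    chain s.ch (inf_le_left.trans (inf_le_left.trans inf_le_left)) inf_le_left inf_le_left
      (inf_le_left.trans (inf_le_left.trans inf_le_right)) (inf_le_left.trans inf_le_right)
      inf_le_right
  have hP := isPGroup_sup s.wc.pgrp hD (le_normalizer_inf (le_normalizer_inf (le_normalizer_inf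
    (s.RH.trans le_normalizer) (norm_Tr RV RE)) (norm_Tr RE RA')) (le_normalizer_centralizer RA'))
  refine s.nRY (cj_eq_self_iff.1 (s.wc.eq_of_le _ hP le_sup_left x (cj_le_iff'.2 fun r hr => ?_)))
  rw [show x * r * x⁻¹ = x * r * x⁻¹ * r⁻¹ * r by group]
  refine mul_mem (mem_sup_right (mem_inf.2 ⟨mem_inf.2 ⟨mem_inf.2 ⟨?_, ?_⟩, ?_⟩, ?_⟩))
    (mem_sup_left hr)
  · exact mul_mem (mul_mem (mul_mem (s.LH hx) (s.RH hr)) (inv_mem (s.LH hx))) (inv_mem (s.RH hr))
  · exact mul_mem (conj_mem_Tr xV x2 (s.R_Tr hr)) (inv_mem (s.R_Tr hr))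
  · rw [show x * r * x⁻¹ * r⁻¹ = x * (r * x⁻¹ * r⁻¹) by group]
    exact mul_mem x1 (conj_mem_Tr (RE hr) (RA' hr) (inv_mem x1))
  · exact mul_mem (conj_mem_of_mem_normalizer (normalizer_le_normalizer_centralizer _ h) (RA hr))
      (inv_mem (RA hr))

theorem normY_of_pg {x : G} (hx : x ∈ L) (h : IsPGroup p (Y ⊔ cj x Y : Subgroup G)) :
    x ∈ normalizer (Y : Set G) :=
  s.normY_of_normA hx (s.normA_of_comm hx (s.comm_of_pg hx h))

theorem gen_of {x : G} (hx : x ∈ L) (h : x ∉ normalizer (Y : Set G)) : Y ⊔ cj x Y = L := by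
  by_contra e
  exact h (s.normY_of_pg hx (pg_of_lt s.Yp s.YL s.mL hx e))

theorem le_norm {X : Subgroup G} (h1 : Y ≤ X) (h2 : X < L) : X ≤ normalizer (Y : Set G) :=
  fun x hx => by
    by_contra h
    exact h2.not_ge ((s.gen_of (h2.le hx) h).ge.trans (sup_le h1 (cj_le_of_mem hx h1)))

theorem pg_norm {X : Subgroup G} (h1 : Y ≤ X) (h2 : X ≤ L) (h3 : IsPGroup p X) :
    X ≤ normalizer (Y : Set G) :=
  s.le_norm h1 (lt_of_le_of_ne h2 fun e => s.npg (e ▸ h3))

theorem not_le_norm : ¬ L ≤ normalizer (Y : Set G) := fun h => s.nO (le_pCoreOf s.YL h s.Yp)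

theorem sup_eq : L ⊔ R = H := by
  by_contra e
  exact s.nO ((le_inf (s.mn _ le_sup_right (lt_of_le_of_ne (sup_le s.LH s.RH) e)) s.YL).trans
    (pCoreOf_inf_le le_sup_left))

theorem BL : B ≤ L := sup_le (cj_le_of_mem s.gL (inf_le_right.trans s.YL)) (inf_le_right.trans s.YL)

theorem charP : CharP p L := by
  refine charP_of_centralizer_le (le_pCoreOf s.BL s.LB (isPGroup_of_le_pCoreOf s.BV))
    (le_pCoreOf inf_le_left (le_normalizer_inf le_normalizer (le_normalizer_centralizer s.LB))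
      (chain s.ch (inf_le_left.trans s.LH) s.BV s.BV (inf_le_left.trans s.L_Tr)
        (fun k hk => mem_Tr_of_le le_rfl fun x hx => ?_) inf_le_right))
  rw [comm_one hk.2 hx]
  exact one_mem _

theorem res_sup : pResOf p L ⊔ Y = L := by
  by_contra e
  obtain ⟨T, h1, h2⟩ := exists_isSylowIn_le s.Yp s.YL
  have h3 := s.le_norm le_sup_right (lt_of_le_of_ne (sup_le (map_subtype_le _) s.YL) e)
  exact s.not_le_norm (h1.pResOf_sup.ge.trans
    (sup_le (le_sup_left.trans h3) (s.pg_norm h2 h1.le h1.pgrp)))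

theorem chief {U W : Subgroup G} (hU : U ≤ V) (nU : H ≤ normalizer (U : Set G))
    (nW : H ≤ normalizer (W : Set G)) (hlt : W < U)
    (hm : ∀ X : Subgroup G, H ≤ normalizer (X : Set G) → W ≤ X → X ≤ U → X = W ∨ X = U)
    (hn : ¬ ⁅U, H⁆ ≤ W) : ¬ ⁅U, pResOf p L⁆ ≤ W := fun h => by
  have UH := hU.trans (pCoreOf_le H)
  obtain ⟨b, h1, h2, h3⟩ := exists_fix (W := W) (isPGroup_sup s.wc.pgrp (isPGroup_of_le_pCoreOf hU)
    (s.RH.trans nU)) U le_sup_right (sup_le (s.RH.trans nU) le_normalizer) hlt.not_ge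
  have h4 : H ≤ Tr {b} W := by
    have h5 : R ≤ Tr {b} W := fun r hr => ⟨nW (s.RH hr), fun x hx => by
      rw [Set.mem_singleton_iff.1 hx]; exact h3 r (mem_sup_left hr)⟩
    rw [← s.sup_eq, ← s.res_sup]
    refine sup_le (sup_le (fun r hr => ⟨nW (s.LH (map_subtype_le _ hr)), fun x hx => ?_⟩)
      (s.YR.trans h5)) h5
    rw [Set.mem_singleton_iff.1 hx]
    exact swap_mem (h (commutator_mem_commutator h1 hr))
  rcases hm (U ⊓ Tr H W) (le_normalizer_inf nU (norm_Tr le_normalizer nW))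
    (le_inf hlt.le fun w hw => ⟨le_normalizer hw, fun x hx => by
      simpa [mul_assoc] using mul_mem hw (conj_mem_of_mem_normalizer (nW hx) (inv_mem hw))⟩)
    inf_le_left with e | e
  · exact h2 (e ▸ mem_inf.2 ⟨h1, nW (UH h1), fun x hx => swap_mem ((h4 hx).2 b rfl)⟩)
  · exact hn (commutator_comm U H ▸ comm_le_of_Tr (inf_eq_left.1 e))

theorem inf_le : pCoreOf p L ⊓ Y ≤ V := by
  have l1 : E ⊔ B ≤ V := sup_le inf_le_left s.BV
  have t1 : H ≤ Tr V (E ⊔ B) := by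
    conv_lhs => rw [← s.sup_eq]
    exact sup_le (fun x hx => mem_Tr_of_le l1 fun v hv => mem_sup_right ((s.L_Tr hx).2 v hv))
      fun x hx => mem_Tr_of_le l1 fun v hv => mem_sup_left ((s.R_Tr hx).2 v hv)
  have n1 : H ≤ normalizer ((E ⊔ B : Subgroup G) : Set G) := fun x hx => (t1 hx).1
  refine le_trans (b := H ⊓ Tr (E ⊔ B : Subgroup G) Z) (fun a ha => ?_)
    (le_pCoreOf inf_le_left (le_normalizer_inf le_normalizer (norm_Tr n1 s.HZ))
      (chain s.ch inf_le_left l1 (inf_le_left.trans inf_le_left) (inf_le_left.trans t1)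
        inf_le_right (inf_le_left.trans (le_centralizer_iff.1 inf_le_right))))
  have aH := s.YH ha.2
  have VH := pCoreOf_le (p := p) H
  have k1 : E ≤ Tr {a} Z := fun e he => ⟨s.HZ (VH he.1), fun x hx => by
    rw [Set.mem_singleton_iff.1 hx, comm_one he.2 ha.2]; exact one_mem _⟩
  have k2 : pCoreOf p L ≤ normalizer (cj g Y : Set G) := by
    rw [← cj_normalizer, ← cj_eq_of_mem_normalizer (le_normalizer_pCoreOf (p := p) L s.gL)]
    exact cj_mono _ (le_sup_right.trans (s.pg_norm le_sup_left (sup_le s.YL (pCoreOf_le L))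
      (isPGroup_sup s.Yp (isPGroup_pCoreOf L) (s.YL.trans (le_normalizer_pCoreOf L)))))
  have k3 : E ⊔ B ≤ Tr {a} Z := by
    refine sup_le k1 (sup_le (fun b hb => ?_) (s.AE.trans k1))
    rw [s.cjA (s.LH s.gL)] at hb
    refine ⟨s.HZ (VH hb.1), fun x hx => ?_⟩
    rw [Set.mem_singleton_iff.1 hx]
    refine swap_mem ?_
    have := (s.Y_Tr ha.2).2 b hb.1
    exact ⟨this, s.inter (s.LH s.gL) s.nc (mem_inf.2 ⟨this.2,
      mul_mem (conj_mem_of_mem_normalizer (k2 ha.1) hb.2) (inv_mem (mem_inf.1 hb).2)⟩)⟩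
  exact ⟨aH, s.HZ aH, fun x hx => swap_mem ((k3 hx).2 a rfl)⟩

end Sl

end Cfsg.Agent.Part.Asy
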