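import Mathlib
import Cfsg.Agent.Part.AG1
import Cfsg.Agent.PLocal.ZJ
import Cfsg.Agent.Transfer.Factorization
import Cfsg.Agent.Core.PLength
import Cfsg.Agent.S0144
import Cfsg.Agent.S0109
import Cfsg.Agent.S4302

set_option autoImplicit false
set_option linter.unusedSectionVars false
open Cfsg Subgroup

namespace Cfsg.Agent.Part.AutQ

open Cfsg.Agent Cfsg.Agent.LocalEven Cfsg.Agent.Glaub

universe u

section
variable {G : Type*} [Group G] [Finite G] {p q : ℕ} [hp : Fact p.Prime] [hq : Fact q.Prime]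

theorem dvd_of_pow {N C : Subgroup G} (hn : N ≤ 𝐍⟮C⟯) {x : G} (hx : x ∈ N) (hxC : x ∉ C) {k : ℕ}
    (hk : x ^ q ^ k ∈ C) : q ∣ C.relIndex N := by
  haveI : (C.subgroupOf N).Normal := normal_subgroupOf_of_le_normalizer hn
  let y : N ⧸ C.subgroupOf N := QuotientGroup.mk ⟨x, hx⟩
  have h1 : y ^ q ^ k = 1 := by
    rw [← QuotientGroup.mk_pow, QuotientGroup.eq_one_iff]; exact hk
  obtain ⟨j, -, hj⟩ := (Nat.dvd_prime_pow hq.out).1 (orderOf_dvd_of_pow_eq_one h1)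
  have h2 : j ≠ 0 := by
    rintro rfl
    exact hxC ((QuotientGroup.eq_one_iff (N := C.subgroupOf N) _).1 (orderOf_eq_one_iff.1 hj))
  exact (hj ▸ dvd_pow_self q h2).trans (orderOf_dvd_natCard y)

theorem exists_of_dvd {N C : Subgroup G} (h : q ∣ C.relIndex N) :
    ∃ x ∈ N, x ∉ C ∧ ∃ k, x ^ q ^ k = 1 := by
  obtain ⟨Q, hQ⟩ := exists_isSylowIn q N
  have : ¬ Q ≤ C := fun h1 => hQ.not_dvd_of_le h1 h
  obtain ⟨x, hx, hxC⟩ := SetLike.not_le_iff_exists.1 this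
  exact ⟨x, hQ.le hx, hxC, isPGroup_iff_mem.1 hQ.pgrp x hx⟩

theorem dvd_or_of_mul {A C : Subgroup G} (h : ∀ g : G, ∃ a ∈ A, ∃ c ∈ C, g = a * c)
    (hd : q ∣ Nat.card G) : q ∣ Nat.card A ∨ q ∣ Nat.card C := by
  haveI : MulAction.IsPretransitive A (G ⧸ C) := by
    refine ⟨fun x y => ?_⟩
    obtain ⟨x, rfl⟩ := QuotientGroup.mk_surjective x
    obtain ⟨y, rfl⟩ := QuotientGroup.mk_surjective y
    obtain ⟨a, ha, c, hc, rfl⟩ := h x
    obtain ⟨b, hb, d, hd, rfl⟩ := h y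
    refine ⟨⟨b * a⁻¹, mul_mem hb (inv_mem ha)⟩, ?_⟩
    change QuotientGroup.mk (b * a⁻¹ * (a * c)) = _
    rw [QuotientGroup.eq]
    have : (b * a⁻¹ * (a * c))⁻¹ * (b * d) = c⁻¹ * d := by group
    rw [this]; exact mul_mem (inv_mem hc) hd
  have h1 := MulAction.index_stabilizer_of_transitive A (QuotientGroup.mk 1 : G ⧸ C)
  rw [← C.card_mul_index, hq.out.dvd_mul] at hd
  rcases hd with hd | hd
  · exact Or.inr hd
  · left
    rw [index_eq_card, ← h1] at hd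
    exact hd.trans (index_dvd_card _)

end

/-- A `{p,q}`-overgroup of a `p`-subgroup in a `p`-solvable group. -/
theorem hall {p q : ℕ} [hp : Fact p.Prime] [hq : Fact q.Prime] (hpq : p ≠ q) (X : Type u) [Group X]
    [Finite X] : IsPSolvable p X → q ∣ Nat.card X → ∀ S : Subgroup X, IsPGroup p S →
      ∃ L : Subgroup X, S ≤ L ∧ q ∣ Nat.card L ∧ ∀ r, r.Prime → r ∣ Nat.card L → r = p ∨ r = q := by
  refine Core.induction_on_card (P := fun X _ _ => IsPSolvable p X → q ∣ Nat.card X →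
    ∀ S : Subgroup X, IsPGroup p S → ∃ L : Subgroup X, S ≤ L ∧ q ∣ Nat.card L ∧
      ∀ r, r.Prime → r ∣ Nat.card L → r = p ∨ r = q) ?_ X
  intro X _ _ ih hX hd S hS
  haveI : Nontrivial X := Finite.one_lt_card_iff_nontrivial.1
    (lt_of_lt_of_le hq.out.one_lt (Nat.le_of_dvd Nat.card_pos hd))
  obtain ⟨N, hN, hne, hNp⟩ := Core.IsPSolvable.exists_normal hX
  obtain ⟨s, hs⟩ := IsPGroup.iff_card.1 hS
  haveI := hS.isNilpotent
  by_cases hqN : q ∣ Nat.card N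
  · have hNc : (Nat.card N).Coprime p := by
      refine hNp.resolve_left fun h => ?_
      obtain ⟨n, hn⟩ := IsPGroup.iff_card.1 h
      rw [hn] at hqN
      exact hpq ((Nat.prime_dvd_prime_iff_eq hq.out hp.out).1 (hq.out.dvd_of_dvd_pow hqN)).symm
    obtain ⟨Q, hQ, hSQ⟩ := Core.exists_invariant_isSylowOf S N le_normalizer_of_normal
      (by rw [hs]; exact Nat.Coprime.pow_left _ hNc.symm) (Or.inl inferInstance) q
    have hQ' := isSylowIn_of_not_dvd hQ.1 hQ.2.1 hQ.2.2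
    refine ⟨Q ⊔ S, le_sup_right, dvd_card_of_ne_bot hQ.2.1 le_sup_left (hQ'.ne_bot hqN), ?_⟩
    intro r hr h1
    obtain ⟨t, ht⟩ := IsPGroup.iff_card.1 hQ.2.1
    have h2 := h1.trans (card_sup_dvd hSQ)
    rw [ht, hs, hr.dvd_mul] at h2
    rcases h2 with h2 | h2
    · exact Or.inr ((Nat.prime_dvd_prime_iff_eq hr hq.out).1 (hr.dvd_of_dvd_pow h2))
    · exact Or.inl ((Nat.prime_dvd_prime_iff_eq hr hp.out).1 (hr.dvd_of_dvd_pow h2))
  have hd' : q ∣ Nat.card (X ⧸ N) := by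
    rw [card_eq_card_quotient_mul_card_subgroup N, hq.out.dvd_mul] at hd
    exact hd.resolve_right hqN
  obtain ⟨L, h1, h2, h3⟩ := ih (X ⧸ N) (Core.card_quotient_lt N hne)
    (Core.IsPSolvable.quotient hX N) hd' (S.map (QuotientGroup.mk' N)) (hS.map _)
  have hNL : N ≤ L.comap (QuotientGroup.mk' N) := by
    intro x hx
    rw [mem_comap, QuotientGroup.mk'_apply, (QuotientGroup.eq_one_iff x).2 hx]; exact one_mem _
  have hrel : N.relIndex (L.comap (QuotientGroup.mk' N)) = Nat.card L := by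
    conv_lhs => lhs; rw [← QuotientGroup.ker_mk' N]
    rw [relIndex_ker, map_comap_eq_self_of_surjective (QuotientGroup.mk'_surjective N)]
  have hSL : S ≤ L.comap (QuotientGroup.mk' N) := map_le_iff_le_comap.1 h1
  rcases hNp with hNp | hNc
  · refine ⟨_, hSL, ?_, fun r hr h4 => ?_⟩
    · rw [← card_mul_relIndex hNL, hrel]; exact h2.mul_left _
    · obtain ⟨n, hn⟩ := IsPGroup.iff_card.1 hNp
      rw [← card_mul_relIndex hNL, hrel, hn, hr.dvd_mul] at h4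
      rcases h4 with h4 | h4
      · exact Or.inl ((Nat.prime_dvd_prime_iff_eq hr hp.out).1 (hr.dvd_of_dvd_pow h4))
      · exact h3 r hr h4
  · obtain ⟨K, k1, -, k3, k4⟩ := Core.exists_complement_in N _ hNL le_normalizer_of_normal (by
      rw [hrel]
      refine Nat.coprime_of_dvd fun r hr a b => ?_
      rcases h3 r hr b with rfl | rfl
      · exact (not_dvd_of_coprime hNc) a
      · exact hqN a)
    obtain ⟨n, -, hn⟩ := Core.exists_conj_le_of_le_sup N S K le_normalizer_of_normal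
      le_normalizer_of_normal (by rw [hs]; exact Nat.Coprime.pow_left _ hNc.symm)
      (Or.inl inferInstance) (k3 ▸ hSL)
    rw [← cj_eq_smul, cj_le_iff] at hn
    refine ⟨_, hn, ?_, ?_⟩
    · rwa [card_cj, k4, hrel]
    · rwa [card_cj, k4, hrel]

section
variable {G : Type*} [Group G] [Finite G] {p q : ℕ} [hp : Fact p.Prime] [hq : Fact q.Prime]

theorem solv_of_two (h : ∀ r, r.Prime → r ∣ Nat.card G → r = p ∨ r = q) : Group.IsSolvable G := by
  have h0 : Nat.card G ≠ 0 := Nat.card_pos.ne'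
  obtain ⟨a, m, hm, e⟩ := Nat.exists_eq_pow_mul_and_not_dvd h0 p hp.out.ne_one
  have hm0 : m ≠ 0 := by rintro rfl; exact hm (dvd_zero _)
  have : m = q ^ m.primeFactorsList.length := Nat.eq_prime_pow_of_unique_prime_dvd hm0 fun {r} hr hd => by
    rcases h r hr (e ▸ hd.mul_left _) with rfl | rfl
    · exact absurd hd hm
    · rfl
  exact S0144.result p q a _ hp.out hq.out (by rw [e, ← this])

theorem fac (hpq : p ≠ q) (h23 : ¬ ((p = 2 ∧ q = 3) ∨ (p = 3 ∧ q = 2)))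
    (h : ∀ r, r.Prime → r ∣ Nat.card G → r = p ∨ r = q) (hO : pPrimeCore p G = ⊥)
    (hd : q ∣ Nat.card G) (S : Sylow p G) :
    ∃ x : G, orderOf x = q ∧ (x ∈ 𝐂⟮omegaOneCenter p (S : Subgroup G)⟯ ∨
      ∃ n, (n = 0 ∨ n = p) ∧ x ∈ 𝐍⟮PLocal.jn n (S : Subgroup G)⟯) := by
  haveI hs := solv_of_two h
  suffices H : ∃ n, (n = 0 ∨ n = p) ∧ ∀ g : G, ∃ a ∈ 𝐍⟮PLocal.jn n (S : Subgroup G)⟯,
      ∃ c ∈ 𝐂⟮omegaOneCenter p (S : Subgroup G)⟯, g = a * c by
    obtain ⟨n, hn, H⟩ := H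
    rcases dvd_or_of_mul H hd with h1 | h1
    · obtain ⟨x, hx, ho⟩ := exists_mem_orderOf_eq h1
      exact ⟨x, ho, Or.inr ⟨n, hn, hx⟩⟩
    · obtain ⟨x, hx, ho⟩ := exists_mem_orderOf_eq h1
      exact ⟨x, ho, Or.inl hx⟩
  by_cases h2 : p = 2
  · subst h2
    refine ⟨0, Or.inl rfl, fun g => ?_⟩
    obtain ⟨h1, h3⟩ := S4302.result (Core.fitting_eq_pCore 2 hO) S
    rcases h3 with h3 | ⟨n, hn, ⟨e⟩⟩
    · rw [sup_eq_left.2 h3, sup_comm, PLocal.thompsonSubgroupAOf_eq] at h1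
      obtain ⟨a, ha, c, hc, rfl⟩ := mem_sup_of_normal_right.1 (h1 ▸ mem_top g)
      refine ⟨a, ha, c, centralizer_le ?_ (normalCore_le _ hc), rfl⟩
      exact omegaOne_le _
    · exfalso
      have h4 : 3 ∣ Nat.card G := by
        refine Dvd.dvd.trans ?_ (card_subgroup_dvd_card
          (normalClosure (thompsonSubgroupAOf (S : Subgroup G) : Set G)))
        have h6 : Nat.card (Fin n → Equiv.Perm (Fin 3)) ∣
            Nat.card (normalClosure (thompsonSubgroupAOf (S : Subgroup G) : Set G)) := by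
          rw [← Nat.card_congr e.toEquiv]; exact card_quotient_dvd_card _
        refine Dvd.dvd.trans ?_ h6
        rw [Nat.card_fun, Nat.card_perm, Nat.card_eq_fintype_card,
          Nat.card_eq_fintype_card, Fintype.card_fin, Fintype.card_fin]
        exact Dvd.dvd.pow (by decide) (by omega)
      rcases h 3 Nat.prime_three h4 with h5 | h5
      · omega
      · exact h23 (Or.inl ⟨rfl, h5.symm⟩)
  · refine ⟨p, Or.inr rfl, fun g => ?_⟩
    obtain ⟨a, ha, c, hc, rfl⟩ := S0109.result h2 hs (fun h3 T => by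
      have : (T : Subgroup G) = ⊥ := by
        refine eq_bot_of_not_dvd T.isPGroup' le_top ?_
        rw [card_top]
        intro h4
        rcases h 2 Nat.prime_two h4 with h5 | h5
        · exact h2 h5.symm
        · exact h23 (Or.inr ⟨h3, h5.symm⟩)
      rw [this]; infer_instance)
      (fun N hN hc => le_bot_iff.1 (hO ▸ Core.le_pPrimeCore hN hc)) S g
    rw [PLocal.thompsonSubgroupOf_eq] at ha
    refine ⟨a, ha, c, centralizer_le ?_ hc, rfl⟩
    intro x hx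
    obtain ⟨h1, h3, h4⟩ := mem_omegaOneCenter.1 hx
    exact ⟨h1, fun y hy => (mem_centralizer_iff.1 h3 y hy).symm, h4⟩

theorem omega_le_jn {S : Subgroup G} {n : ℕ} (hn : n = 0 ∨ n = p) :
    omegaOneCenter p S ≤ PLocal.jn n S := by
  obtain ⟨A, hA⟩ := PLocal.abFam_nonempty n S
  intro x hx
  obtain ⟨h1, h3, h4⟩ := mem_omegaOneCenter.1 hx
  refine PLocal.abFam.le_jn hA (PLocal.abFam.mem_of_centralizes hA h1
    (centralizer_le (PLocal.abFam.le hA) h3) ?_)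
  rcases hn with rfl | rfl
  · exact pow_zero x
  · exact h4

theorem core_le_cent' {H : Subgroup G} [H.Normal] (hH : IsPGroup p H) :
    pPrimeCore p G ≤ 𝐂⟮H⟯ := by
  rw [← LocalEven.commutator_eq_bot_iff, eq_bot_iff]
  refine (commutator_le_inf _ _).trans ?_
  rw [inf_comm]
  exact (inf_eq_bot_of_not_dvd hH (not_dvd_of_coprime (Core.pPrimeCore_coprime p))).le

theorem cent_le_sup {H : Subgroup G} [H.Normal] (S : Sylow p G)
    (hc : (S : Subgroup G) ⊓ 𝐂⟮H⟯ ≤ H) : 𝐂⟮H⟯ ≤ pPrimeCore p G ⊔ H := by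
  have hs := sylow_inf_normal S 𝐂⟮H⟯
  rw [← hs.pResOf_sup]
  refine sup_le_sup (Core.le_pPrimeCore (pResOf_normal _) ?_) hc
  exact coprime_pResOf_of_burnside hs (inf_le_left.trans (cent_anti hc))

theorem fac' (hpq : p ≠ q) (h23 : ¬ ((p = 2 ∧ q = 3) ∨ (p = 3 ∧ q = 2)))
    (hG : IsPSolvable p G) {H : Subgroup G} [H.Normal] (hH : IsPGroup p H) (hc : 𝐂⟮H⟯ ≤ H)
    (hd : q ∣ Nat.card G) (S : Sylow p G) :
    ∃ x : G, orderOf x = q ∧ (x ∈ 𝐂⟮omegaOneCenter p (S : Subgroup G)⟯ ∨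
      ∃ n, (n = 0 ∨ n = p) ∧ x ∈ 𝐍⟮PLocal.jn n (S : Subgroup G)⟯) := by
  obtain ⟨L, h1, h2, h3⟩ := hall hpq G hG hd S S.isPGroup'
  have hHL : H ≤ L := (normal_le_sylow inferInstance hH S).trans h1
  have hO : pPrimeCore p L = ⊥ := by
    have h4 : pPrimeCore p L ≤ H.subgroupOf L := by
      refine (core_le_cent' (isPGroup_subgroupOf (K := L) hH)).trans ?_
      rw [centralizer_subgroupOf hHL]
      exact subgroupOf_mono _ hc
    exact eq_bot_of_not_dvd ((isPGroup_subgroupOf hH).to_le h4) le_rfl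
      (not_dvd_of_coprime (Core.pPrimeCore_coprime p))
  obtain ⟨x, hx, h4⟩ := fac hpq h23 h3 hO h2 (S.subtype h1)
  have e : ((S.subtype h1 : Sylow p L) : Subgroup L).map L.subtype = S :=
    map_subgroupOf_eq_of_le h1
  refine ⟨x, by rwa [orderOf_coe], ?_⟩
  rcases h4 with h4 | ⟨n, hn, h4⟩
  · left
    rw [← e, ← map_omegaOneCenter_of_injective _ L.subtype_injective, mem_centralizer_iff]
    rintro _ ⟨y, hy, rfl⟩
    exact congrArg Subtype.val (mem_centralizer_iff.1 h4 y hy)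
  · right
    refine ⟨n, hn, ?_⟩
    rw [← e, ← PLocal.map_jn _ L.subtype_injective]
    exact le_normalizer_map _ ⟨x, h4, rfl⟩

theorem loc (hpq : p ≠ q) (h23 : ¬ ((p = 2 ∧ q = 3) ∨ (p = 3 ∧ q = 2)))
    {H : Subgroup G} [H.Normal] (hH : IsPGroup p H) (S : Sylow p G)
    (hc : (S : Subgroup G) ⊓ 𝐂⟮H⟯ ≤ H) (hG : IsPSolvable p (G ⧸ 𝐂⟮H⟯)) (hd : q ∣ 𝐂⟮H⟯.index) :
    (∃ x, x ∉ 𝐂⟮H⟯ ∧ x ^ q ∈ 𝐂⟮H⟯ ∧ x ∈ 𝐂⟮omegaOneCenter p (S : Subgroup G)⟯) ∨
      ∃ n, ∃ x ∈ 𝐍⟮PLocal.jn n (S : Subgroup G)⟯, x ∉ 𝐂⟮PLocal.jn n (S : Subgroup G)⟯ ∧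
        x ^ q ∈ 𝐂⟮PLocal.jn n (S : Subgroup G)⟯ := by
  have hOC := core_le_cent' hH
  have hOp : ¬ p ∣ Nat.card (pPrimeCore p G) := not_dvd_of_coprime (Core.pPrimeCore_coprime p)
  have hcop : ∀ {A : Subgroup G}, IsPGroup p A → (Nat.card A).Coprime (Nat.card (pPrimeCore p G)) :=
    fun hA => coprime_card_of_isPGroup hA hOp
  let π := QuotientGroup.mk' (pPrimeCore p G)
  have hπ : Function.Surjective π := QuotientGroup.mk'_surjective _
  haveI : (H.map π).Normal := Normal.map inferInstance _ hπ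
  have h1 : 𝐂⟮H⟯.map π ≤ H.map π := by
    refine (map_mono (cent_le_sup S hc)).trans ?_
    rw [Core.map_mk'_sup_left]
  have h2 : 𝐂⟮H.map π⟯ ≤ H.map π := by
    haveI := hH.isNilpotent
    rw [Core.centralizer_map_mk' H _ (hcop hH) (Or.inl inferInstance)]
    exact h1
  let f : G ⧸ pPrimeCore p G →* G ⧸ 𝐂⟮H⟯ := QuotientGroup.map _ _ (MonoidHom.id G) hOC
  have hf : Function.Surjective f := by
    intro y
    obtain ⟨y, rfl⟩ := QuotientGroup.mk_surjective y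
    exact ⟨QuotientGroup.mk y, rfl⟩
  have h3 : IsPSolvable p (G ⧸ pPrimeCore p G) := by
    refine Core.IsPSolvable.of_ker f (Core.isPSolvable_of_isPGroup ((hH.map π).to_le ?_)) hG
    intro y hy
    obtain ⟨y, rfl⟩ := QuotientGroup.mk_surjective y
    exact h1 ⟨y, (QuotientGroup.eq_one_iff (N := 𝐂⟮H⟯) y).1 hy, rfl⟩
  obtain ⟨y, hy, h4⟩ := fac' hpq h23 h3 (hH.map π) h2
    (hd.trans (card_dvd_of_surjective f hf)) (S.mapSurjective hπ)
  have hnot : ∀ x, π x = y → x ∉ 𝐂⟮H⟯ ∧ x ^ q ∈ pPrimeCore p G := by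
    rintro x rfl
    refine ⟨fun h5 => ?_, ?_⟩
    · obtain ⟨k, hk⟩ := orderOf_of_mem_isPGroup (hH.map π) (h1 ⟨x, h5, rfl⟩)
      rw [hy] at hk
      exact hpq ((Nat.prime_dvd_prime_iff_eq hq.out hp.out).1
        (hq.out.dvd_of_dvd_pow hk.dvd)).symm
    · rw [← QuotientGroup.eq_one_iff]
      change π (x ^ q) = 1
      rw [map_pow, ← hy, pow_orderOf_eq_one]
  rw [Sylow.coe_mapSurjective] at h4
  rcases h4 with h4 | ⟨n, hn, h4⟩
  · rw [Transfer.centralizer_omegaOneCenter_map_mk' S.isPGroup' _ hOp] at h4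
    obtain ⟨x, hx, e⟩ := h4
    exact Or.inl ⟨x, (hnot x e).1, hOC (hnot x e).2, hx⟩
  · have hJ : IsPGroup p (PLocal.jn n (S : Subgroup G)) := S.isPGroup'.to_le (PLocal.jn_le _)
    haveI := hJ.isNilpotent
    rw [← PLocal.map_jn_of_disjoint π (by
      rw [QuotientGroup.ker_mk', disjoint_iff]; exact inf_eq_bot_of_not_dvd S.isPGroup' hOp),
      Core.normalizer_map_mk' _ _ (hcop hJ) (Or.inl inferInstance)] at h4
    obtain ⟨x, hx, e⟩ := h4
    by_cases h5 : x ∈ 𝐂⟮PLocal.jn n (S : Subgroup G)⟯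
    · exact Or.inl ⟨x, (hnot x e).1, hOC (hnot x e).2, cent_anti (omega_le_jn hn) h5⟩
    · refine Or.inr ⟨n, x, hx, h5, mem_cent.2 fun t ht => ?_⟩
      have h6 : x ^ q * t * (x ^ q)⁻¹ * t⁻¹ ∈ PLocal.jn n (S : Subgroup G) ⊓ pPrimeCore p G := by
        refine mem_inf.2 ⟨mul_mem (conj_mem_of_mem_normalizer (pow_mem hx q) ht) (inv_mem ht), ?_⟩
        have := mul_mem (hnot x e).2
          ((inferInstance : (pPrimeCore p G).Normal).conj_mem _ (inv_mem (hnot x e).2) t)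
        simpa only [mul_assoc] using this
      rw [inf_eq_bot_of_not_dvd hJ hOp, mem_bot, mul_inv_eq_one] at h6
      exact h6

end

end Cfsg.Agent.Part.AutQ
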