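import Mathlib
import Cfsg.Agent.Part.AutQ1

set_option autoImplicit false
set_option linter.unusedSectionVars false
open Cfsg Subgroup
open scoped commutatorElement

namespace Cfsg.Agent.Part.AutQ

open Cfsg.Agent Cfsg.Agent.LocalEven Cfsg.Agent.Glaub

universe u

/-- `q` divides the order of the automizer -/
def AQ {G : Type*} [Group G] (q : ℕ) (H : Subgroup G) : Prop := q ∣ 𝐂⟮H⟯.relIndex 𝐍⟮H⟯

/-- automizers of `p`-subgroups are `p`-solvable -/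
def PS (p : ℕ) (G : Type*) [Group G] : Prop :=
  ∀ H : Subgroup G, IsPGroup p H → IsPSolvable p (𝐍⟮H⟯ ⧸ 𝐂⟮H⟯.subgroupOf 𝐍⟮H⟯)

section
variable {G : Type*} [Group G] [Finite G] {p q : ℕ} [hp : Fact p.Prime] [hq : Fact q.Prime]

theorem aq_of {H : Subgroup G} {x : G} (hx : x ∈ 𝐍⟮H⟯) (hc : x ∉ 𝐂⟮H⟯) {k : ℕ}
    (hk : x ^ q ^ k ∈ 𝐂⟮H⟯) : AQ q H :=
  dvd_of_pow (normalizer_le_normalizer_centralizer H) hx hc hk

theorem AQ.conj {H : Subgroup G} (h : AQ q H) (g : G) : AQ q (cj g H) := by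
  rwa [AQ, ← cj_centralizer, ← cj_normalizer, relIndex_cj]

theorem cent_map_iff {L : Subgroup G} {K : Subgroup L} {x : L} :
    (x : G) ∈ 𝐂⟮K.map L.subtype⟯ ↔ x ∈ 𝐂⟮K⟯ := by
  simp only [mem_centralizer_iff]
  constructor
  · intro h y hy
    exact Subtype.ext (h y ⟨y, hy, rfl⟩)
  · rintro h _ ⟨y, hy, rfl⟩
    exact congrArg Subtype.val (h y hy)

theorem AQ.map_subtype {L : Subgroup G} {K : Subgroup L} (h : AQ q K) : AQ q (K.map L.subtype) := by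
  obtain ⟨x, hx, hc, k, hk⟩ := exists_of_dvd h
  refine aq_of (x := x) (le_normalizer_map _ ⟨x, hx, rfl⟩) (fun h1 => hc (cent_map_iff.1 h1))
    (k := k) ?_
  rw [← coe_pow, hk]; exact one_mem _

theorem PS.sub (h : PS p G) (L : Subgroup G) : PS p L := by
  intro K hK
  let f : 𝐍⟮K⟯ →* 𝐍⟮K.map L.subtype⟯ :=
    (L.subtype.comp 𝐍⟮K⟯.subtype).codRestrict _ fun x => le_normalizer_map _ ⟨x, x.2, rfl⟩
  refine Core.IsPSolvable.of_injective (h _ (hK.map L.subtype))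
    (f := QuotientGroup.map _ _ f fun x hx => cent_map_iff.2 hx) ?_
  rw [injective_iff_map_eq_one]
  intro y hy
  obtain ⟨y, rfl⟩ := QuotientGroup.mk_surjective y
  have h1 : f y ∈ 𝐂⟮K.map L.subtype⟯.subgroupOf 𝐍⟮K.map L.subtype⟯ :=
    (QuotientGroup.eq_one_iff _).1 hy
  exact (QuotientGroup.eq_one_iff _).2 (cent_map_iff.1 h1)

theorem cent_comap_le {G' : Type*} [Group G'] {f : G →* G'} (hf : Function.Surjective f)
    (K : Subgroup G') : 𝐂⟮K.comap f⟯ ≤ 𝐂⟮K⟯.comap f := by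
  intro x hx
  rw [mem_comap, mem_centralizer_iff]
  intro y hy
  obtain ⟨y, rfl⟩ := hf y
  rw [← map_mul, ← map_mul, mem_centralizer_iff.1 hx y hy]

theorem PS.quot (h : PS p G) (Z : Subgroup G) [Z.Normal] (hZ : IsPGroup p Z) : PS p (G ⧸ Z) := by
  intro K hK
  let π := QuotientGroup.mk' Z
  have hπ : Function.Surjective π := QuotientGroup.mk'_surjective _
  have e := comap_normalizer_eq_of_surjective K hπ
  let f : 𝐍⟮K.comap π⟯ →* 𝐍⟮K⟯ :=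
    (π.comp 𝐍⟮K.comap π⟯.subtype).codRestrict _ fun x => (e.ge x.2 :)
  refine Core.IsPSolvable.of_surjective
    (h _ (hK.comap_of_ker_isPGroup π (by rwa [QuotientGroup.ker_mk'])))
    (f := QuotientGroup.map _ _ f fun x hx => cent_comap_le hπ K hx) ?_
  intro y
  obtain ⟨⟨y, hy⟩, rfl⟩ := QuotientGroup.mk_surjective y
  obtain ⟨y, rfl⟩ := hπ y
  exact ⟨QuotientGroup.mk ⟨y, e.le hy⟩, rfl⟩

theorem AQ.comap {G' : Type*} [Group G'] [Finite G'] {f : G →* G'} (hf : Function.Surjective f)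
    {K : Subgroup G'} (h : AQ q K) : AQ q (K.comap f) := by
  have h1 : q ∣ (𝐂⟮K⟯.comap f).relIndex 𝐍⟮K.comap f⟯ := by
    rwa [← comap_normalizer_eq_of_surjective K hf, relIndex_comap,
      map_comap_eq_self_of_surjective hf]
  exact h1.trans (relIndex_dvd_of_le_left _ (cent_comap_le hf K))

theorem AQ.quot (hpq : p ≠ q) {H Z : Subgroup G} [Z.Normal] (hZ : IsPGroup p Z)
    (hc : 𝐂⟮Z⟯ = ⊤) (h : AQ q H) : AQ q (H.map (QuotientGroup.mk' Z)) := by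
  obtain ⟨x, hx, hxc, k, hk⟩ := exists_of_dvd h
  refine aq_of (x := QuotientGroup.mk' Z x) (le_normalizer_map _ ⟨x, hx, rfl⟩) (fun h1 => hxc ?_)
    (k := k) (by rw [← map_pow, hk, map_one]; exact one_mem _)
  refine Core.le_centralizer_of_commutator_le_of_centralizes (zpowers x) H Z ?_ (hc ▸ le_top) ?_
    (mem_zpowers x)
  · obtain ⟨a, ha⟩ := IsPGroup.iff_card.1 (isPGroup_zpowers hk)
    obtain ⟨b, hb⟩ := IsPGroup.iff_card.1 hZ
    rw [ha, hb]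
    exact Nat.Coprime.pow _ _ ((Nat.coprime_primes hq.out hp.out).2 hpq.symm)
  · rw [← QuotientGroup.ker_mk' Z, ← Subgroup.map_eq_bot_iff, map_commutator,
      ← Core.le_centralizer_iff_commutator_eq_bot, MonoidHom.map_zpowers, zpowers_le]
    exact h1

theorem AQ.star (hpq : p ≠ q) {H S : Subgroup G} (hH : IsPGroup p H) (hS : IsSylowIn p S 𝐍⟮H⟯)
    (h : AQ q H) : AQ q (S ⊓ (H ⊔ 𝐂⟮H⟯)) := by
  have h1 : H ⊔ 𝐂⟮H⟯ ≤ 𝐍⟮H⟯ := sup_le le_normalizer (centralizer_le_normalizer' H)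
  have h2 : 𝐍⟮H⟯ ≤ 𝐍⟮H ⊔ 𝐂⟮H⟯⟯ := le_normalizer_sup le_rfl (normalizer_le_normalizer_centralizer H)
  have hs := hS.inf_of_le_normalizer h1 h2
  obtain ⟨x, hx, hxc, k, hk⟩ := exists_of_dvd h
  have h3 : x ∉ H ⊔ 𝐂⟮H⟯ := fun h4 => by
    have h5 := dvd_of_pow (h1.trans (normalizer_le_normalizer_centralizer H)) h4 hxc
      (k := k) (hk ▸ one_mem _)
    rw [sup_comm, Core.relIndex_sup_of_le_normalizer
      (le_normalizer.trans (normalizer_le_normalizer_centralizer H))] at h5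
    obtain ⟨a, ha⟩ := IsPGroup.iff_card.1 hH
    have h6 := h5.trans (relIndex_dvd_card _ _)
    rw [ha] at h6
    exact hpq ((Nat.prime_dvd_prime_iff_eq hq.out hp.out).1 (hq.out.dvd_of_dvd_pow h6)).symm
  have h4 : q ∣ (H ⊔ 𝐂⟮H⟯).relIndex 𝐍⟮H⟯ := dvd_of_pow h2 hx h3 (k := k) (hk ▸ one_mem _)
  rw [← hs.frattini_sup h1 h2, Core.relIndex_sup_of_le_normalizer (inf_le_left.trans h2)] at h4
  obtain ⟨y, hy, hyc, j, hj⟩ := exists_of_dvd h4
  refine aq_of hy.2 (fun h5 => hyc (le_sup_right (a := H) (cent_anti ?_ h5))) (k := j)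
    (hj ▸ one_mem _)
  exact le_inf (hS.le_of_le_normalizer le_normalizer hH hS.le) le_sup_left

theorem loc' (hpq : p ≠ q) (h23 : ¬ ((p = 2 ∧ q = 3) ∨ (p = 3 ∧ q = 2))) (hps : PS p G)
    {H S : Subgroup G} (hH : IsPGroup p H) (hS : IsSylowIn p S 𝐍⟮H⟯) (hc : S ⊓ 𝐂⟮H⟯ ≤ H)
    (h : AQ q H) :
    (∃ x ∈ 𝐍⟮H⟯, x ∉ 𝐂⟮H⟯ ∧ x ^ q ∈ 𝐂⟮H⟯ ∧ x ∈ 𝐂⟮omegaOneCenter p S⟯) ∨
      ∃ n, AQ q (PLocal.jn n S) := by
  have e0 : (H.subgroupOf 𝐍⟮H⟯).map 𝐍⟮H⟯.subtype = H := map_subgroupOf_eq_of_le le_normalizer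
  have e1 : 𝐂⟮H.subgroupOf 𝐍⟮H⟯⟯ = 𝐂⟮H⟯.subgroupOf 𝐍⟮H⟯ := centralizer_subgroupOf le_normalizer
  have h1 := loc hpq h23 (H := H.subgroupOf 𝐍⟮H⟯) (isPGroup_subgroupOf hH) hS.toSylow
    (by
      rw [hS.coe_toSylow, e1]
      intro x hx
      exact hc ⟨hx.1, hx.2⟩)
    (Core.IsPSolvable.of_mulEquiv (hps H hH) (QuotientGroup.quotientMulEquivOfEq e1.symm))
    (by rw [e1]; exact h)
  rcases h1 with ⟨x, h2, h3, h4⟩ | ⟨n, x, h2, h3, h4⟩
  · left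
    rw [e1] at h2 h3
    refine ⟨x, x.2, h2, h3, ?_⟩
    rw [← hS.map_toSylow, ← map_omegaOneCenter_of_injective _ (subtype_injective _)]
    exact cent_map_iff.2 h4
  · right
    refine ⟨n, ?_⟩
    rw [← hS.map_toSylow, ← PLocal.map_jn _ (subtype_injective _)]
    exact (aq_of h2 h3 (k := 1) (by rwa [pow_one])).map_subtype

/-- the `p`-part of the normalizer -/
noncomputable def vv (p : ℕ) (H : Subgroup G) : ℕ := (Nat.card 𝐍⟮H⟯).factorization p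

theorem card_le_vv {H S : Subgroup G} (hS : IsPGroup p S) (h : S ≤ 𝐍⟮H⟯) :
    Nat.card S ≤ p ^ vv p H := by
  obtain ⟨T, hT, h1⟩ := exists_isSylowIn_le hS h
  rw [vv, ← hT.card_eq]
  exact card_le_of_le' h1

theorem exists_max {H : Subgroup G} (hH : IsPGroup p H) (h : AQ q H) :
    ∃ K : Subgroup G, IsPGroup p K ∧ AQ q K ∧ ∀ L : Subgroup G, IsPGroup p L → AQ q L →
      vv p L ≤ vv p K ∧ (vv p K ≤ vv p L → Nat.card L ≤ Nat.card K) := by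
  obtain ⟨A, hA, h1⟩ := Set.exists_max_image {K : Subgroup G | IsPGroup p K ∧ AQ q K} (vv p)
    (Set.toFinite _) ⟨H, hH, h⟩
  obtain ⟨K, hK, h2⟩ := Set.exists_max_image
    {K : Subgroup G | (IsPGroup p K ∧ AQ q K) ∧ vv p A ≤ vv p K} (fun K => Nat.card K)
    (Set.toFinite _) ⟨A, hA, le_rfl⟩
  exact ⟨K, hK.1.1, hK.1.2, fun L a b => ⟨(h1 L ⟨a, b⟩).trans hK.2,
    fun c => h2 L ⟨⟨a, b⟩, hK.2.trans c⟩⟩⟩

theorem step (hpq : p ≠ q) (h23 : ¬ ((p = 2 ∧ q = 3) ∨ (p = 3 ∧ q = 2))) (hps : PS p G)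
    {H : Subgroup G} (hH : IsPGroup p H) (h : AQ q H) (P : Sylow p G) :
    ∃ K : Subgroup G, K ≤ P ∧ AQ q K ∧ ((P : Subgroup G) ≤ 𝐍⟮K⟯ ∨ ((P : Subgroup G) ≠ ⊥ ∧
      ∃ x ∈ 𝐍⟮K⟯, x ∉ 𝐂⟮K⟯ ∧ x ^ q ∈ 𝐂⟮K⟯ ∧ x ∈ 𝐂⟮omegaOneCenter p (P : Subgroup G)⟯)) := by
  obtain ⟨K₀, a1, a2, a3⟩ := exists_max hH h
  obtain ⟨g, -, b1, b2⟩ := exists_ext (isSylowIn_top P) a1 le_top (le_normalizer (H := K₀))
  have hv : vv p (cj g K₀) = vv p K₀ := by rw [vv, ← cj_normalizer, card_cj]; rfl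
  rw [← hv, ← card_cj g K₀] at a3
  have hK := isPGroup_cj g a1
  have hA := a2.conj g
  generalize cj g K₀ = K at *
  have hS : IsSylowIn p ((P : Subgroup G) ⊓ 𝐍⟮K⟯) 𝐍⟮K⟯ := by simpa [Extr] using b1
  refine ⟨K, b2.trans inf_le_left, hA, ?_⟩
  by_cases hP : (P : Subgroup G) ≤ 𝐍⟮K⟯
  · exact Or.inl hP
  right
  have hlt : (P : Subgroup G) ⊓ 𝐍⟮K⟯ < P := lt_of_le_of_ne inf_le_left fun e => hP (e ▸ inf_le_right)
  refine ⟨fun e => hP (e ▸ bot_le), ?_⟩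
  have hcard : Nat.card ((P : Subgroup G) ⊓ 𝐍⟮K⟯ : Subgroup G) = p ^ vv p K := hS.card_eq
  have hc : (P : Subgroup G) ⊓ 𝐍⟮K⟯ ⊓ 𝐂⟮K⟯ ≤ K := by
    have h1 := (a3 _ hS.pgrp.to_inf_left (hA.star hpq hK hS)).2 (by
      rw [← pow_le_pow_iff_right₀ hp.out.one_lt, ← hcard]
      exact card_le_vv hS.pgrp (le_normalizer_inf le_normalizer (inf_le_right.trans
        (le_normalizer_sup le_rfl (normalizer_le_normalizer_centralizer K)))))
    exact (inf_le_inf_left _ le_sup_right).trans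
      (eq_of_le_of_card_le (le_inf b2 le_sup_left) h1).ge
  rcases loc' hpq h23 hps hK hS hc hA with ⟨x, h1, h2, h3, h4⟩ | ⟨n, h1⟩
  · refine ⟨x, h1, h2, h3, cent_anti (omegaOneCenter_le_of_le inf_le_left ?_) h4⟩
    refine le_inf (omegaOneCenter_le _) ((omegaOneCenter_le_centralizer _).trans ?_)
    exact (cent_anti (b2.trans inf_le_left)).trans (centralizer_le_normalizer' K)
  · exfalso
    have h2 := (a3 _ (hS.pgrp.to_le (PLocal.jn_le _)) h1).1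
    have h3 := card_le_vv (H := PLocal.jn n ((P : Subgroup G) ⊓ 𝐍⟮K⟯))
      (P.isPGroup'.to_inf_left (K := 𝐍⟮(P : Subgroup G) ⊓ 𝐍⟮K⟯⟯))
      (inf_le_right.trans (PLocal.normalizer_le_normalizer_jn n _))
    have h4 := card_lt_of_lt (lt_inf_normalizer P.isPGroup' hlt)
    have h5 := (pow_le_pow_iff_right₀ hp.out.one_lt).2 h2
    omega

end

theorem main {p q : ℕ} [hp : Fact p.Prime] [hq : Fact q.Prime] (hpq : p ≠ q)
    (h23 : ¬ ((p = 2 ∧ q = 3) ∨ (p = 3 ∧ q = 2))) (G : Type u) [Group G] [Finite G] :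
    PS p G → ∀ H : Subgroup G, IsPGroup p H → AQ q H → ∀ P : Sylow p G,
      ∃ K : Subgroup G, K ≤ P ∧ (P : Subgroup G) ≤ 𝐍⟮K⟯ ∧ AQ q K := by
  refine Core.induction_on_card (P := fun G _ _ => PS p G → ∀ H : Subgroup G, IsPGroup p H →
    AQ q H → ∀ P : Sylow p G, ∃ K : Subgroup G, K ≤ P ∧ (P : Subgroup G) ≤ 𝐍⟮K⟯ ∧ AQ q K) ?_ G
  intro G _ _ ih hps H hH h P
  obtain ⟨K, h1, h2, h3 | ⟨h3, x, h4, h5, h6, h7⟩⟩ := step hpq h23 hps hH h P
  · exact ⟨K, h1, h3, h2⟩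
  have hK : IsPGroup p K := P.isPGroup'.to_le h1
  have hPC := le_centralizer_omegaOneCenter (p := p) (P : Subgroup G)
  have hZp : IsPGroup p (omegaOneCenter p (P : Subgroup G)) :=
    P.isPGroup'.to_le (omegaOneCenter_le _)
  by_cases hC : 𝐂⟮omegaOneCenter p (P : Subgroup G)⟯ = ⊤
  · haveI : (omegaOneCenter p (P : Subgroup G)).Normal := by
      rw [← normalizer_eq_top_iff, eq_top_iff, ← hC]; exact centralizer_le_normalizer' _
    have hπ := QuotientGroup.mk'_surjective (omegaOneCenter p (P : Subgroup G))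
    obtain ⟨L, a1, a2, a3⟩ := ih _ (Core.card_quotient_lt _ (omegaOneCenter_ne_bot P.isPGroup' h3))
      (hps.quot _ hZp) _ (hK.map _) (h2.quot hpq hZp hC) (P.mapSurjective hπ)
    rw [Sylow.coe_mapSurjective] at a1 a2
    refine ⟨L.comap (QuotientGroup.mk' _), ?_, ?_, a3.comap hπ⟩
    · refine (comap_mono a1).trans ?_
      rw [comap_map_eq, QuotientGroup.ker_mk']
      exact sup_le le_rfl (omegaOneCenter_le _)
    · rw [← comap_normalizer_eq_of_surjective L hπ]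
      exact map_le_iff_le_comap.1 a2
  · have hKC := h1.trans hPC
    have e := map_subgroupOf_eq_of_le hKC
    obtain ⟨L, a1, a2, a3⟩ := ih _ (Core.card_lt_of_ne_top _ hC) (hps.sub _) (K.subgroupOf _)
      (isPGroup_subgroupOf hK) (aq_of (x := ⟨x, h7⟩) (le_normalizer_comap _ h4)
        (fun a => h5 (e ▸ cent_map_iff.2 a)) (k := 1)
        (cent_map_iff.1 (by rw [e, pow_one]; exact h6))) (P.subtype hPC)
    have e2 := map_subgroupOf_eq_of_le hPC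
    rw [Sylow.coe_subtype] at a1 a2
    refine ⟨L.map (Subgroup.subtype _), ?_, ?_, a3.map_subtype⟩
    · exact (map_mono a1).trans e2.le
    · exact e2.ge.trans ((map_mono a2).trans (le_normalizer_map _))

end Cfsg.Agent.Part.AutQ
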