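import Mathlib
import Cfsg.Agent.Part.Two
import Cfsg.Agent.Core.Coprime2

set_option autoImplicit false
set_option linter.unusedSectionVars false

/-! A fixed point lemma for normalisers of centralisers. -/

namespace Cfsg.Agent.Part

open Subgroup Core
open scoped Pointwise

variable {G : Type*} [Group G] [Finite G]

/-- `x` has order a power of `p`. -/
def PE (p : ℕ) (x : G) : Prop := ∃ k : ℕ, orderOf x = p ^ k

theorem PE.pg {p : ℕ} {x : G} (h : PE p x) : IsPGroup p (zpowers x) :=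
  h.elim fun _ hk => FGS.isPGroup_zpowers hk

theorem pe_of_mem {p : ℕ} [Fact p.Prime] {P : Subgroup G} (hP : IsPGroup p P) {x : G}
    (hx : x ∈ P) : PE p x := FGS.exists_orderOf_eq_of_mem hP hx

theorem PE.coprime {p q : ℕ} (hp : p.Prime) (hq : q.Prime) (h : p ≠ q) {x y : G} (hx : PE p x)
    (hy : PE q y) : (orderOf x).Coprime (orderOf y) := by
  obtain ⟨a, ha⟩ := hx
  obtain ⟨b, hb⟩ := hy
  rw [ha, hb]
  exact Nat.Coprime.pow _ _ ((Nat.coprime_primes hp hq).2 h)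

theorem PE.conj {p : ℕ} {x : G} (h : PE p x) (g : G) : PE p (g * x * g⁻¹) := by
  unfold PE; rwa [ord_conj]

theorem PE.coe {p : ℕ} {H : Subgroup G} {x : H} : PE p (x : G) ↔ PE p x := by
  unfold PE; rw [orderOf_coe]

theorem pe_of_pow {p : ℕ} (hp : p.Prime) {x : G} {k : ℕ} (h : x ^ p ^ k = 1) : PE p x :=
  ((Nat.dvd_prime_pow hp).1 (orderOf_dvd_of_pow_eq_one h)).imp fun _ h => h.2

theorem PE.pow_eq {p : ℕ} {x : G} (h : PE p x) : ∃ k, x ^ p ^ k = 1 :=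
  h.imp fun _ hk => by rw [← hk, pow_orderOf_eq_one]

theorem pCore_quot_eq_bot {E V : Subgroup G} [E.Normal] [V.Normal] {q s : ℕ} [hq : Fact q.Prime]
    [hs : Fact s.Prime] (hqs : q ≠ s) (hV : IsPGroup q V) (hab : IsMulCommutative V)
    (hE : E ≤ centralizer (V : Set G)) (h0 : ¬ V ≤ center G)
    (h1 : ∀ x, x ∉ E → PE s x → ∀ v ∈ V, x * v = v * x → v ∈ center G) {g : G} (hg : PE q g)
    (h2 : ∀ v ∈ V, g * v = v * g → v ∈ center G) : pCore s (G ⧸ E) = ⊥ := by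
  set H := (pCore s (G ⧸ E)).comap (QuotientGroup.mk' E)
  have hEH : E ≤ H := fun x hx => by
    rw [mem_comap, QuotientGroup.mk'_apply, (QuotientGroup.eq_one_iff x).2 hx]; exact one_mem _
  suffices h : H ≤ E by
    refine eq_bot_iff.2 fun x hx => ?_
    obtain ⟨x, rfl⟩ := QuotientGroup.mk_surjective x
    exact (QuotientGroup.eq_one_iff x).2 (h hx)
  obtain ⟨S, hS⟩ := exists_isSylowOf s H
  obtain ⟨n, hn⟩ := (pCore_isPGroup (G := G ⧸ E) s).exists_card_eq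
  have h3 : E ⊔ S = H := hS.sup_eq_of_relIndex_eq_pow (n := n) hEH (by
    have h4 := card_comap_mk' E (pCore s (G ⧸ E))
    have h5 := card_mul_relIndex hEH
    rw [hn] at h4
    exact Nat.eq_of_mul_eq_mul_left Nat.card_pos (h5.trans h4))
  by_contra hne
  obtain ⟨x, hx, hxE⟩ : ∃ x ∈ S, x ∉ E := SetLike.not_le_iff_exists.1 fun h => hne (h3 ▸ sup_le le_rfl h)
  have h4 : ⁅V, H⁆ ≤ ⁅V, S⁆ := by
    rw [commutator_comm V H, commutator_comm V S]
    refine commutator_le_of_mul_centralizer fun k hk => ?_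
    rw [← h3, sup_comm] at hk
    obtain ⟨a, ha, b, hb, rfl⟩ := mem_sup_of_normal_right.1 hk
    exact ⟨a, ha, b, hE hb, rfl⟩
  have h5 : ⁅V, H⁆ ≠ ⊥ := fun e => h0 fun v hv => h1 x hxE (pe_of_mem hS.isPGroup hx) v hv
    (le_centralizer_iff_commutator_eq_bot.2 e (hS.le hx) v hv).symm
  obtain ⟨u, hu, hu1, hu2⟩ := exists_mem_comm_of_normalizer (hV.to_le (commutator_le_left V H)) h5
    hg.pg le_normalizer_of_normal
  have huV := commutator_le_left V H hu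
  refine hu1 (mem_bot.1 ((centralizer_inf_commutator_eq_bot S V hab le_normalizer_of_normal
    (IsPGroup.coprime_card_of_ne s q hqs.symm _ _ hS.isPGroup hV)).le ⟨⟨huV, fun y _ => ?_⟩, h4 hu⟩))
  exact mem_center_iff.1 (h2 u huV (hu2 g (mem_zpowers g))) y

theorem false_of_inv {E V : Subgroup G} [E.Normal] [V.Normal] (hF : fittingSubgroup (G ⧸ E) = ⊥)
    (hne : E ≠ ⊤) (hV : ∀ v ∈ V, Odd (orderOf v)) (hab : IsMulCommutative V)
    (hE : E ≤ centralizer (V : Set G)) (h0 : ¬ V ≤ center G)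
    (h1 : ∀ x, x ∉ E → PE 2 x → ∀ v ∈ V, x * v = v * x → v ∈ center G) : False := by
  have : Fact (Nat.Prime 2) := ⟨Nat.prime_two⟩
  have : Nontrivial (G ⧸ E) := QuotientGroup.nontrivial_iff.2 hne
  have key : ∀ t : G, (t : G ⧸ E) ≠ 1 → (t : G ⧸ E) * t = 1 → ∀ v ∈ V,
      t * v * t⁻¹ * v ∈ center G := fun t t1 t2 v hv => by
    obtain ⟨a, -, ha, hp⟩ := FGS.exists_pElement_lift (QuotientGroup.mk' E) (p := 2) (k := 1) t
      (by rw [pow_one]; exact two_of_sq t1 t2)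
    have ha' : (a : G ⧸ E) = t := ha
    have e1 : t * v * t⁻¹ = a * v * a⁻¹ := by
      have := hE (QuotientGroup.eq.1 ha') v hv
      calc t * v * t⁻¹ = a * (a⁻¹ * t * v) * t⁻¹ := by group
        _ = a * v * a⁻¹ := by rw [← this]; group
    have e2 : v * (a * a) = a * a * v :=
      hE ((QuotientGroup.eq_one_iff _).1 (by rw [QuotientGroup.mk_mul, ha', t2])) v hv
    have hv' : a * v * a⁻¹ ∈ V := Normal.conj_mem inferInstance v hv a
    rw [e1]
    refine h1 a (fun h => t1 (ha' ▸ (QuotientGroup.eq_one_iff a).2 h)) hp _ (mul_mem hv' hv) ?_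
    calc a * (a * v * a⁻¹ * v) = a * a * v * (a * a)⁻¹ * (a * v * a⁻¹) * a := by group
      _ = a * v * a⁻¹ * v * a := by
        rw [← e2, mul_inv_cancel_right, comm_of_isMulCommutative hab hv hv']
  obtain ⟨x, y, hx, hy, hxy, hx2, hy2, hc⟩ := twoRank hF
  obtain ⟨x, rfl⟩ := QuotientGroup.mk_surjective x
  obtain ⟨y, rfl⟩ := QuotientGroup.mk_surjective y
  refine h0 fun v hv => ?_
  have e1 := key x hx hx2 _ (Normal.conj_mem inferInstance v hv y)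
  have e2 := key y hy hy2 v hv
  have e3 := key (x * y) (fun e => hxy (by
      rw [QuotientGroup.mk_mul] at e
      rw [mul_eq_one_iff_eq_inv.1 e, ← mul_eq_one_iff_eq_inv.1 hy2]))
    (by rw [QuotientGroup.mk_mul, mul_assoc, ← mul_assoc (y : G ⧸ E), ← hc, mul_assoc, hy2, mul_one, hx2])
    v hv
  have e4 : v * v ∈ center G := by
    have := mul_mem (mul_mem (inv_mem e1) e3) e2
    have e5 := mem_center_iff.1 e2 ((y * v * y⁻¹)⁻¹ * v)
    rw [show (x * (y * v * y⁻¹) * x⁻¹ * (y * v * y⁻¹))⁻¹ * (x * y * v * (x * y)⁻¹ * v) =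
      (y * v * y⁻¹)⁻¹ * v by group, e5, mul_assoc, ← mul_assoc v,
      comm_of_isMulCommutative hab hv (inv_mem (Normal.conj_mem inferInstance v hv y))] at this
    simpa [mul_assoc] using this
  exact GW.mem_of_sq_mem (hV v hv) e4

theorem wx0 {E Q R : Subgroup G} [E.Normal] [Q.Normal] [R.Normal] {q r : ℕ} [hq : Fact q.Prime]
    [hr : Fact r.Prime] (hqr : q ≠ r) (hQ : IsPGroup q Q) (hR : IsPGroup r R)
    (hQa : IsMulCommutative Q) (hRa : IsMulCommutative R) (hEQ : E ≤ centralizer (Q : Set G))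
    (hER : E ≤ centralizer (R : Set G)) (hQ0 : ¬ Q ≤ center G) (hR0 : ¬ R ≤ center G)
    (h1 : ∀ x, x ∉ E → ∀ v ∈ R, x * v = v * x → v ∈ center G) {ρ : G} (hρ : PE r ρ) (hρE : ρ ∉ E)
    (h2 : ∀ x, x ∉ E → PE r x → ∀ v ∈ Q, x * v = v * x → v ∈ center G) {g : G} (hg : PE q g)
    (h3 : ∀ v ∈ Q, g * v = v * g → v ∈ center G) : False := by
  have hF : fittingSubgroup (G ⧸ E) = ⊥ := by
    rw [fitting_eq_iSup_pCore, iSup_eq_bot]
    intro ⟨s, hs⟩
    have := Fact.mk hs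
    by_cases e : r = s
    · subst e
      exact pCore_quot_eq_bot hqr hQ hQa hEQ hQ0 h2 hg h3
    · exact pCore_quot_eq_bot e hR hRa hER hR0 (fun x hx _ => h1 x hx) hρ (h1 ρ hρE)
  have k : ∀ (s : ℕ) [Fact s.Prime] (V : Subgroup G), s ≠ 2 → IsPGroup s V → ∀ v ∈ V,
      Odd (orderOf v) := fun s hs V h2 hV v hv => by
    obtain ⟨k, hk⟩ := pe_of_mem hV hv
    exact hk ▸ (hs.out.odd_of_ne_two h2).pow
  have hne : E ≠ ⊤ := fun e => hρE (e ▸ mem_top ρ)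
  by_cases e : r = 2
  · subst e
    exact false_of_inv hF hne (k q Q hqr hQ) hQa hEQ hQ0 h2
  · exact false_of_inv hF hne (k r R e hR) hRa hER hR0 fun x hx _ => h1 x hx

/-- The `s`-elements of the centre of `E`. -/
def zp (s : ℕ) (E : Subgroup G) : Subgroup G where
  carrier := {v | v ∈ E ∧ v ∈ centralizer (E : Set G) ∧ ∃ k, v ^ s ^ k = 1}
  one_mem' := ⟨one_mem _, one_mem _, 0, one_pow _⟩
  inv_mem' := fun ⟨h1, h2, k, h3⟩ => ⟨inv_mem h1, inv_mem h2, k, by rw [inv_pow, h3, inv_one]⟩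
  mul_mem' := fun {a b} ⟨h1, h2, k, h3⟩ ⟨h4, h5, j, h6⟩ => ⟨mul_mem h1 h4, mul_mem h2 h5, k + j, by
    rw [Commute.mul_pow (h5 a h1), pow_add, pow_mul, h3, one_pow, one_mul, mul_comm, pow_mul, h6,
      one_pow]⟩

theorem mem_zp {s : ℕ} (hs : s.Prime) {E : Subgroup G} {v : G} :
    v ∈ zp s E ↔ v ∈ E ∧ v ∈ centralizer (E : Set G) ∧ PE s v :=
  and_congr_right fun _ => and_congr_right fun _ => ⟨fun ⟨_, h⟩ => pe_of_pow hs h, PE.pow_eq⟩

theorem zp_pg (s : ℕ) (E : Subgroup G) : IsPGroup s (zp s E) :=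
  fun ⟨_, _, _, k, h⟩ => ⟨k, Subtype.ext h⟩

theorem zp_comm (s : ℕ) (E : Subgroup G) : IsMulCommutative (zp s E) :=
  isMulCommutative_of_forall fun _ hx _ hy => hy.2.1 _ hx.1

theorem norm_zp (s : ℕ) (E : Subgroup G) : normalizer (E : Set G) ≤ normalizer (zp s E : Set G) :=
  fun g hg => mem_normalizer_fintype fun v ⟨h1, h2, k, h3⟩ => ⟨(mem_normalizer_iff.1 hg v).1 h1,
    fun y hy => by
      have := h2 _ ((mem_normalizer_iff''.1 hg y).1 hy)
      calc y * (g * v * g⁻¹) = g * (g⁻¹ * y * g * v) * g⁻¹ := by group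
        _ = g * v * g⁻¹ * y := by rw [this]; group, k, by rw [conj_pow, h3]; group⟩

theorem wx {M E : Subgroup G} (hEM : E ≤ M) {q r : ℕ} (hq : q.Prime) (hr : r.Prime) (hqr : q ≠ r)
    {a b : G} (ha : a ∈ zp q E) (ha' : a ∉ center G) (hb : b ∈ zp r E) (hb' : b ∉ center G)
    (h1 : ∀ v ∈ zp r E, v ∉ center G → ∀ x ∈ M, x * v = v * x → x ∈ E)
    {ρ : G} (hρ : PE r ρ) (hρN : ρ ∈ M ⊓ normalizer (E : Set G)) (hρE : ρ ∉ E)
    (h2 : ∀ v ∈ zp q E, v ∉ center G → ∀ x ∈ M ⊓ normalizer (E : Set G), PE r x →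
      x * v = v * x → x ∈ E)
    {g : G} (hg : PE q g) (hgN : g ∈ normalizer (E : Set G)) (hgM : g ∈ M)
    (h3 : ∀ v ∈ zp q E, g * v = v * g → v ∈ center G) : False := by
  have := Fact.mk hq
  have := Fact.mk hr
  set N := M ⊓ normalizer (E : Set G)
  have hn : ∀ K : Subgroup G, normalizer (E : Set G) ≤ normalizer (K : Set G) →
      (K.subgroupOf N).Normal := fun K h =>
    ⟨fun x hx g => (mem_normalizer_iff.1 (h g.2.2) x).1 hx⟩
  have := hn E le_rfl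
  have := hn _ (norm_zp q E)
  have := hn _ (norm_zp r E)
  have hc : ∀ v : N, (v : G) ∈ center G → v ∈ center N := fun v hv =>
    mem_center_iff.2 fun y => Subtype.ext (mem_center_iff.1 hv y)
  have hz : ∀ s, ∀ v ∈ zp s E, v ∈ N := fun s v hv => ⟨hEM hv.1, le_normalizer hv.1⟩
  refine wx0 (E := E.subgroupOf N) (Q := (zp q E).subgroupOf N) (R := (zp r E).subgroupOf N) hqr
    ((zp_pg q E).comap_subtype) ((zp_pg r E).comap_subtype)
    (isMulCommutative_of_forall fun x hx y hy => Subtype.ext (hy.2.1 _ hx.1))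
    (isMulCommutative_of_forall fun x hx y hy => Subtype.ext (hy.2.1 _ hx.1))
    (fun x hx y hy => Subtype.ext (hy.2.1 _ hx).symm) (fun x hx y hy => Subtype.ext (hy.2.1 _ hx).symm)
    (fun h => hρE (h2 a ha ha' ρ hρN hρ (congrArg Subtype.val
      (mem_center_iff.1 (h (x := ⟨a, hz q a ha⟩) ha) ⟨ρ, hρN⟩))))
    (fun h => hρE (h1 b hb hb' ρ hρN.1 (congrArg Subtype.val
      (mem_center_iff.1 (h (x := ⟨b, hz r b hb⟩) hb) ⟨ρ, hρN⟩))))
    (fun x hx v hv e => hc v ?_) (ρ := ⟨ρ, hρN⟩) (PE.coe.1 hρ) hρE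
    (fun x hx hp v hv e => hc v ?_) (g := ⟨g, hgM, hgN⟩) (PE.coe.1 hg)
    fun v hv e => hc v (h3 v hv (congrArg Subtype.val e))
  · by_contra h
    exact hx (h1 v hv h x x.2.1 (congrArg Subtype.val e))
  · by_contra h
    exact hx (h2 v hv h x x.2 (PE.coe.2 hp) (congrArg Subtype.val e))

theorem exists_norm {M E : Subgroup G} (hEM : E ≤ M) {r : ℕ} (hr : r.Prime)
    (hc : ∀ x ∈ E, PE r x → x ∈ centralizer (E : Set G)) {b : G} (hb : b ∈ zp r E)
    (hb' : b ∉ center G) (h1 : ∀ v ∈ zp r E, v ∉ center G → ∀ x ∈ M, x * v = v * x → x ∈ E)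
    (hd : r ∣ E.relIndex M) : ∃ ρ, PE r ρ ∧ ρ ∈ M ⊓ normalizer (E : Set G) ∧ ρ ∉ E := by
  have := Fact.mk hr
  have hle : zp r E ≤ E := fun v hv => hv.1
  obtain ⟨R, hR, hle'⟩ := exists_isSylowOf_ge (zp_pg r E) (hle.trans hEM)
  have hlt : zp r E < R := lt_of_le_of_ne hle' fun e => hR.not_dvd
    (hd.trans (relIndex_dvd_of_le_left M (e ▸ hle)))
  obtain ⟨ρ, ⟨h2, h3⟩, h4⟩ := SetLike.exists_of_lt
    (lt_inf_normalizer_of_nilpotent hR.isPGroup.isNilpotent hlt)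
  have hp := pe_of_mem hR.isPGroup h2
  have k : ∀ g ∈ M, g ∈ normalizer (zp r E : Set G) → ∀ x ∈ E, g * x * g⁻¹ ∈ E :=
    fun g hg hn x hx => by
      have h5 := (mem_normalizer_iff''.1 hn b).1 hb
      refine h1 b hb hb' _ (mul_mem (mul_mem hg (hEM hx)) (inv_mem hg)) ?_
      have := h5.2.1 x hx
      calc g * x * g⁻¹ * b = g * (x * (g⁻¹ * b * g)) * g⁻¹ := by group
        _ = b * (g * x * g⁻¹) := by rw [this]; group
  refine ⟨ρ, hp, ⟨hR.le h2, mem_normalizer_fintype (k ρ (hR.le h2) h3)⟩, fun e => h4 ?_⟩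
  exact (mem_zp hr).2 ⟨e, hc ρ e hp, hp⟩

/-- Two primes cannot both divide the index. -/
theorem wx2 {M E : Subgroup G} (hEM : E ≤ M) {q r : ℕ} (hq : q.Prime) (hr : r.Prime) (hqr : q ≠ r)
    {a b : G} (ha : a ∈ E) (ha' : a ∉ center G) (ha2 : PE q a) (hb : b ∈ E) (hb' : b ∉ center G)
    (hb2 : PE r b) (hc : ∀ x ∈ E, PE q x ∨ PE r x → x ∈ centralizer (E : Set G))
    (h1 : ∀ v ∈ E, v ∉ center G → PE q v ∨ PE r v → ∀ x ∈ M, x * v = v * x → x ∈ E)
    (hqd : q ∣ E.relIndex M) (hrd : r ∣ E.relIndex M) : False := by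
  have ha3 := (mem_zp hq).2 ⟨ha, hc a ha (Or.inl ha2), ha2⟩
  have hb3 := (mem_zp hr).2 ⟨hb, hc b hb (Or.inr hb2), hb2⟩
  have k1 : ∀ v ∈ zp q E, v ∉ center G → ∀ x ∈ M, x * v = v * x → x ∈ E := fun v hv hv' =>
    h1 v hv.1 hv' (Or.inl ((mem_zp hq).1 hv).2.2)
  have k2 : ∀ v ∈ zp r E, v ∉ center G → ∀ x ∈ M, x * v = v * x → x ∈ E := fun v hv hv' =>
    h1 v hv.1 hv' (Or.inr ((mem_zp hr).1 hv).2.2)
  obtain ⟨g, h2, h3, h4⟩ := exists_norm hEM hq (fun x hx h => hc x hx (Or.inl h)) ha3 ha' k1 hqd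
  obtain ⟨ρ, h5, h6, h7⟩ := exists_norm hEM hr (fun x hx h => hc x hx (Or.inr h)) hb3 hb' k2 hrd
  refine wx hEM hq hr hqr ha3 ha' hb3 hb' k2 h5 h6 h7 (fun v hv hv' x hx _ => k1 v hv hv' x hx.1)
    h2 h3.2 h3.1 fun v hv e => ?_
  by_contra h
  exact h4 (k1 v hv h g h3.1 e)

end Cfsg.Agent.Part
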