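import Mathlib
import Cfsg.Agent.Part.WX
import Cfsg.Agent.Part.Solv
import Cfsg.Agent.S4249
import Cfsg.Agent.S0042
import Cfsg.Agent.FGS.Kazarin
import Cfsg.Agent.FGS.Ito
import Cfsg.Agent.H2.FrobComplement
import Cfsg.Agent.H2.FrobQuot

set_option autoImplicit false
set_option linter.unusedSectionVars false

/-! Centralisers of elements; groups in which centralisers of non-central elements are pairwise
incomparable. -/

namespace Cfsg.Agent.Part

open Subgroup Core GW
open scoped Pointwise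

variable {G : Type*} [Group G] [Finite G]

theorem exists_pe {x : G} {K : Subgroup G} (h : x ∉ K) :
    ∃ s : ℕ, s.Prime ∧ ∃ a ∈ zpowers x, PE s a ∧ a ∉ K := by
  by_contra hc
  push Not at hc
  exact h (FGS.mem_of_forall_pPart K fun r j hr a ha ho => hc r hr a ha ⟨j, ho⟩)

theorem cz_ne_top {x : G} : cz x ≠ ⊤ ↔ x ∉ center G := FGS.mem_center_iff_centralizer_eq_top.not.symm

theorem nc_of_le {x y : G} (h : cz x ≤ cz y) (hy : y ∉ center G) : x ∉ center G :=
  cz_ne_top.1 fun e => cz_ne_top.2 hy (eq_top_iff.2 (e ▸ h))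

theorem center_le_cz (x : G) : center G ≤ cz x := center_le_centralizer _

theorem cz_mul {a b : G} (h : b ∈ cz a) (hc : (orderOf a).Coprime (orderOf b)) :
    cz (a * b) = cz a ⊓ cz b := FGS.centralizer_mul_of_coprime (Commute.symm (mem_cz.1 h)) hc

theorem cz_le_zp {a x : G} (h : a ∈ zpowers x) : cz x ≤ cz a := FGS.centralizer_le_of_mem_zpowers h

theorem cz_symm {a b : G} (h : a ∈ cz b) : b ∈ cz a := mem_cz.2 (mem_cz.1 h).symm

theorem dvd_relIndex_iff {K H : Subgroup G} [K.Normal] (hKH : K ≤ H) {r : ℕ} (hr : r.Prime) :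
    r ∣ K.relIndex H ↔ ∃ v ∈ H, PE r v ∧ v ∉ K := by
  have := Fact.mk hr
  have e : K.relIndex H = Nat.card (H.map (QuotientGroup.mk' K)) := by
    rw [← relIndex_ker, QuotientGroup.ker_mk']
  rw [e]
  constructor
  · intro h
    obtain ⟨_, ⟨x, hx, rfl⟩, ho⟩ := FGS.exists_prime_orderOf_mem hr h
    obtain ⟨a, ha, e1, hp⟩ := FGS.exists_pElement_lift (QuotientGroup.mk' K) (p := r) (k := 1) x
      (by rw [pow_one, ho])
    refine ⟨a, Subgroup.zpowers_le.2 hx ha, hp, fun h1 => FGS.ne_one_of_orderOf_prime hr ho ?_⟩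
    rw [← e1]; exact (QuotientGroup.eq_one_iff a).2 h1
  · rintro ⟨v, hv, ⟨k, hk⟩, hv'⟩
    obtain ⟨j, -, hj⟩ := (Nat.dvd_prime_pow hr).1 (hk ▸ orderOf_map_dvd (QuotientGroup.mk' K) v)
    have h1 : j ≠ 0 := by
      rintro rfl
      exact hv' ((QuotientGroup.eq_one_iff v).1 (orderOf_eq_one_iff.1 hj))
    exact (dvd_pow_self r h1).trans (hj ▸ orderOf_dvd_natCard _ (mem_map_of_mem _ hv))

/-- Some element of `r`-power order is not central. -/
def NC (G : Type*) [Group G] (r : ℕ) : Prop := ∃ v : G, PE r v ∧ v ∉ center G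

theorem solv_of_quot [h : Group.IsSolvable (G ⧸ center G)] : Group.IsSolvable G :=
  haveI : Group.IsSolvable (center G) := solvable_of_isMulCommutative
  solvable_of_ker_le_range (center G).subtype (QuotientGroup.mk' (center G)) (by simp)

theorem exists_third (hs : ¬ Group.IsSolvable G) {p q : ℕ} (hp : p.Prime) (hq : q.Prime) :
    ∃ r : ℕ, r.Prime ∧ r ≠ p ∧ r ≠ q ∧ NC G r := by
  by_contra hc
  push Not at hc
  have : Group.IsSolvable (G ⧸ center G) := Char.burnside_of_primes hp hq fun r hr hd => by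
    by_contra h
    push Not at h
    obtain ⟨v, -, h1⟩ := (dvd_relIndex_iff (le_top (a := center G)) hr).1 (by rwa [relIndex_top_right])
    exact hc r hr h.1 h.2 ⟨v, h1⟩
  exact hs solv_of_quot

theorem NC.dvd {r : ℕ} (hr : r.Prime) (h : NC G r) : ∃ x : G, r ∣ (cz x).index := by
  have := Fact.mk hr
  by_contra hc
  push Not at hc
  obtain ⟨v, ⟨k, hk⟩, hv⟩ := h
  obtain ⟨P, hP⟩ := FGS.exists_sylow_mem hk
  exact hv (FGS.sylow_le_center hc P hP)

theorem nc_of_dvd {r : ℕ} (hr : r.Prime) {H : Subgroup G} (hH : center G ≤ H) (h : r ∣ H.index) :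
    NC G r := by
  obtain ⟨v, -, h1⟩ := (dvd_relIndex_iff (le_top (a := center G)) hr).1
    (by rw [relIndex_top_right]; exact h.trans (index_dvd_of_le hH))
  exact ⟨v, h1⟩

theorem zi_eq {x y : G} (h : (cz x).index = (cz y).index) :
    (center G).relIndex (cz x) = (center G).relIndex (cz y) := by
  have h1 := relIndex_mul_index (center_le_cz x)
  rw [← relIndex_mul_index (center_le_cz y), h] at h1
  exact Nat.eq_of_mul_eq_mul_right (Nat.pos_of_ne_zero index_ne_zero_of_finite) h1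

theorem mem_of_pe {D B : Subgroup G} {r : ℕ} (hr : r.Prime) (hDB : D ≤ B) (h : ¬ r ∣ D.relIndex B)
    {x : G} (hx : x ∈ B) (hn : x ∈ normalizer (D : Set G)) (hp : PE r x) : x ∈ D := by
  by_contra e
  set N := B ⊓ normalizer (D : Set G)
  have hDN : D ≤ N := le_inf hDB le_normalizer
  have : (D.subgroupOf N).Normal := ⟨fun y hy g => (mem_normalizer_iff.1 g.2.2 y).1 hy⟩
  have h1 := (dvd_relIndex_iff (le_top (a := D.subgroupOf N)) hr).2 ⟨⟨x, hx, hn⟩, trivial, PE.coe.1 hp, e⟩
  rw [relIndex_top_right] at h1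
  exact h (h1.trans (Dvd.intro _ (relIndex_mul_relIndex D N B hDN inf_le_left)))

theorem comm_of_pe {D : Subgroup G}
    (h : ∀ s : ℕ, s.Prime → ∀ x ∈ D, PE s x → x ∈ centralizer (D : Set G)) : IsMulCommutative D :=
  isMulCommutative_of_forall fun x hx y hy => by
    by_contra e
    obtain ⟨s, hs, a, ha, hp, ha'⟩ := exists_pe (x := y) (K := centralizer (D : Set G))
      fun h => e (h x hx)
    exact ha' (h s hs a (Subgroup.zpowers_le.2 hy ha) hp)

theorem solv_of_hughes {p : ℕ} (hp : p.Prime) (h : closure {g : G | g ^ p ≠ 1} ≠ ⊤) :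
    Group.IsSolvable G := by
  have := Fact.mk hp
  by_cases hG : IsPGroup p G
  · exact solvable_of_isPGroup hG
  obtain ⟨h1, h2⟩ := S4249.result p hp hG h
  set H := closure {g : G | g ^ p ≠ 1}
  have : H.Normal := ⟨fun x hx g => (closure_le (H.comap (MulAut.conj g).toMonoidHom)).2
    (fun y hy => subset_closure (by simpa [conj_pow] using hy)) hx⟩
  have : IsCyclic (G ⧸ H) := isCyclic_of_prime_card h2
  have : Group.IsSolvable (G ⧸ H) := solvable_of_isMulCommutative
  exact solvable_of_ker_le_range H.subtype (QuotientGroup.mk' H) (by simp)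

theorem solv_of_frob {H : Subgroup G} (hH : IsFrobeniusComplement H) (hs : Group.IsSolvable H) :
    Group.IsSolvable G := by
  obtain ⟨K, hK, hn, h1⟩ := S0042.result H hH
  have h2 := FGS.solvable_sup_of_normal (K := K) inferInstance hs
  rw [(H2.Frob.isComplement'_of_coe_eq hH hK).sup_eq_top] at h2
  exact solvable_of_mulEquiv topEquiv h2

theorem fitting_ne_bot_of_frob {H : Subgroup G} (hH : IsFrobeniusComplement H) :
    fittingSubgroup G ≠ ⊥ := fun e => by
  obtain ⟨K, hK, hn, h1⟩ := S0042.result H hH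
  exact H2.Frob.ne_bot_of_coe_eq hH hK (eq_bot_iff.2 (e ▸ le_fitting hn h1))

theorem Prt.solv_or (P : Prt G)
    (hab : ∀ g, g ≠ 1 → ∀ x ∈ P.c g, ∀ y ∈ P.c g, x * y = y * x) :
    Group.IsSolvable G ∨ fittingSubgroup G = ⊥ := by
  have : Fact (Nat.Prime 2) := ⟨Nat.prime_two⟩
  by_cases hH : ∃ p : ℕ, p.Prime ∧ closure {g : G | g ^ p ≠ 1} ≠ ⊤
  · obtain ⟨p, hp, h⟩ := hH
    exact Or.inl (solv_of_hughes hp h)
  push Not at hH
  by_cases hF : ∃ H : Subgroup G, IsFrobeniusComplement H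
  · obtain ⟨H, hH⟩ := hF
    refine Or.inl (solv_of_frob hH ?_)
    rcases Nat.even_or_odd (Nat.card H) with h | h
    · obtain ⟨K, hK, hn, -⟩ := S0042.result H hH
      obtain ⟨t, ht, ho⟩ := FGS.exists_prime_orderOf_mem Nat.prime_two h.two_dvd
      have k : ∀ s ∈ H, orderOf s = 2 → s = t := fun s hs ho' =>
        H2.involution_unique_of_semiregular le_normalizer_of_normal
          (H2.Frob.semiregular_of_coe_eq hH hK) (H2.Frob.ne_bot_of_coe_eq hH hK) ht hs ho ho'
      have t1 := (Ben.sq_of_two ho).1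
      have hle : H ≤ P.c t := fun x hx => by
        by_contra e
        have h1 := k _ (mul_mem (mul_mem hx ht) (inv_mem hx)) ((ord_conj x t).trans ho)
        have h2 := P.order_eq t1 (Commute.symm (mul_inv_eq_iff_eq_mul.1 h1)) e
        exact e (k x hx (h2.trans ho) ▸ P.mem t)
      have := isMulCommutative_of_forall fun x hx y hy => hab t t1 x (hle hx) y (hle hy)
      exact solvable_of_isMulCommutative
    · exact solv_of_odd h
  refine or_iff_not_imp_right.2 fun h0 => ?_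
  obtain ⟨e⟩ := P.caseA (fun g hg => P.nilpotent_of_nf hF hg) hH hF h0
  refine Char.burnside_of_dvd (a := 3) (b := 1) Nat.prime_two Nat.prime_three ?_
  rw [Nat.card_congr e.toEquiv, Nat.card_perm, Nat.card_eq_fintype_card, Fintype.card_fin]
  decide

/-- Centralisers of non-central elements are pairwise incomparable. -/
def FG (G : Type*) [Group G] : Prop := ∀ x y : G, y ∉ center G → cz x ≤ cz y → cz x = cz y

theorem cz_eq_of_mk {x y : G} (h : (x : G ⧸ center G) = y) : cz x = cz y := by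
  have h1 := QuotientGroup.eq.1 h
  ext g
  have h2 := mem_center_iff.1 h1 g
  rw [mem_cz, mem_cz]
  constructor <;> intro e
  · calc g * y = g * x * (x⁻¹ * y) := by group
      _ = x * (g * (x⁻¹ * y)) := by rw [e]; group
      _ = y * g := by rw [h2]; group
  · calc g * x = g * y * (x⁻¹ * y)⁻¹ := by group
      _ = y * (g * (x⁻¹ * y)⁻¹) := by rw [e]; group
      _ = x * g := by rw [mem_center_iff.1 (inv_mem h1) g]; group

theorem FG.exists_prt (hF : FG G) : ∃ P : Prt (G ⧸ center G),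
    ∀ x y : G, (y : G ⧸ center G) ∈ P.c x ↔ cz x ≤ cz y := by
  let c : G ⧸ center G → Subgroup (G ⧸ center G) := fun g =>
    (centralizer (cz g.out : Set G)).map (QuotientGroup.mk' _)
  have hc : ∀ x y : G, (y : G ⧸ center G) ∈ c x ↔ cz x ≤ cz y := fun x y => by
    simp only [c, cz_eq_of_mk (QuotientGroup.out_eq' (x : G ⧸ center G))]
    constructor
    · rintro ⟨z, hz, e⟩
      rw [← cz_eq_of_mk e]
      exact fun a ha => mem_cz.2 (hz a ha)
    · exact fun h => ⟨y, fun a ha => mem_cz.1 (h ha), rfl⟩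
  have h1 : ∀ x : G, (x : G ⧸ center G) ≠ 1 ↔ x ∉ center G := fun x => (QuotientGroup.eq_one_iff x).not
  refine ⟨⟨c, fun g => ?_, fun {g h} hg hh e => ?_, fun {g} hg e => ?_, fun x {g h} hg e => ?_⟩, hc⟩
  · obtain ⟨g, rfl⟩ := QuotientGroup.mk_surjective g
    exact (hc g g).2 le_rfl
  · obtain ⟨g, rfl⟩ := QuotientGroup.mk_surjective g
    obtain ⟨h, rfl⟩ := QuotientGroup.mk_surjective h
    ext k
    obtain ⟨k, rfl⟩ := QuotientGroup.mk_surjective k
    rw [hc, hc, hF g h ((h1 h).1 hh) ((hc g h).1 e)]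
  · obtain ⟨g, rfl⟩ := QuotientGroup.mk_surjective g
    exact (h1 g).1 hg (mem_center_iff.2 fun k =>
      (mem_cz.1 ((hc g k).1 (e ▸ mem_top _) (self_mem_cz g))).symm)
  · obtain ⟨g, rfl⟩ := QuotientGroup.mk_surjective g
    obtain ⟨h, rfl⟩ := QuotientGroup.mk_surjective h
    obtain ⟨x, rfl⟩ := QuotientGroup.mk_surjective x
    refine (hc (x * g * x⁻¹) (x * h * x⁻¹)).2 ?_
    unfold cz
    rw [FGS.centralizer_conj, FGS.centralizer_conj]
    exact pointwise_smul_le_pointwise_smul_iff.2 ((hc g h).1 e)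

theorem FG.solv_or (hF : FG G) : Group.IsSolvable G ∨ fittingSubgroup (G ⧸ center G) = ⊥ := by
  obtain ⟨P, hP⟩ := hF.exists_prt
  refine (P.solv_or fun g _ x hx y hy => ?_).imp_left fun h => solv_of_quot (h := h)
  obtain ⟨g, rfl⟩ := QuotientGroup.mk_surjective g
  obtain ⟨x, rfl⟩ := QuotientGroup.mk_surjective x
  obtain ⟨y, rfl⟩ := QuotientGroup.mk_surjective y
  have := mem_cz.1 ((hP g y).1 hy (cz_symm ((hP g x).1 hx (self_mem_cz g))))
  rw [← QuotientGroup.mk_mul, this, QuotientGroup.mk_mul]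

/-- A centraliser whose order involves two non-central primes is abelian. -/
theorem FG.comm (hF : FG G) {x : G} (hx : x ∉ center G) {p q : ℕ} (hp : p.Prime) (hq : q.Prime)
    (hpq : p ≠ q) (h1 : p ∣ (center G).relIndex (cz x)) (h2 : q ∣ (center G).relIndex (cz x)) :
    IsMulCommutative (cz x) := by
  obtain ⟨s, hs, u, hu, hu1, hu2⟩ := exists_pe hx
  rw [hF x u hu2 (cz_le_zp hu)] at h1 h2 ⊢
  have k : ∀ (s : ℕ) (u : G), s.Prime → PE s u → u ∉ center G → ∀ (t : ℕ), t.Prime → t ≠ s →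
      ∀ w ∈ cz u, PE t w → cz u ≤ cz w := fun s u hs hu1 hu2 t ht hts w hw hw1 => by
    have e := cz_mul hw (hu1.coprime hs ht hts.symm hw1)
    rw [← hF (u * w) u hu2 (e ▸ inf_le_left), e]
    exact inf_le_right
  obtain ⟨t, ht, hts, h3⟩ : ∃ t : ℕ, t.Prime ∧ t ≠ s ∧ t ∣ (center G).relIndex (cz u) := by
    by_cases e : p = s
    · exact ⟨q, hq, fun e' => hpq (e.trans e'.symm), h2⟩
    · exact ⟨p, hp, e, h1⟩
  obtain ⟨w, hw, hw1, hw2⟩ := (dvd_relIndex_iff (center_le_cz u) ht).1 h3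
  have e := hF u w hw2 (k s u hs hu1 hu2 t ht hts w hw hw1)
  refine comm_of_pe fun r hr a ha ha1 b hb => mem_cz.1 ?_
  by_cases e' : r = s
  · exact k t w ht hw1 hw2 r hr (e' ▸ hts.symm) a (e ▸ ha) ha1 (e ▸ hb)
  · exact k s u hs hu1 hu2 r hr e' a ha ha1 hb

theorem FG.not_two (hF : FG G) {x : G} (hab : IsMulCommutative (cz x)) {p q : ℕ} (hp : p.Prime)
    (hq : q.Prime) (hpq : p ≠ q) (h1 : p ∣ (center G).relIndex (cz x))
    (h2 : q ∣ (center G).relIndex (cz x)) (h3 : p ∣ (cz x).index) (h4 : q ∣ (cz x).index) : False := by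
  obtain ⟨a, ha, ha1, ha2⟩ := (dvd_relIndex_iff (center_le_cz x) hp).1 h1
  obtain ⟨b, hb, hb1, hb2⟩ := (dvd_relIndex_iff (center_le_cz x) hq).1 h2
  refine wx2 le_top hp hq hpq ha ha2 ha1 hb hb2 hb1
    (fun y hy _ z hz => comm_of_isMulCommutative hab hz hy) (fun v hv hv' _ y _ e => ?_)
    (by rwa [relIndex_top_right]) (by rwa [relIndex_top_right])
  rw [hF x v hv' (FGS.le_centralizer_of_comm hab hv)]
  exact mem_cz.2 e

theorem eq_one_of_index (hF : fittingSubgroup G = ⊥) {p k : ℕ} (hp : p.Prime) {x : G}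
    (h : (cz x).index = p ^ k) : x = 1 := by
  by_contra e
  have := FGS.solvableRadical_normal (G := G)
  have h1 := fitting_ne_bot_of_solvable_normal (solvableRadical G) FGS.solvableRadical_solvable
    fun h1 => e (mem_bot.1 (h1 ▸ FGS.kazarin hp G x k h))
  rw [hF, bot_inf_eq] at h1
  exact h1 rfl

end Cfsg.Agent.Part
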