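import Mathlib
import Cfsg.Agent.Part.Cls
import Cfsg.Agent.Char.IndTI
import Cfsg.Agent.Char.Central
import Cfsg.Agent.Char.Virtual

set_option autoImplicit false
set_option linter.unusedSectionVars false

/-! A factorisation `G = C(y) C` with `C` the centraliser of each of its non-identity elements:
`y` commutes with all of its conjugates or with none. -/

namespace Cfsg.Agent.Part

open Subgroup Core GW Char Char.Ind Char.IndTI
open scoped Pointwise ComplexConjugate

/-- `C` is the centraliser of each of its non-identity elements. -/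
def CC {G : Type*} [Group G] (C : Subgroup G) : Prop := ∀ h ∈ C, h ≠ 1 → cz h = C

variable {G : Type*} [Group G] {C : Subgroup G}

theorem CC.comm (hC : CC C) {a b : G} (ha : a ∈ C) (hb : b ∈ C) : a * b = b * a := by
  by_cases h : b = 1
  · rw [h, mul_one, one_mul]
  · exact mem_cz.1 ((hC b hb h).ge ha)

theorem CC.isComm (hC : CC C) : IsMulCommutative C :=
  FGS.isMulCommutative_iff_forall.2 fun _ ha _ hb => hC.comm ha hb

theorem CC.ti (hC : CC C) {h g : G} (hh : h ∈ C) (h1 : h ≠ 1) (h2 : g * h * g⁻¹ ∈ C) :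
    g ∈ normalizer (C : Set G) := by
  have e := hC _ h2 (by simpa using h1)
  rw [cz, FGS.centralizer_conj, ← cz, hC h hh h1] at e
  exact conj_smul_eq_iff_mem_normalizer.1 e

theorem CC.conj (hC : CC C) (g : G) : CC (MulAut.conj g • C) := fun h hh h1 => by
  have := hC _ (FGS.mem_conj_iff.1 hh) fun e => h1 (by
    have := congrArg (fun z => g * z * g⁻¹) e
    simpa [mul_assoc] using this)
  rw [← this, cz, cz, ← FGS.centralizer_conj]
  congr 2
  group

variable [Fintype G] [Fintype C]

theorem CC.norm_two (hC : CC C) {l m : C →* ℂˣ} (hl : l ≠ 1) (hm : m ≠ 1) {χ : G → ℂ}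
    (hχ : IsClassFunction G χ)
    (hne : classInner (fun h : C => χ h) (fun h => l h) ≠
      classInner (fun h : C => χ h) (fun h => m h)) :
    classInner (indFun C ((fun h => (l h : ℂ)) - fun h => (m h : ℂ)))
      (indFun C ((fun h => (l h : ℂ)) - fun h => (m h : ℂ))) = 2 := by
  classical
  set θ : C → ℂ := (fun h => (l h : ℂ)) - fun h => (m h : ℂ) with hθ
  have hc := card_ne_zero' C
  have key : ∀ x : G, ∑ h : C, θ h * conj (extendByZero C θ (x⁻¹ * h * x)) =
      if x ∈ C then 2 * (Nat.card C : ℂ) else 0 := by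
    intro x
    by_cases hx : x⁻¹ ∈ normalizer (C : Set G)
    · let e : C ≃* C := C.normalizerMonoidHom ⟨x⁻¹, hx⟩
      have he : ∀ h : C, (e h : G) = x⁻¹ * h * x := fun h => by
        change x⁻¹ * h * x⁻¹⁻¹ = _
        rw [inv_inv]
      have h1 : ∀ h : C, extendByZero C θ (x⁻¹ * h * x) = θ (e h) := fun h => by
        rw [← he, extendByZero_of_mem C θ (e h).2]
      simp_rw [h1]
      rw [← card_mul_classInner θ fun h => θ (e h)]
      have h2 : ∀ k : C →* ℂˣ, classInner (fun h : C => χ h) (fun h => (k (e h) : ℂ)) =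
          classInner (fun h : C => χ h) (fun h => (k h : ℂ)) := fun k => by
        rw [← classInner_comp_equiv e (fun h : C => χ h) fun h => (k h : ℂ)]
        congr 1
        ext h
        rw [he, classFun_conj_inv hχ]
      have hI : ∀ k : C →* ℂˣ, IsIrrCharacter C fun h => (k (e h) : ℂ) := fun k =>
        isIrr_comp_equiv e (isIrr_linear k)
      have h3 : classInner θ (fun h => θ (e h)) =
          classInner (fun h => (l h : ℂ)) (fun h => (l (e h) : ℂ)) +
            classInner (fun h => (m h : ℂ)) (fun h => (m (e h) : ℂ)) := by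
        have : (fun h => θ (e h)) = (fun h => (l (e h) : ℂ)) - fun h => (m (e h) : ℂ) := rfl
        rw [this, hθ, classInner_sub_left, classInner_sub_right, classInner_sub_right,
          classInner_isIrr_ne (isIrr_linear l) (hI m) fun e1 => hne (by rw [e1, h2]),
          classInner_isIrr_ne (isIrr_linear m) (hI l) fun e1 => hne (by rw [e1, h2])]
        ring
      rw [h3]
      split_ifs with hxC
      · have h4 : ∀ h, e h = h := fun h => Subtype.ext (by
          rw [he, mul_assoc, hC.comm h.2 hxC, inv_mul_cancel_left])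
        simp_rw [h4]
        rw [classInner_isIrr_self (isIrr_linear l), classInner_isIrr_self (isIrr_linear m)]
        ring
      · have h4 : ∀ k : C →* ℂˣ, k ≠ 1 →
            classInner (fun h => (k h : ℂ)) (fun h => (k (e h) : ℂ)) = 0 := fun k hk => by
          refine classInner_isIrr_ne (isIrr_linear k) (hI k) fun e1 => hk ?_
          ext h
          obtain ⟨y, hy, e2⟩ := H2.exists_eq_comm_of_fpf hx (eq_bot_iff.2 fun a ha => by
            by_contra h5
            exact hxC (inv_mem_iff.1 ((hC a ha.1 h5).le (cz_symm ha.2)))) h.2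
          have h5 : h = ⟨y, hy⟩ * (e ⟨y, hy⟩)⁻¹ := Subtype.ext (by
            rw [e2, coe_mul, coe_inv, he]; group)
          have h6 : k (e ⟨y, hy⟩) = k ⟨y, hy⟩ := Units.ext (congrFun e1 ⟨y, hy⟩).symm
          rw [h5, map_mul, map_inv, h6, mul_inv_cancel]
          rfl
        rw [h4 l hl, h4 m hm, add_zero, mul_zero]
    · rw [if_neg fun h => hx (le_normalizer (inv_mem h))]
      refine Finset.sum_eq_zero fun h _ => ?_
      by_cases h1 : h = 1
      · simp [h1, hθ]
      · rw [extendByZero_of_notMem C θ fun h2 => hx (hC.ti h.2 (fun e => h1 (Subtype.ext e))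
          (by rwa [inv_inv])), map_zero, mul_zero]
  rw [inner_indFun_indFun]
  simp_rw [key]
  rw [Finset.sum_ite, Finset.sum_const_zero, add_zero, Finset.sum_const, nsmul_eq_mul,
    ← Fintype.card_subtype, ← Nat.card_eq_fintype_card]
  field_simp

theorem CC.isolated (hC : CC C) {y : G} (hi : (cz y).index = Nat.card C)
    (hc : (Nat.card C).Coprime (Nat.card (cz y))) :
    (∀ g : G, g⁻¹ * y * g ∈ cz y → g ∈ cz y) ∨ ∀ g : G, g⁻¹ * y * g ∈ cz y := by
  classical
  have := hC.isComm
  set B := cz y with hB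
  set π : G → ℂ := fun g => (Nat.card (MulAction.fixedBy (G ⧸ B) g) : ℂ) with hπ
  have hfix : ∀ g h : G, (g : G ⧸ B) ∈ MulAction.fixedBy (G ⧸ B) h ↔ g⁻¹ * h * g ∈ B := fun g h => by
    rw [MulAction.mem_fixedBy, MulAction.Quotient.smul_mk, eq_comm, QuotientGroup.eq, smul_eq_mul,
      mul_assoc]
  have hdis : ∀ h ∈ C, ∀ g : G, g⁻¹ * h * g ∈ B → h = 1 := fun h hh g hg => by
    have h1 := B.orderOf_dvd_natCard hg
    have : orderOf (g⁻¹ * h * g) = orderOf h := by
      simpa using (MulAut.conj g⁻¹).orderOf_eq h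
    rw [this] at h1
    exact orderOf_eq_one_iff.1 (Nat.eq_one_of_dvd_coprimes hc (C.orderOf_dvd_natCard hh) h1)
  have hπ1 : π 1 = Nat.card C := by
    simp only [hπ, MulAction.fixedBy_one_eq_univ, Nat.card_univ]
    rw [← hi]; rfl
  have hreg : (fun h : C => π h) = regChar C := by
    ext h
    by_cases h1 : h = 1
    · rw [h1, regChar_one, coe_one, hπ1]
    · rw [regChar_of_ne h1]
      have : IsEmpty (MulAction.fixedBy (G ⧸ B) (h : G)) := ⟨fun ⟨q, hq⟩ => by
        obtain ⟨g, rfl⟩ := QuotientGroup.mk_surjective q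
        exact h1 (Subtype.ext (hdis h h.2 g ((hfix g h).1 hq)))⟩
      simp only [hπ, Nat.card_of_isEmpty, Nat.cast_zero]
  obtain ⟨n, hn1, hn2⟩ := isChar_exists_mult (isChar_perm (G := G) (G ⧸ B))
  let o : IrrCharacter G := ⟨fun _ => 1, isIrr_one⟩
  have ho : n o = 1 := by
    have h1 := hn1 o
    have h2 : π = indFun B fun _ => 1 := funext fun g => (indFun_one_eq_card_fixedBy B g).symm
    change classInner π _ = _ at h1
    rw [h2, inner_indFun_left B _ (irr_classFun o), classInner_one_one] at h1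
    exact_mod_cast h1.symm
  have hnat : ∀ (χ : IrrCharacter G) (l : C →* ℂˣ), ∃ k : ℕ,
      classInner (fun h : C => χ.1 h) (fun h => (l h : ℂ)) = k := fun χ l =>
    classInner_isChar_nat (isChar_res C (irr_isChar χ)) (isChar_linear l)
  choose k hk using hnat
  have hsum : ∀ l, ∑ χ, n χ * k χ l = 1 := fun l => by
    have h1 : classInner (fun h : C => π h) (fun h => (l h : ℂ)) = 1 := by
      rw [hreg, classInner_regChar_left]; simp
    have h2 : (fun h : C => π h) = ∑ χ : IrrCharacter G, (n χ : ℂ) • fun h : C => χ.1 h := by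
      ext h
      have := congrFun hn2 h
      simp only [Finset.sum_apply, Pi.smul_apply] at this ⊢
      exact this
    rw [h2, classInner_sum_left] at h1
    simp_rw [classInner_smul_left, hk] at h1
    exact_mod_cast h1
  have huniq : ∀ l χ ψ, n χ ≠ 0 → n ψ ≠ 0 → χ ≠ ψ → k χ l ≠ 0 → k χ l = 1 ∧ k ψ l = 0 := by
    intro l χ ψ h1 h2 h3 h4
    have h5 : n χ * k χ l + n ψ * k ψ l ≤ 1 := by
      rw [← hsum l, ← Finset.sum_pair (f := fun χ => n χ * k χ l) h3]
      exact Finset.sum_le_sum_of_subset (Finset.subset_univ _)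
    have h6 := Nat.le_mul_of_pos_left (k χ l) (Nat.pos_of_ne_zero h1)
    have h7 := Nat.le_mul_of_pos_left (k ψ l) (Nat.pos_of_ne_zero h2)
    omega
  have hex : ∀ χ, n χ ≠ 0 → χ ≠ o → ∃ l, l ≠ 1 ∧ k χ l ≠ 0 := fun χ h1 h2 => by
    obtain ⟨ψ, h3, h4⟩ := isChar_exists_constituent (isChar_res C (irr_isChar χ))
      fun e => isIrr_one_ne_zero χ.2 (congrFun e 1)
    obtain ⟨l, rfl⟩ := isIrr_linear_of_comm h3
    rw [hk] at h4
    refine ⟨l, ?_, by exact_mod_cast h4⟩
    rintro rfl
    have h5 := (huniq 1 χ o h1 (by omega) h2 (by exact_mod_cast h4)).2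
    have h6 := hk o 1
    rw [h5] at h6
    exact one_ne_zero ((classInner_one_one (G := C)).symm.trans (h6.trans Nat.cast_zero))
  have hy : ∀ x : G, y ≠ 1 → x⁻¹ * y * x ∉ C := fun x h1 h2 => h1 (by
    have := hdis _ h2 x⁻¹ (by simpa [mul_assoc] using self_mem_cz y)
    simpa [mul_inv_eq_one, mul_assoc] using congrArg (fun z => x * z * x⁻¹) this)
  by_cases hy1 : y = 1
  · exact Or.inr fun g => by simp [hy1]
  have hsame : ∀ χ ψ, n χ ≠ 0 → n ψ ≠ 0 → χ ≠ o → ψ ≠ o → χ.1 1 = ψ.1 1 ∧ χ.1 y = ψ.1 y := by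
    intro χ ψ h1 h2 h3 h4
    by_cases h5 : χ = ψ
    · rw [h5]; exact ⟨rfl, rfl⟩
    obtain ⟨l, l1, l2⟩ := hex χ h1 h3
    obtain ⟨m, m1, m2⟩ := hex ψ h2 h4
    obtain ⟨l3, l4⟩ := huniq l χ ψ h1 h2 h5 l2
    obtain ⟨m3, m4⟩ := huniq m ψ χ h2 h1 (Ne.symm h5) m2
    have e1 := hC.norm_two l1 m1 (irr_classFun χ) (by rw [hk, hk, l3, m4]; simp)
    set θ : C → ℂ := (fun h => (l h : ℂ)) - fun h => (m h : ℂ) with hθ
    have e2 : classInner χ.1 (indFun C θ) = (1 : ℤ) := by
      rw [inner_indFun_right C _ (irr_classFun χ), hθ, classInner_sub_right, hk, hk, l3, m4]; simp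
    have e3 : classInner ψ.1 (indFun C θ) = (-1 : ℤ) := by
      rw [inner_indFun_right C _ (irr_classFun ψ), hθ, classInner_sub_right, hk, hk, l4, m3]; simp
    have e4 : indFun C θ - (χ.1 - ψ.1) = 0 := classInner_self_eq_zero.1 (by
      simp only [classInner_sub_left, classInner_sub_right, e1, e2, e3,
        classInner_comm_of_intCast e2, classInner_comm_of_intCast e3, classInner_irr_self,
        classInner_irr_ne h5, classInner_irr_ne (Ne.symm h5)]
      norm_num)
    have e5 := congrFun e4 1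
    have e6 := congrFun e4 y
    simp only [Pi.sub_apply, Pi.zero_apply] at e5 e6
    rw [indFun_one] at e5
    rw [indFun_eq_zero C θ fun x => hy x hy1] at e6
    refine ⟨?_, by linear_combination -e6⟩
    have : θ 1 = 0 := by simp [hθ]
    rw [this] at e5
    linear_combination -e5
  have hval : ∀ χ, n χ ≠ 0 → χ ≠ o → ∀ g, g = 1 ∨ g = y →
      π g = 1 + (∑ ψ ∈ Finset.univ.erase o, n ψ : ℕ) * χ.1 g := fun χ h1 h2 g hg => by
    have := congrFun hn2 g
    simp only [Finset.sum_apply, Pi.smul_apply, smul_eq_mul] at this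
    change π g = _ at this
    rw [this, ← Finset.add_sum_erase _ _ (Finset.mem_univ o), ho, Nat.cast_sum, Finset.sum_mul]
    congr 1
    · simp [o]
    refine Finset.sum_congr rfl fun ψ hψ => ?_
    by_cases h3 : n ψ = 0
    · simp [h3]
    have h4 := hsame ψ χ h3 h1 (Finset.ne_of_mem_erase hψ) h2
    rcases hg with e | e
    · rw [e, h4.1]
    · rw [e, h4.2]
  have hall : π y = π 1 → ∀ g : G, g⁻¹ * y * g ∈ B := fun e g => by
    have e' : Nat.card (MulAction.fixedBy (G ⧸ B) y) = Nat.card (G ⧸ B) := by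
      simp only [hπ, MulAction.fixedBy_one_eq_univ, Nat.card_univ] at e
      exact_mod_cast e
    have : MulAction.fixedBy (G ⧸ B) y = Set.univ :=
      Set.eq_of_subset_of_ncard_le (Set.subset_univ _) (by rw [Set.ncard_univ, ← e']; rfl)
    exact (hfix g y).1 (this ▸ Set.mem_univ _)
  have hmem : ((1 : G) : G ⧸ B) ∈ MulAction.fixedBy (G ⧸ B) y :=
    (hfix 1 y).2 (by simpa using self_mem_cz y)
  by_cases hS : ∃ χ, n χ ≠ 0 ∧ χ ≠ o
  swap
  · refine Or.inr (hall ?_)
    have : ∀ g, π g = 1 := fun g => by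
      have := congrFun hn2 g
      simp only [Finset.sum_apply, Pi.smul_apply, smul_eq_mul] at this
      change π g = _ at this
      rw [this, Finset.sum_eq_single o (fun ψ _ h => by
        rw [not_not.1 fun h' => hS ⟨ψ, h', h⟩]; simp) (by simp), ho]
      simp [o]
    rw [this, this]
  obtain ⟨χ, h1, h2⟩ := hS
  set r := ∑ ψ ∈ Finset.univ.erase o, n ψ
  obtain ⟨d, -, hd⟩ := isIrr_degree χ.2
  have v1 := hval χ h1 h2 1 (Or.inl rfl)
  have v2 := hval χ h1 h2 y (Or.inr rfl)
  have e1 : Nat.card C = 1 + r * d := by rw [hπ1, hd] at v1; exact_mod_cast v1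
  rcases isIrr_eq_zero_or_norm_eq_of_coprime χ.2 y hd (by
    rw [← cz, ← hB, hi, e1]; exact (Nat.coprime_add_mul_right_right d 1 r).2 (by simp)) with e | e
  · refine Or.inl fun g hg => ?_
    rw [e, mul_zero, add_zero] at v2
    have e2 : Nat.card (MulAction.fixedBy (G ⧸ B) y) = 1 := by
      simp only [hπ] at v2; exact_mod_cast v2
    have := (Nat.card_eq_one_iff_unique.1 e2).1
    have e3 := congrArg Subtype.val (Subsingleton.elim (α := MulAction.fixedBy (G ⧸ B) y)
      ⟨_, hmem⟩ ⟨_, (hfix g y).2 hg⟩)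
    simpa using QuotientGroup.eq.1 e3
  · refine Or.inr (hall ?_)
    obtain ⟨j, hj⟩ : ∃ j, Nat.card (MulAction.fixedBy (G ⧸ B) y) = j + 1 :=
      Nat.exists_eq_add_one_of_ne_zero (Nat.card_pos_iff.2 ⟨⟨⟨_, hmem⟩⟩, inferInstance⟩).ne'
    have e2 : π y = j + 1 := by simp only [hπ, hj]; push_cast; rfl
    have e3 : (j : ℂ) = r * χ.1 y := by linear_combination v2 - e2
    have e4 := congrArg norm e3
    rw [norm_mul, e, hd] at e4
    simp only [Complex.norm_natCast] at e4
    rw [e2, v1, hd]
    have : j = r * d := by exact_mod_cast e4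
    rw [this]; push_cast; ring

end Cfsg.Agent.Part
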