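import Mathlib
import Cfsg.Agent.Part.Cls
import Cfsg.Agent.S4134

set_option autoImplicit false
set_option linter.unusedSectionVars false

/-! Groups with two non-trivial class sizes are solvable. -/

namespace Cfsg.Agent.Part

open Subgroup Core GW
open scoped Pointwise

variable {G : Type*} [Group G] [Finite G]

local notation "𝐙" => center G
local notation "zi" x:max => Subgroup.relIndex (center G) (cz x)

theorem dvd_zi {r : ℕ} (hr : r.Prime) {x v : G} (hv : v ∈ cz x) (h1 : PE r v) (h2 : v ∉ 𝐙) :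
    r ∣ zi x := (dvd_relIndex_iff (center_le_cz x) hr).2 ⟨v, hv, h1, h2⟩

theorem exists_dvd_zi {x : G} (hx : x ∉ 𝐙) : ∃ s : ℕ, s.Prime ∧ s ∣ zi x :=
  Nat.exists_prime_and_dvd fun e => hx (relIndex_eq_one.1 e (self_mem_cz x))

theorem eq_of_le_of_index {H K : Subgroup G} (h : H ≤ K) (e : H.index ≤ K.index) : H = K := by
  have h1 := relIndex_mul_index h
  have h2 : 0 < K.index := Nat.pos_of_ne_zero index_ne_zero_of_finite
  have h3 : H.relIndex K ≠ 0 := index_ne_zero_of_finite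
  exact le_antisymm h (relIndex_eq_one.1 (by
    by_contra h4
    nlinarith [Nat.mul_le_mul_right K.index (show 2 ≤ H.relIndex K by omega)]))

theorem FG.not_norm (hF : FG G) (h0 : fittingSubgroup (G ⧸ 𝐙) = ⊥) {x : G} (hx : x ∉ 𝐙)
    (hab : IsMulCommutative (cz x)) {r : ℕ} [hr : Fact r.Prime] (h1 : r ∣ zi x) {R : Sylow r G}
    (hR : (R : Subgroup G) ≤ cz x)
    (h : normalizer ((R : Subgroup G) : Set G) ≤ centralizer ((R : Subgroup G) : Set G)) : False := by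
  obtain ⟨P, hP⟩ := hF.exists_prt
  obtain ⟨v, hv, hv1, hv2⟩ := (dvd_relIndex_iff (center_le_cz x) hr.out).1 h1
  have k : ∀ y ∈ cz x, PE r y → y ∈ (R : Subgroup G) := fun y hy ⟨j, hj⟩ =>
    FGS.mem_sylow_of_mem_normalizer R hj (centralizer_le_normalizer _ fun z hz =>
      comm_of_isMulCommutative hab (hR hz) hy)
  have k2 : ∀ y : G, (y : G ⧸ 𝐙) ∈ P.c x ↔ y ∈ cz x := fun y => (hP x y).trans
    ⟨fun e => cz_symm (e (self_mem_cz x)), FGS.le_centralizer_of_comm hab⟩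
  refine fitting_ne_bot_of_frob (P.frobenius (g := x) ((QuotientGroup.eq_one_iff x).not.2 hx)
    fun g hg => ?_) h0
  obtain ⟨g, rfl⟩ := QuotientGroup.mk_surjective g
  rw [k2, hF x v hv2 (FGS.le_centralizer_of_comm hab hv)]
  refine mem_cz.2 (h (mem_normalizer_fintype fun y hy => k _ ((k2 _).1 ?_)
    ((pe_of_mem R.isPGroup' hy).conj g)) v (k v hv hv1)).symm
  exact (mem_normalizer_iff.1 hg y).1 ((k2 y).2 (hR hy))

/-- Two primes divide the order of the centraliser modulo the centre. -/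
def TwoP (x : G) : Prop := ∃ p q : ℕ, p.Prime ∧ q.Prime ∧ p ≠ q ∧ p ∣ zi x ∧ q ∣ zi x

theorem FG.exists_prime (hF : FG G) {x : G} (hx : x ∉ 𝐙) (h : TwoP x) :
    IsMulCommutative (cz x) ∧ ∃ r : ℕ, r.Prime ∧ r ∣ zi x ∧ ¬ r ∣ (cz x).index := by
  obtain ⟨p, q, hp, hq, hpq, h1, h2⟩ := h
  have hab := hF.comm hx hp hq hpq h1 h2
  refine ⟨hab, ?_⟩
  by_cases e : p ∣ (cz x).index
  · exact ⟨q, hq, h2, hF.not_two hab hp hq hpq h1 h2 e⟩
  · exact ⟨p, hp, h1, e⟩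

theorem FG.one_two (hF : FG G) (h0 : fittingSubgroup (G ⧸ 𝐙) = ⊥) {x y : G} (hx : x ∉ 𝐙)
    (hy : y ∉ 𝐙) (hc : ∀ w, w ∉ 𝐙 → (cz w).index = (cz x).index ∨ (cz w).index = (cz y).index)
    (h1 : TwoP x) (h2 : ¬ TwoP y) : False := by
  obtain ⟨s, hs, hsy⟩ := exists_dvd_zi hy
  have k : ∀ r : ℕ, r.Prime → r ≠ s → ∀ w, w ∉ 𝐙 → r ∣ zi w → (cz w).index = (cz x).index :=
    fun r hr hrs w hw h => (hc w hw).resolve_right fun e => h2 ⟨r, s, hr, hs, hrs, zi_eq e ▸ h, hsy⟩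
  have k2 : ∀ r : ℕ, r.Prime → r ≠ s → r ∣ (cz x).index → r ∣ zi x := fun r hr hrs h => by
    obtain ⟨v, hv1, hv2⟩ := nc_of_dvd hr (center_le_cz x) h
    have h3 := dvd_zi hr (self_mem_cz v) hv1 hv2
    rwa [zi_eq (k r hr hrs v hv2 h3)] at h3
  obtain ⟨q, hq, hqs, hqx, h3⟩ : ∃ q : ℕ, q.Prime ∧ q ≠ s ∧ q ∣ zi x ∧
      ∀ r : ℕ, r.Prime → r ∣ (cz x).index → r ≠ q → r = s := by
    by_cases e : ∃ q : ℕ, q.Prime ∧ q ≠ s ∧ q ∣ (cz x).index
    · obtain ⟨q, hq, hqs, hd⟩ := e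
      refine ⟨q, hq, hqs, k2 q hq hqs hd, fun r hr hr' hrq => ?_⟩
      by_contra hrs
      exact hF.not_two (hF.exists_prime hx h1).1 hr hq hrq (k2 r hr hrs hr') (k2 q hq hqs hd) hr' hd
    · push Not at e
      have e' : ∀ q r : ℕ, r.Prime → r ∣ (cz x).index → r ≠ q → r = s := fun q r hr hd _ => by
        by_contra h
        exact e r hr h hd
      obtain ⟨p, q, hp, hq, hpq, h4, h5⟩ := h1
      by_cases e2 : p = s
      · exact ⟨q, hq, fun h => hpq (e2.trans h.symm), h5, e' q⟩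
      · exact ⟨p, hp, e2, h4, e' p⟩
  have := Fact.mk hq
  obtain ⟨Q⟩ : Nonempty (Sylow q (G ⧸ 𝐙)) := inferInstance
  have hQ : (Q : Subgroup (G ⧸ 𝐙)) ≠ ⊥ := Q.ne_bot_of_dvd_card
    (hqx.trans (relIndex_dvd_index_of_normal _ _))
  obtain ⟨u, hu, hu1, hu2⟩ := exists_mem_comm_of_normalizer Q.isPGroup' hQ Q.isPGroup' le_normalizer
  obtain ⟨u, rfl⟩ := QuotientGroup.mk_surjective u
  obtain ⟨j, hj⟩ := pe_of_mem Q.isPGroup' hu
  obtain ⟨a, ha, e, hp⟩ := FGS.exists_pElement_lift (QuotientGroup.mk' 𝐙) (p := q) u hj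
  have e' : (a : G ⧸ 𝐙) = u := e
  have ha' : a ∉ 𝐙 := fun h => hu1 (e' ▸ (QuotientGroup.eq_one_iff a).2 h)
  have h4 := FGS.index_centralizer_map_dvd (QuotientGroup.mk'_surjective 𝐙) a
  rw [k q hq hqs a ha' (dvd_zi hq (self_mem_cz a) hp ha'), e] at h4
  have h5 := FGS.not_dvd_index_of_sylow_le Q (H := cz (u : G ⧸ 𝐙)) fun z hz => mem_cz.2 (hu2 z hz)
  exact hu1 (eq_one_of_index h0 hs (Nat.eq_prime_pow_of_unique_prime_dvd index_ne_zero_of_finite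
    fun {r} hr hd => h3 r hr (hd.trans h4) fun e => h5 (e ▸ hd)))

theorem FG.rank2 (hF : FG G) {x y : G} (hx : x ∉ 𝐙) (hy : y ∉ 𝐙)
    (hc : ∀ w, w ∉ 𝐙 → (cz w).index = (cz x).index ∨ (cz w).index = (cz y).index) :
    Group.IsSolvable G := by
  by_contra hs
  have h0 := hF.solv_or.resolve_left hs
  by_cases h1 : TwoP x <;> by_cases h2 : TwoP y
  · obtain ⟨ha, p, hp, h3, h4⟩ := hF.exists_prime hx h1
    obtain ⟨hb, q, hq, h5, h6⟩ := hF.exists_prime hy h2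
    have := Fact.mk hp
    have := Fact.mk hq
    have k : ∀ w : G, ¬ p ∣ (cz w).index ∨ ¬ q ∣ (cz w).index := fun w => by
      by_cases hw : w ∈ 𝐙
      · rw [FGS.index_centralizer_eq_one_iff.2 hw]; exact Or.inl hp.not_dvd_one
      · exact (hc w hw).imp (fun e => by rwa [e]) fun e => by rwa [e]
    have hpq : p ≠ q := by
      rintro rfl
      obtain ⟨v, -, hv⟩ := (dvd_relIndex_iff (center_le_cz x) hp).1 h3
      obtain ⟨w, hw⟩ := NC.dvd hp ⟨v, hv⟩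
      exact (k w).elim (· hw) (· hw)
    obtain ⟨P, hP⟩ := FGS.exists_sylow_le_of_not_dvd_index h4
    obtain ⟨Q, hQ⟩ := FGS.exists_sylow_le_of_not_dvd_index h6
    rcases FGS.ito hpq (fun w h => (k w).elim (· (Dvd.dvd.trans (Dvd.intro _ rfl) h))
      (· (Dvd.dvd.trans (Dvd.intro_left _ rfl) h))) P Q with h | h
    · exact hF.not_norm h0 hx ha h3 hP h
    · exact hF.not_norm h0 hy hb h5 hQ h
  · exact hF.one_two h0 hx hy hc h1 h2
  · exact hF.one_two h0 hy hx (fun w hw => (hc w hw).symm) h2 h1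
  · obtain ⟨p, hp, h3⟩ := exists_dvd_zi hx
    obtain ⟨q, hq, h4⟩ := exists_dvd_zi hy
    obtain ⟨r, hr, hrp, hrq, v, hv1, hv2⟩ := exists_third hs hp hq
    have h5 := dvd_zi hr (self_mem_cz v) hv1 hv2
    rcases hc v hv2 with e | e <;> rw [zi_eq e] at h5
    · exact h1 ⟨r, p, hr, hp, hrp, h5, h3⟩
    · exact h2 ⟨r, q, hr, hq, hrq, h5, h4⟩

/-- The non-trivial class sizes are `n < m`. -/
structure R2 (G : Type*) [Group G] (m n : ℕ) : Prop where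
  lt : n < m
  cls : ∀ x : G, x ∉ center G → (cz x).index = n ∨ (cz x).index = m

namespace R2

variable {m n : ℕ} (h : R2 G m n) {x y w v : G}
include h

theorem big_max (hy : (cz y).index = n) (hw : w ∉ 𝐙) (e : cz y ≤ cz w) : cz y = cz w :=
  eq_of_le_of_index e (by have := h.cls w hw; have := h.lt; omega)

theorem small_min (hx : (cz x).index = m) (hx' : x ∉ 𝐙) (e : cz w ≤ cz x) : cz w = cz x :=
  eq_of_le_of_index e (by have := h.cls w (nc_of_le e hx'); have := h.lt; omega)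

theorem of_lt (hy : y ∉ 𝐙) (e : cz x < cz y) : (cz x).index = m ∧ (cz y).index = n :=
  ⟨(h.cls x (nc_of_le e.le hy)).resolve_left fun e1 => e.ne (h.big_max e1 hy e.le),
    (h.cls y hy).resolve_right fun e1 => e.ne (h.small_min e1 hy e.le)⟩

theorem sm_cent (hx : (cz x).index = m) (hx' : x ∉ 𝐙) (hw : w ∈ cz x)
    (hc : (orderOf x).Coprime (orderOf w)) : cz x ≤ cz w := by
  rw [← h.small_min hx hx' (cz_mul hw hc ▸ inf_le_left), cz_mul hw hc]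
  exact inf_le_right

theorem sm_mul (hy : y ∉ 𝐙) (hv : v ∈ cz y) (hc : (orderOf y).Coprime (orderOf v))
    (e : ¬ cz y ≤ cz v) : (cz (y * v)).index = m ∧ y * v ∉ 𝐙 :=
  ⟨(h.of_lt hy (cz_mul hv hc ▸ inf_lt_left.2 e)).1, nc_of_le (cz_mul hv hc ▸ inf_le_left) hy⟩

theorem step1 {p r : ℕ} (hp : p.Prime) (hr : r.Prime) (hy : y ∉ 𝐙) (hpy : PE p y)
    (e : cz x < cz y) (hN : NC G r) : r ∣ zi x := by
  by_contra hd
  obtain ⟨hx, hy'⟩ := h.of_lt hy e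
  have k : ∀ w, w ∉ 𝐙 → ∀ u ∈ cz w, PE r u → u ∉ 𝐙 → (cz w).index = n := fun w hw u hu h1 h2 =>
    (h.cls w hw).resolve_right fun e1 => hd (zi_eq (e1.trans hx.symm) ▸ dvd_zi hr hu h1 h2)
  obtain ⟨u0, h1, h2⟩ := hN
  have h3 := dvd_zi hr (self_mem_cz u0) h1 h2
  rw [zi_eq ((k u0 h2 u0 (self_mem_cz u0) h1 h2).trans hy'.symm)] at h3
  obtain ⟨u, hu, h1, h2⟩ := (dvd_relIndex_iff (center_le_cz y) hr).1 h3
  have k2 : ∀ s : ℕ, s.Prime → s ≠ r → ∀ a ∈ cz u, PE s a → cz u ≤ cz a := fun s hs hsr a ha h4 => by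
    have e1 := cz_mul ha (h1.coprime hr hs hsr.symm h4)
    have h5 : u * a ∉ 𝐙 := nc_of_le (e1 ▸ inf_le_left) h2
    rw [← h.big_max (k _ h5 u (e1 ▸ ⟨self_mem_cz u, cz_symm ha⟩) h1 h2) h2 (e1 ▸ inf_le_left), e1]
    exact inf_le_right
  have hpr : p ≠ r := by
    rintro rfl
    exact hd (dvd_zi hr (cz_symm (e.le (self_mem_cz x))) hpy hy)
  have e1 : cz u = cz y := h.big_max (k u h2 u (self_mem_cz u) h1 h2) hy
    (k2 p hp hpr y (cz_symm hu) hpy)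
  refine e.not_ge fun z hz => ?_
  by_contra hz'
  obtain ⟨s, hs, a, ha, h4, h5⟩ := exists_pe (x := x) (K := cz z) fun e => hz' (cz_symm e)
  have ha' : a ∈ cz x := cz_symm (cz_le_zp ha (self_mem_cz x))
  by_cases e2 : s = r
  · subst e2
    exact hd (dvd_zi hr ha' h4 fun h6 => h5 (center_le_cz z h6))
  · exact h5 (cz_symm (k2 s hs e2 a (e1 ▸ e.le ha') h4 (e1 ▸ hz)))

end R2

/-- A non-solvable group with two class sizes and comparable centralisers. -/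
structure R3 (G : Type*) [Group G] (m n k : ℕ) : Prop extends R2 G m n where
  ns : ¬ Group.IsSolvable G
  mul : k * n = m
  all : ∀ r : ℕ, r.Prime → NC G r → ∀ w : G, w ∉ center G → ∃ v ∈ cz w, PE r v ∧ v ∉ center G

namespace R3

variable {m n k : ℕ} (h : R3 G m n k) {x y y' w v : G} {p p' : ℕ}
include h

theorem rel (hy : y ∉ 𝐙) (e : cz x < cz y) : (cz x).relIndex (cz y) = k := by
  obtain ⟨h1, h2⟩ := h.of_lt hy e
  have h3 := relIndex_mul_index e.le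
  rw [h1, ← h.mul, ← h2] at h3
  exact Nat.eq_of_mul_eq_mul_right (Nat.pos_of_ne_zero index_ne_zero_of_finite) h3

theorem dvd_m {r : ℕ} (hr : r.Prime) (hN : NC G r) : r ∣ m := by
  obtain ⟨w, hw⟩ := hN.dvd hr
  have hw' : w ∉ 𝐙 := fun e => hr.not_dvd_one (FGS.index_centralizer_eq_one_iff.2 e ▸ hw)
  rcases h.cls w hw' with e | e <;> rw [e] at hw
  · exact hw.trans (Dvd.intro_left _ h.mul)
  · exact hw

theorem a0 (hp : p.Prime) (hp' : p'.Prime) (hpp : p ≠ p') (hy : y ∉ 𝐙) (hpy : PE p y)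
    (hpy' : PE p' y') (e : cz y' = cz y) {s : ℕ} (hs : s.Prime) (hsp : s ≠ p) {a g : G}
    (ha : a ∈ cz y) (hsa : PE s a) (ha' : ¬ cz y ≤ cz a) (hg : g ∈ cz y ⊓ cz a) (hpg : PE p g) :
    cz y ⊓ cz a ≤ cz g := by
  have hy' : y' ∉ 𝐙 := nc_of_le e.le hy
  have k : ∀ (t s : ℕ) (z a : G), t.Prime → s.Prime → t ≠ s → t ≠ p → s ≠ p → PE t z → PE s a →
      cz z = cz y → a ∈ cz y → ¬ cz y ≤ cz a → g ∈ cz a → cz y ⊓ cz a ≤ cz g :=
    fun t s z a ht hs hts htp hsp hz hsa e ha ha' hga => by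
      have hc := hz.coprime ht hs hts hsa
      have e1 := cz_mul (e ▸ ha) hc
      obtain ⟨h1, h2⟩ := h.sm_mul (nc_of_le e.le hy) (e ▸ ha) hc (e ▸ ha')
      rw [← e, ← e1]
      refine h.sm_cent h1 h2 (e1 ▸ ⟨e ▸ hg.1, hga⟩) ?_
      rw [(Commute.symm (mem_cz.1 (e ▸ ha : a ∈ cz z))).orderOf_mul_eq_mul_orderOf_of_coprime hc]
      exact (hz.coprime ht hp htp hpg).mul_left (hsa.coprime hs hp hsp hpg)
  by_cases e1 : s = p'
  swap
  · exact k p' s y' a hp' hs (Ne.symm e1) hpp.symm hsp hpy' hsa e ha ha' hg.2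
  subst e1
  obtain ⟨q, hq, hqp, hqs, hN⟩ := exists_third h.ns hp hs
  have hc := hpy.coprime hp hs hpp hsa
  have e1 := cz_mul ha hc
  obtain ⟨h1, h2⟩ := h.sm_mul hy ha hc ha'
  obtain ⟨z, hz, hz1, hz2⟩ := h.all q hq hN _ h2
  have h3 : cz (y * a) ≤ cz z := h.sm_cent h1 h2 hz (by
    rw [(Commute.symm (mem_cz.1 ha)).orderOf_mul_eq_mul_orderOf_of_coprime hc]
    exact (hpy.coprime hp hq hqp.symm hz1).mul_left (hsa.coprime hs hq hqs.symm hz1))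
  rw [e1] at hz h3
  by_cases e2 : cz y ≤ cz z
  · exact k q s z a hq hs hqs hqp hsp hz1 hsa
      (h.big_max (h.of_lt hy (e1 ▸ inf_lt_left.2 ha')).2 hz2 e2).symm ha ha' hg.2
  · exact (le_inf inf_le_left h3).trans (k s q y' z hs hq hqs.symm hsp hqp hpy' hz1 e hz.1 e2 (h3 hg))

theorem a1 (hp : p.Prime) (hp' : p'.Prime) (hpp : p ≠ p') (hy : y ∉ 𝐙) (hpy : PE p y)
    (hpy' : PE p' y') (e : cz y' = cz y) {g : G} (hg : g ∈ cz y) (hg' : ¬ cz y ≤ cz g) :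
    (cz g).relIndex (cz y) = k := by
  have := Fact.mk hp
  suffices ∃ w, cz w = cz y ⊓ cz g by
    obtain ⟨w, hw⟩ := this
    rw [← h.rel hy (hw ▸ inf_lt_left.2 hg'), hw, inf_relIndex_left]
  obtain ⟨a, b, ha, hb, rfl, hab, hpa, hb'⟩ := FGS.exists_pPart p g
  have ha := Subgroup.zpowers_le.2 hg ha
  have hb := Subgroup.zpowers_le.2 hg hb
  have hc : ∀ z : G, PE p z → (orderOf z).Coprime (orderOf b) := fun z ⟨j, hj⟩ =>
    hj ▸ hb'.symm.pow_left j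
  rw [cz_mul (mem_cz.2 hab.symm.eq) (hc a hpa)]
  by_cases e1 : cz y ≤ cz b
  · refine ⟨y' * a, ?_⟩
    rw [cz_mul (e ▸ ha) (hpy'.coprime hp' hp hpp.symm hpa), e, inf_comm (cz a), ← inf_assoc,
      inf_eq_left.2 e1]
  obtain ⟨z, hz, hz'⟩ := SetLike.not_le_iff_exists.1 e1
  obtain ⟨s, hs, c, hc1, hc2, hc3⟩ := exists_pe (x := b) (K := cz z) fun e => hz' (cz_symm e)
  have hcy := Subgroup.zpowers_le.2 hb hc1
  have h1 : ¬ cz y ≤ cz c := fun e => hc3 (cz_symm (e hz))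
  have hsp : s ≠ p := by
    rintro rfl
    have h2 := (hc c hc2).eq_one_of_dvd (orderOf_dvd_of_mem_zpowers hc1)
    exact hc3 (orderOf_eq_one_iff.1 h2 ▸ one_mem _)
  have hc4 := hpy.coprime hp hs hsp.symm hc2
  obtain ⟨h2, h3⟩ := h.sm_mul hy hcy hc4 h1
  have e2 : cz y ⊓ cz b = cz y ⊓ cz c := by
    rw [← cz_mul hb (hc y hpy), ← cz_mul hcy hc4]
    refine h.small_min h2 h3 ?_
    rw [cz_mul hb (hc y hpy), cz_mul hcy hc4]
    exact inf_le_inf_left _ (cz_le_zp hc1)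
  refine ⟨y * c, ?_⟩
  rw [cz_mul hcy hc4, inf_comm (cz a), ← inf_assoc, e2, eq_comm, inf_eq_left]
  exact h.a0 hp hp' hpp hy hpy hpy' e hs hsp hcy hc2 h1 ⟨ha, cz_le_zp hc1 (mem_cz.2 hab.eq)⟩ hpa

omit h in
theorem cent_of {B : Subgroup G} {r : ℕ} (hr : r.Prime) (h1 : ∀ g ∈ B, ¬ r ∣ (cz g).relIndex B)
    {v : G} (hv : v ∈ B) (hp : PE r v) : B ≤ cz v := fun z hz => by
  have := Fact.mk hr
  obtain ⟨j, hj⟩ := (PE.coe (x := (⟨v, hv⟩ : B))).1 hp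
  obtain ⟨R, hR⟩ := FGS.exists_sylow_mem hj
  have := FGS.sylow_le_center (fun g : B => FGS.index_centralizer_subgroup B g ▸ h1 g g.2) R hR
  exact mem_cz.2 (congrArg Subtype.val (mem_center_iff.1 this ⟨z, hz⟩))

theorem not_tp (hp : p.Prime) (hp' : p'.Prime) (hpp : p ≠ p') (hy : y ∉ 𝐙) (hpy : PE p y)
    (hpy' : PE p' y') (e : cz y' = cz y) (hx : cz x < cz y) : False := by
  have h1 : ∀ g ∈ cz y, (cz g).relIndex (cz y) = 1 ∨ (cz g).relIndex (cz y) = k := fun g hg => by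
    by_cases e1 : cz y ≤ cz g
    · exact Or.inl (relIndex_eq_one.2 e1)
    · exact Or.inr (h.a1 hp hp' hpp hy hpy hpy' e hg e1)
  have h2 := h.rel hy hx
  have h3 : 1 < k := by
    have : (cz x).relIndex (cz y) ≠ 0 := index_ne_zero_of_finite
    have := mt relIndex_eq_one.1 hx.not_ge
    omega
  obtain ⟨s, hs, j, hj, -⟩ := S4134.result (G := cz y) k h3
    (fun g => FGS.index_centralizer_subgroup _ g ▸ h1 g g.2)
    ⟨⟨x, hx.le (self_mem_cz x)⟩, (FGS.index_centralizer_subgroup _ _).trans h2⟩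
  obtain ⟨q, hq, hqs, -, hN⟩ := exists_third h.ns hs.out hs.out
  obtain ⟨r, hr, hrs, hrq, hN'⟩ := exists_third h.ns hs.out hq
  have k1 : ∀ t : ℕ, t.Prime → t ≠ s → ¬ t ∣ k := fun t ht hts e =>
    hts ((Nat.prime_dvd_prime_iff_eq ht hs.out).1 (ht.dvd_of_dvd_pow (hj ▸ e)))
  have k2 : ∀ t : ℕ, t.Prime → t ≠ s → ∀ v ∈ cz y, PE t v → cz y ≤ cz v := fun t ht hts v hv hp =>
    cent_of ht (fun g hg => (h1 g hg).elim (fun e => e ▸ ht.not_dvd_one) fun e => e ▸ k1 t ht hts) hv hp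
  have k3 : ∀ v ∈ cz y, PE q v ∨ PE r v → cz y ≤ cz v := fun v hv e =>
    e.elim (k2 q hq hqs v hv) (k2 r hr hrs v hv)
  have hn := (h.of_lt hy hx).2
  have k4 : ∀ t : ℕ, t.Prime → t ≠ s → NC G t → t ∣ (cz y).relIndex ⊤ := fun t ht hts hN => by
    rw [relIndex_top_right, hn]
    exact ((Nat.Prime.dvd_mul ht).1 (h.mul ▸ h.dvd_m ht hN)).resolve_left (k1 t ht hts)
  obtain ⟨a, ha, ha1, ha2⟩ := h.all q hq hN y hy
  obtain ⟨b, hb, hb1, hb2⟩ := h.all r hr hN' y hy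
  exact wx2 le_top hq hr hrq.symm ha ha2 ha1 hb hb2 hb1 (fun v hv e z hz => mem_cz.1 (k3 v hv e hz))
    (fun v hv hv' e z _ e1 => h.big_max hn hv' (k3 v hv e) ▸ mem_cz.2 e1) (k4 q hq hqs hN)
    (k4 r hr hrs hN')

section

variable (hp : p.Prime) (hy : y ∉ center G) (hpy : PE p y) (hx : cz x < cz y)
include hp hy hpy hx

theorem b1 {s : ℕ} (hs : s.Prime) (hsp : s ≠ p) (hv : v ∈ cz y) (hv1 : PE s v) (hv2 : v ∉ 𝐙) :
    cz (y * v) = cz y ⊓ cz v ∧ cz (y * v) < cz y := by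
  have e := cz_mul hv (hpy.coprime hp hs hsp.symm hv1)
  exact ⟨e, e ▸ inf_lt_left.2 fun e1 => h.not_tp hp hs hsp.symm hy hpy hv1
    (h.big_max (h.of_lt hy hx).2 hv2 e1).symm hx⟩

theorem b2 {s : ℕ} (hs : s.Prime) (hsp : s ≠ p) (hv1 : PE s v) (hv2 : v ∉ 𝐙) (e : cz x ≤ cz v)
    (hv : v ∈ cz x) : cz x = cz (y * v) := by
  obtain ⟨e1, e2⟩ := h.b1 hp hy hpy hx hs hsp (hx.le hv) hv1 hv2
  exact h.small_min (h.of_lt hy e2).1 (nc_of_le e2.le hy) (e1 ▸ le_inf hx.le e)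

theorem b3 : IsMulCommutative (cz x) := by
  have hx' := nc_of_le hx.le hy
  have hm := (h.of_lt hy hx).1
  have k : ∀ (a b : G) (s t r : ℕ), s.Prime → t.Prime → r.Prime → s ≠ t → r ≠ s → r ≠ t → PE s a →
      PE t b → b ∈ cz a → cz x = cz (a * b) → ∀ c ∈ cz x, PE r c → cz x ≤ cz c :=
    fun a b s t r hs ht hr hst hrs hrt ha hb hab e c hc hc1 => by
      rw [e] at hm hc ⊢
      refine h.sm_cent hm (nc_of_le e.ge hx') hc ?_
      rw [(Commute.symm (mem_cz.1 hab)).orderOf_mul_eq_mul_orderOf_of_coprime (ha.coprime hs ht hst hb)]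
      exact (ha.coprime hs hr hrs.symm hc1).mul_left (hb.coprime ht hr hrt.symm hc1)
  obtain ⟨s, z, hs, hsp, hz1, hz2, hz3, hz⟩ : ∃ (s : ℕ) (z : G), s.Prime ∧ s ≠ p ∧ PE s z ∧ z ∉ 𝐙 ∧
      cz x ≤ cz z ∧ z ∈ cz x := by
    have := Fact.mk hp
    obtain ⟨a, b, ha, hb, e, hab, ⟨j, hj⟩, hb'⟩ := FGS.exists_pPart p x
    by_cases e1 : b ∈ 𝐙
    · obtain ⟨q, hq, hqp, -, hN⟩ := exists_third h.ns hp hp
      obtain ⟨z, hz, hz1, hz2⟩ := h.all q hq hN x hx'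
      have e2 : cz x = cz a := by
        rw [e, cz_mul (mem_cz.2 hab.symm.eq) (hj ▸ hb'.symm.pow_left j),
          show cz b = ⊤ from FGS.mem_center_iff_centralizer_eq_top.1 e1, inf_top_eq]
      refine ⟨q, z, hq, hqp, hz1, hz2, ?_, hz⟩
      rw [e2] at hm hz ⊢
      exact h.sm_cent hm (nc_of_le e2.ge hx') hz (PE.coprime hp hq hqp.symm ⟨j, hj⟩ hz1)
    · obtain ⟨s, hs, c, hc1, hc2, hc3⟩ := exists_pe e1
      have hc4 : c ∈ zpowers x := Subgroup.zpowers_le.2 hb hc1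
      refine ⟨s, c, hs, ?_, hc2, hc3, cz_le_zp hc4, cz_symm (cz_le_zp hc4 (self_mem_cz x))⟩
      rintro rfl
      obtain ⟨i, hi⟩ := hc2
      have h2 := (hi ▸ hb'.symm.pow_left i : (orderOf c).Coprime _).eq_one_of_dvd
        (orderOf_dvd_of_mem_zpowers hc1)
      exact hc3 (orderOf_eq_one_iff.1 h2 ▸ one_mem _)
  have e1 := h.b2 hp hy hpy hx hs hsp hz1 hz2 hz3 hz
  obtain ⟨r, hr, hrp, hrs, hN⟩ := exists_third h.ns hp hs
  obtain ⟨w, hw, hw1, hw2⟩ := h.all r hr hN x hx'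
  have hw3 := k y z p s r hp hs hr hsp.symm hrp hrs hpy hz1 (hx.le hz) e1 w hw hw1
  have e2 := h.b2 hp hy hpy hx hr hrp hw1 hw2 hw3 hw
  have e3 := cz_mul (hz3 hw) (hz1.coprime hs hr hrs.symm hw1)
  have e4 : cz x = cz (z * w) := by
    by_contra e
    have h1 : cz x < cz (z * w) := lt_of_le_of_ne (e3 ▸ le_inf hz3 hw3) e
    have h2 := (h.of_lt (nc_of_le (e3 ▸ inf_le_left) hz2) h1).2
    have h3 := h.big_max h2 hz2 (e3 ▸ inf_le_left)
    exact h.not_tp hs hr hrs.symm hz2 hz1 hw1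
      ((h.big_max h2 hw2 (e3 ▸ inf_le_right)).symm.trans h3) (h3 ▸ h1)
  refine comm_of_pe fun t ht c hc hc1 b hb => mem_cz.1 ((?_ : cz x ≤ cz c) hb)
  by_cases e : t = p
  · exact k z w s r t hs hr ht hrs.symm (e ▸ hsp.symm) (e ▸ hrp.symm) hz1 hw1 (hz3 hw) e4 c hc hc1
  by_cases e' : t = s
  · exact k y w p r t hp hr ht hrp.symm e (e' ▸ hrs.symm) hpy hw1 (hx.le hw) e2 c hc hc1
  · exact k y z p s t hp hs ht hsp.symm e e' hpy hz1 (hx.le hz) e1 c hc hc1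

theorem b4 {s : ℕ} (hs : s.Prime) (hsp : s ≠ p) (hv : v ∈ cz x) (hv1 : PE s v) (hv2 : v ∉ 𝐙)
    {z : G} (hz : z ∈ cz y) (e : z * v = v * z) : z ∈ cz x := by
  rw [h.b2 hp hy hpy hx hs hsp hv1 hv2 (FGS.le_centralizer_of_comm (h.b3 hp hy hpy hx) hv) hv,
    (h.b1 hp hy hpy hx hs hsp (hx.le hv) hv1 hv2).1]
  exact ⟨hz, mem_cz.2 e⟩

theorem nc_k {r : ℕ} (hr : r.Prime) (hd : r ∣ k) : NC G r :=
  nc_of_dvd hr (center_le_cz x) ((h.of_lt hy hx).1 ▸ hd.trans (Dvd.intro _ h.mul))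

theorem c1 {q r : ℕ} (hq : q.Prime) (hr : r.Prime) (hqr : q ≠ r) (hqp : q ≠ p) (hrp : r ≠ p)
    (h1 : q ∣ k) (h2 : r ∣ k) : False := by
  have hx' := nc_of_le hx.le hy
  obtain ⟨a, ha, ha1, ha2⟩ := h.all q hq (h.nc_k hp hy hpy hx hq h1) x hx'
  obtain ⟨b, hb, hb1, hb2⟩ := h.all r hr (h.nc_k hp hy hpy hx hr h2) x hx'
  exact wx2 hx.le hq hr hqr ha ha2 ha1 hb hb2 hb1
    (fun v hv _ z hz => comm_of_isMulCommutative (h.b3 hp hy hpy hx) hz hv)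
    (fun v hv hv' e z hz e1 => e.elim (fun e => h.b4 hp hy hpy hx hq hqp hv e hv' hz e1)
      fun e => h.b4 hp hy hpy hx hr hrp hv e hv' hz e1) (h.rel hy hx ▸ h1) (h.rel hy hx ▸ h2)

theorem d1 : p ∣ k := by
  by_contra hd
  have := Fact.mk hp
  obtain ⟨r, hr, hrp, hN, hr'⟩ : ∃ r : ℕ, r.Prime ∧ r ≠ p ∧ NC G r ∧ ¬ r ∣ k := by
    obtain ⟨q, hq, hqp, -, hN⟩ := exists_third h.ns hp hp
    obtain ⟨r, hr, hrp, hrq, hN'⟩ := exists_third h.ns hp hq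
    by_cases e : q ∣ k
    · exact ⟨r, hr, hrp, hN', h.c1 hp hy hpy hx hq hr hrq.symm hqp hrp e⟩
    · exact ⟨q, hq, hqp, hN, e⟩
  obtain ⟨v, hv, hv1, hv2⟩ := h.all r hr hN y hy
  obtain ⟨e1, e2⟩ := h.b1 hp hy hpy hx hr hrp hv hv1 hv2
  refine e2.not_ge (e1 ▸ le_inf le_rfl (cent_of hr (fun g hg e => hr' (e.trans ?_)) hv hv1))
  have k1 : ∀ w, cz w < cz y → ∀ g ∈ cz w, (cz g).relIndex (cz y) ∣ k := fun w hw g hg =>
    h.rel hy hw ▸ relIndex_dvd_of_le_left _ (FGS.le_centralizer_of_comm (h.b3 hp hy hpy hw) hg)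
  obtain ⟨a, b, ha, hb, e, hab, hpa, hb'⟩ := FGS.exists_pPart p g
  by_cases e3 : b ∈ 𝐙
  · have e4 : cz g = cz a := by
      obtain ⟨j, hj⟩ := hpa
      rw [e, cz_mul (mem_cz.2 hab.symm.eq) (hj ▸ hb'.symm.pow_left j),
        show cz b = ⊤ from FGS.mem_center_iff_centralizer_eq_top.1 e3, inf_top_eq]
    obtain ⟨P, hP⟩ := exists_isSylowOf p (cz x)
    obtain ⟨c, hc, hc'⟩ := (hP.trans hx.le (h.rel hy hx ▸ hd)).exists_conj_le (PE.pg hpa)
      (Subgroup.zpowers_le.2 (Subgroup.zpowers_le.2 hg ha))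
    have h1 : c * a * c⁻¹ ∈ cz x := hP.le (hc' (FGS.mem_conj_iff.2 (by simp [mul_assoc])))
    have h2 : cz y = MulAut.conj c⁻¹ • cz y :=
      (conj_smul_eq_iff_mem_normalizer.2 (le_normalizer (inv_mem hc))).symm
    rw [e4]
    refine k1 (c⁻¹ * x * c⁻¹⁻¹) ?_ a ?_
    · unfold cz at h2 ⊢
      rw [FGS.centralizer_conj, h2]
      exact lt_of_le_of_ne (pointwise_smul_le_pointwise_smul_iff.2 hx.le)
        fun e => hx.ne (MulAction.injective _ e)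
    · unfold cz
      rw [FGS.centralizer_conj, FGS.mem_conj_iff, inv_inv]
      exact h1
  · obtain ⟨s, hs, c, hc1, hc2, hc3⟩ := exists_pe e3
    have hc4 : c ∈ zpowers g := Subgroup.zpowers_le.2 hb hc1
    have hsp : s ≠ p := by
      rintro rfl
      obtain ⟨i, hi⟩ := hc2
      have h2 := (hi ▸ hb'.symm.pow_left i : (orderOf c).Coprime _).eq_one_of_dvd
        (orderOf_dvd_of_mem_zpowers hc1)
      exact hc3 (orderOf_eq_one_iff.1 h2 ▸ one_mem _)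
    obtain ⟨e4, e5⟩ := h.b1 hp hy hpy hx hs hsp (Subgroup.zpowers_le.2 hg hc4) hc2 hc3
    exact k1 _ e5 g (e4 ▸ ⟨hg, cz_le_zp hc4 (self_mem_cz g)⟩)

theorem false : False := by
  have hx' := nc_of_le hx.le hy
  have hab := h.b3 hp hy hpy hx
  have hm := (h.of_lt hy hx).1
  have hc : ∀ v ∈ cz x, v ∈ centralizer (cz x : Set G) := fun v hv z hz =>
    comm_of_isMulCommutative hab hz hv
  have k1 : ∀ v ∈ cz x, ∀ z, z * v = v * z → z ∉ cz x → cz x < cz v := fun v hv z e hz =>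
    lt_of_le_of_ne (FGS.le_centralizer_of_comm hab hv) fun e1 => hz (e1 ▸ mem_cz.2 e)
  have k2 : ∀ s : ℕ, s.Prime → ¬ s ∣ k → ∀ v ∈ cz x, v ∉ 𝐙 → PE s v → ∀ z, z * v = v * z → z ∈ cz x :=
    fun s hs hd v hv hv' hv1 z e => by
      by_contra hz
      exact hd (h.d1 hs hv' hv1 (k1 v hv z e hz))
  have k3 : ∀ s : ℕ, s.Prime → NC G s → s ∣ (cz x).relIndex ⊤ := fun s hs hN => by
    rw [relIndex_top_right, hm]; exact h.dvd_m hs hN
  obtain ⟨q, hq, hqp, hd⟩ : ∃ q : ℕ, q.Prime ∧ q ≠ p ∧ q ∣ k := by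
    by_contra hn
    push Not at hn
    obtain ⟨q, hq, hqp, -, hN⟩ := exists_third h.ns hp hp
    obtain ⟨r, hr, hrp, hrq, hN'⟩ := exists_third h.ns hp hq
    obtain ⟨a, ha, ha1, ha2⟩ := h.all q hq hN x hx'
    obtain ⟨b, hb, hb1, hb2⟩ := h.all r hr hN' x hx'
    exact wx2 le_top hq hr hrq.symm ha ha2 ha1 hb hb2 hb1 (fun v hv _ => hc v hv)
      (fun v hv hv' e z _ => e.elim (fun e => k2 q hq (hn q hq hqp) v hv hv' e z)
        fun e => k2 r hr (hn r hr hrp) v hv hv' e z) (k3 q hq hN) (k3 r hr hN')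
  obtain ⟨r, hr, hrp, hrq, hN⟩ := exists_third h.ns hp hq
  have hr' : ¬ r ∣ k := h.c1 hp hy hpy hx hq hr hrq.symm hqp hrp hd
  obtain ⟨a, ha, ha1, ha2⟩ := h.all q hq (h.nc_k hp hy hpy hx hq hd) x hx'
  obtain ⟨b, hb, hb1, hb2⟩ := h.all r hr hN x hx'
  have ha3 := (mem_zp hq).2 ⟨ha, hc a ha, ha1⟩
  have hb3 := (mem_zp hr).2 ⟨hb, hc b hb, hb1⟩
  have k4 : ∀ v ∈ zp r (cz x), v ∉ 𝐙 → ∀ z ∈ (⊤ : Subgroup G), z * v = v * z → z ∈ cz x :=
    fun v hv hv' z _ => k2 r hr hr' v hv.1 hv' ((mem_zp hr).1 hv).2.2 z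
  have k5 : ∀ v ∈ zp q (cz x), v ∉ 𝐙 → ∀ z ∈ cz y, z * v = v * z → z ∈ cz x :=
    fun v hv hv' z hz => h.b4 hp hy hpy hx hq hqp hv.1 ((mem_zp hq).1 hv).2.2 hv' hz
  obtain ⟨ρ, h1, h2, h3⟩ := exists_norm le_top hr (fun v hv _ => hc v hv) hb3 hb2 k4 (k3 r hr hN)
  obtain ⟨g, h4, h5, h6⟩ := exists_norm hx.le hq (fun v hv _ => hc v hv) ha3 ha2 k5 (h.rel hy hx ▸ hd)
  refine wx le_top hq hr hrq.symm ha3 ha2 hb3 hb2 k4 h1 h2 h3 (fun v hv hv' z hz hz1 e => ?_) h4 h5.2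
    trivial fun v hv e => ?_
  · by_contra hz'
    have h7 := k1 v hv.1 z e hz'
    exact hz' (mem_of_pe hr h7.le (h.rel hv' h7 ▸ hr') (mem_cz.2 e) hz.2 hz1)
  · by_contra hv'
    exact h6 (k5 v hv hv' g h5.1 e)

end

end R3

theorem R2.solvable {m n : ℕ} (h : R2 G m n) {x y : G} (hx : x ∉ 𝐙) (hy : y ∉ 𝐙)
    (hm : (cz x).index = m) (hn : (cz y).index = n) : Group.IsSolvable G := by
  by_cases hF : FG G
  · exact hF.rank2 hx hy fun w hw => hm ▸ hn ▸ (h.cls w hw).symm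
  by_contra hs
  unfold FG at hF
  push Not at hF
  obtain ⟨x, y, hy, e1, e2⟩ := hF
  have e := lt_of_le_of_ne e1 e2
  obtain ⟨p, hp, u, hu, hu1, hu2⟩ := exists_pe hy
  obtain ⟨h1, h2⟩ := h.of_lt hy e
  rw [h.big_max h2 hu2 (cz_le_zp hu)] at e h2
  refine R3.false (k := (cz x).relIndex (cz u)) ⟨h, hs, ?_, fun r hr hN w hw => ?_⟩ hp hu2 hu1 e
  · rw [← h1, ← h2, relIndex_mul_index e.le]
  · refine (dvd_relIndex_iff (center_le_cz w) hr).1 ?_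
    have h3 := h.step1 hp hr hu2 hu1 e hN
    rcases h.cls w hw with e3 | e3
    · rw [zi_eq (e3.trans h2.symm)]
      exact h3.trans (Dvd.intro _ (relIndex_mul_relIndex _ _ _ (center_le_cz x) e.le))
    · rwa [zi_eq (e3.trans h1.symm)]

end Cfsg.Agent.Part
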