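import Mathlib
import Cfsg.Agent.Part.Rank2
import Cfsg.Agent.Part.Iso
import Cfsg.Agent.Part.Zass
import Cfsg.Agent.FGS.EqOrd

set_option autoImplicit false
set_option linter.unusedSectionVars false

/-! Centreless groups with three non-trivial class sizes: first reductions. -/

namespace Cfsg.Agent.Part

open Subgroup Core GW
open scoped Pointwise

variable {G : Type*} [Group G] [Finite G]

/-- `G` is `PSL₂(2ⁿ)` with `n ≥ 2`. -/
def PS (G : Type*) [Group G] : Prop := ∃ (F : Type) (_ : Field F) (_ : Fintype F),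
  (∃ n : ℕ, 2 ≤ n ∧ Fintype.card F = 2 ^ n) ∧
    Nonempty (G ≃* Matrix.ProjectiveSpecialLinearGroup (Fin 2) F)

theorem pe_of_ord {r : ℕ} {x : G} (h : orderOf x = r) : PE r x := ⟨1, by rw [h, pow_one]⟩

theorem PE.dvd {r : ℕ} {x : G} (h : PE r x) (h1 : x ≠ 1) {K : Subgroup G} (hx : x ∈ K) :
    r ∣ Nat.card K := by
  obtain ⟨k, hk⟩ := h
  refine (hk ▸ dvd_pow_self r ?_).trans (K.orderOf_dvd_natCard hx)
  rintro rfl
  exact h1 (orderOf_eq_one_iff.1 hk)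

theorem exists_pc {B : Subgroup G} {r : ℕ} (hr : r.Prime) {h : G} (hB : h ∈ B) (h1 : h ≠ 1)
    (hp : PE r h) : ∃ s ∈ B, s ∈ cz h ∧ orderOf s = r ∧ ¬ r ∣ (cz s).relIndex B := by
  have := Fact.mk hr
  obtain ⟨j, hj⟩ := (PE.coe (x := (⟨h, hB⟩ : B))).1 hp
  obtain ⟨R, hR⟩ := FGS.exists_sylow_mem hj
  obtain ⟨z, hz, hc, ho⟩ := FGS.exists_central_orderOf_eq R.isPGroup'
    fun e => h1 (by rw [← SetLike.mem_coe, ← Sylow.coe_coe, e] at hR; simpa using hR)
  refine ⟨z, z.2, mem_cz.2 (congrArg Subtype.val (hc _ hR)).symm, (orderOf_coe z).trans ho, ?_⟩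
  rw [← FGS.index_centralizer_subgroup]
  exact FGS.not_dvd_index_of_sylow_le R fun x hx => mem_cz.2 (hc x hx)

theorem exists_pc' {B : Subgroup G} {r : ℕ} (hr : r.Prime) (h : r ∣ Nat.card B) :
    ∃ s ∈ B, orderOf s = r ∧ ¬ r ∣ (cz s).relIndex B := by
  obtain ⟨v, hv, ho⟩ := FGS.exists_prime_orderOf_mem hr h
  obtain ⟨s, h1, -, h2⟩ := exists_pc hr hv (FGS.ne_one_of_orderOf_prime hr ho) (pe_of_ord ho)
  exact ⟨s, h1, h2⟩

theorem exists_conj_pe {B : Subgroup G} {r : ℕ} (hr : r.Prime) (h : ¬ r ∣ B.index) {x : G}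
    (hx : PE r x) : ∃ g : G, g * x * g⁻¹ ∈ B := by
  have := Fact.mk hr
  obtain ⟨R, hR⟩ := FGS.exists_sylow_le_of_not_dvd_index h
  obtain ⟨j, hj⟩ := hx
  obtain ⟨S, hS⟩ := FGS.exists_sylow_mem hj
  obtain ⟨g, rfl⟩ := MulAction.exists_smul_eq G S R
  exact ⟨g, hR (smul_mem_pointwise_smul x (MulAut.conj g) _ hS)⟩

theorem CC.hall {C : Subgroup G} (hC : CC C) {r : ℕ} (hr : r.Prime) (h : r ∣ Nat.card C) :
    ¬ r ∣ C.index := by
  obtain ⟨v, hv, ho⟩ := FGS.exists_prime_orderOf_mem hr h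
  have h1 := FGS.ne_one_of_orderOf_prime hr ho
  obtain ⟨s, -, h2, h3, h4⟩ := exists_pc hr (mem_top v) h1 (pe_of_ord ho)
  rwa [hC s (hC v hv h1 ▸ h2) (FGS.ne_one_of_orderOf_prime hr h3), relIndex_top_right] at h4

theorem CC.mem {C : Subgroup G} (hC : CC C) {r : ℕ} (hr : r.Prime) (h : r ∣ Nat.card C) {x : G}
    (hx : x ∈ normalizer (C : Set G)) (hp : PE r x) : x ∈ C :=
  mem_of_pe hr le_top (relIndex_top_right C ▸ hC.hall hr h) (mem_top x) hx hp

theorem CC.ps {C : Subgroup G} (hC : CC C) (hF : fittingSubgroup G = ⊥) (h : 2 ∣ Nat.card C) :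
    PS G := by
  obtain ⟨z, hz, ho⟩ := FGS.exists_prime_orderOf_mem Nat.prime_two h
  have h1 := FGS.ne_one_of_orderOf_prime Nat.prime_two ho
  have : Nontrivial G := ⟨z, 1, h1⟩
  have k : ∀ t ∈ normalizer (C : Set G), orderOf t = 2 → t ∈ C := fun t ht e =>
    hC.mem Nat.prime_two h ht (pe_of_ord e)
  have hse : IsStronglyEmbedded (normalizer (C : Set G)) := Inv.se_of
    (fun e => h1 (mem_bot.1 (hF ▸ le_fitting_of_isMulCommutative (normalizer_eq_top_iff.1 e)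
      hC.isComm hz))) (le_normalizer hz) ho fun t ht e g hg =>
    hC.ti (k t ht e) (Ben.sq_of_two e).1 (k _ hg ((ord_conj g t).trans e))
  obtain ⟨-, Q, hQ, hQM, -, hab⟩ := zass hse hF fun v t s hv _ _ hs hsM hvt hvs =>
    le_normalizer ((hC v ((hC s (k s hsM hs) (Ben.sq_of_two hs).1).le (mem_cz.2 hvs)) hv).le
      (mem_cz.2 hvt.symm))
  have : Fact (Nat.Prime 2) := ⟨Nat.prime_two⟩
  have hQC : Q ≤ C := fun x hx =>
    hC.mem Nat.prime_two h (hQM ▸ le_normalizer hx) (pe_of_mem hQ.isPGroup hx)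
  exact (hab fun x hx y hy => hC.comm (hQC hx) (hQC hy)).2

theorem FG.ps (hF : FG G) (hZ : center G = ⊥) (hs : ¬ Group.IsSolvable G) : PS G := by
  have h0 : fittingSubgroup G = ⊥ := by
    have := (map_fitting_le (QuotientGroup.mk'_surjective (center G))).trans
      (hF.solv_or.resolve_left hs).le
    rwa [le_bot_iff, Subgroup.map_eq_bot_iff, QuotientGroup.ker_mk', hZ, le_bot_iff] at this
  have : Nontrivial G := by
    by_contra e
    rw [not_nontrivial_iff_subsingleton] at e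
    exact hs inferInstance
  have : Fact (Nat.Prime 2) := ⟨Nat.prime_two⟩
  obtain ⟨z, hz⟩ := exists_prime_orderOf_dvd_card' 2 (even_card h0).two_dvd
  have hF' : ∀ x y : G, y ≠ 1 → cz x ≤ cz y → cz x = cz y := fun x y hy =>
    hF x y (by rwa [hZ, mem_bot])
  obtain ⟨z1, z2⟩ := Ben.sq_of_two hz
  have k : ∀ x ∈ cz z, cz z ≤ cz x ∨ x * x = 1 := fun x hx => by
    by_contra! e
    have e1 : x * z * (x * z) = x * x := by
      rw [mul_assoc, ← mul_assoc z, ← mem_cz.1 hx, mul_assoc x z, z2, mul_one]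
    have e2 := hF' x _ e.2 (cz_le_zp (mul_mem (mem_zpowers x) (mem_zpowers x)))
    have e3 := hF' (x * z) _ e.2 (e1 ▸ cz_le_zp (mul_mem (mem_zpowers _) (mem_zpowers _)))
    exact e.1 (hF' x z z1 fun g hg => mem_cz_of_mul hg (e3.ge (e2.le hg))).ge
  refine CC.ps (C := cz z) (fun a ha h1 => (hF' z a h1 fun b hb => ?_).symm) h0
    (hz ▸ (cz z).orderOf_dvd_natCard (self_mem_cz z))
  rcases k a ha with e1 | e1
  · exact e1 hb
  rcases k b hb with e2 | e2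
  · exact cz_symm (e2 ha)
  rcases k _ (mul_mem ha hb) with e3 | e3
  · exact cz_symm (mem_cz_of_mul (self_mem_cz a) (e3 ha))
  · rw [mem_cz, mul_eq_one_iff_eq_inv.1 e3, mul_inv_rev, ← mul_eq_one_iff_eq_inv.1 e1,
      ← mul_eq_one_iff_eq_inv.1 e2]

/-- A centreless non-solvable group with class sizes `1, l, m, n`, where `m ∣ l`. -/
structure R4 (G : Type*) [Group G] (l m n : ℕ) : Prop where
  z : center G = ⊥
  ns : ¬ Group.IsSolvable G
  cls : ∀ x : G, x ≠ 1 → (cz x).index = l ∨ (cz x).index = m ∨ (cz x).index = n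
  dvd : m ∣ l
  lt : m < l
  cop : m.Coprime n
  m1 : 1 < m
  n1 : 1 < n

namespace R4

variable {l m n : ℕ} (h : R4 G l m n) {x y y' z w v : G} {p p' : ℕ}
include h

theorem nc : x ∉ center G ↔ x ≠ 1 := by rw [h.z, mem_bot]

theorem ne_of_le (e : cz x ≤ cz y) (hy : y ≠ 1) : x ≠ 1 := h.nc.1 (nc_of_le e (h.nc.2 hy))

theorem ne_one {k : ℕ} (hk : 1 < k) (e : (cz x).index = k) : x ≠ 1 := by
  rintro rfl
  rw [FGS.index_centralizer_eq_one_iff.2 (one_mem _)] at e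
  omega

theorem nmn : ¬ m ∣ n := fun e => h.m1.ne' (h.cop.eq_one_of_dvd e)

theorem nnm : ¬ n ∣ m := fun e => h.n1.ne' (h.cop.symm.eq_one_of_dvd e)

theorem nlm : ¬ l ∣ m := fun e => (Nat.le_of_dvd (by have := h.m1; omega) e).not_gt h.lt

theorem nln : ¬ l ∣ n := fun e => h.nmn (h.dvd.trans e)

theorem l1 : 1 < l := h.m1.trans h.lt

theorem M_max (hy : (cz y).index = m) (hw : w ≠ 1) (e : cz y ≤ cz w) : cz y = cz w := by
  have := index_dvd_of_le e
  rw [hy] at this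
  rcases h.cls w hw with e1 | e1 | e1
  · exact (h.nlm (e1 ▸ this)).elim
  · exact eq_of_le_of_index e (hy.trans e1.symm).le
  · exact (h.nnm (e1 ▸ this)).elim

theorem N_max (hy : (cz y).index = n) (hw : w ≠ 1) (e : cz y ≤ cz w) : cz y = cz w := by
  have := index_dvd_of_le e
  rw [hy] at this
  rcases h.cls w hw with e1 | e1 | e1
  · exact (h.nln (e1 ▸ this)).elim
  · exact (h.nmn (e1 ▸ this)).elim
  · exact eq_of_le_of_index e (hy.trans e1.symm).le

theorem L_min (hx : (cz x).index = l) (e : cz w ≤ cz x) : cz w = cz x := by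
  have := index_dvd_of_le e
  rw [hx] at this
  rcases h.cls w (h.ne_of_le e (h.ne_one h.l1 hx)) with e1 | e1 | e1
  · exact eq_of_le_of_index e (e1.trans hx.symm).le
  · exact (h.nlm (e1 ▸ this)).elim
  · exact (h.nln (e1 ▸ this)).elim

theorem L_cent (hx : (cz x).index = l) (hw : w ∈ cz x) (hc : (orderOf x).Coprime (orderOf w)) :
    cz x ≤ cz w := by
  rw [← h.L_min hx (cz_mul hw hc ▸ inf_le_left), cz_mul hw hc]
  exact inf_le_right

theorem of_lt (hy : y ≠ 1) (e : cz x < cz y) : (cz x).index = l :=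
  (h.cls x (h.ne_of_le e.le hy)).elim id fun e1 => e1.elim (fun e1 => (e.ne (h.M_max e1 hy e.le)).elim)
    fun e1 => (e.ne (h.N_max e1 hy e.le)).elim

theorem sm_mul (hy : y ≠ 1) (hv : v ∈ cz y) (hc : (orderOf y).Coprime (orderOf v))
    (e : ¬ cz y ≤ cz v) : (cz (y * v)).index = l := h.of_lt hy (cz_mul hv hc ▸ inf_lt_left.2 e)

theorem N_of (hd : p ∣ m) (hw : w ≠ 1) (e : ¬ p ∣ (cz w).index) : (cz w).index = n :=
  ((h.cls w hw).resolve_left fun e1 => e (e1 ▸ hd.trans h.dvd)).resolve_left fun e1 => e (e1 ▸ hd)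

theorem exists_N (hp : p.Prime) (hd : p ∣ m) (hy : (cz y).index = m) :
    ∃ z : G, orderOf z = p ∧ (cz z).index = n := by
  obtain ⟨z, -, h1, h2⟩ := exists_pc' (B := (⊤ : Subgroup G)) hp
    (by rw [card_top]; exact (hy ▸ hd).trans (index_dvd_card _))
  rw [relIndex_top_right] at h2
  exact ⟨z, h1, h.N_of hd (FGS.ne_one_of_orderOf_prime hp h1) h2⟩

theorem a0 (hp : p.Prime) (hp' : p'.Prime) (hpp : p ≠ p') (hy : (cz y).index = m) (hpy : PE p y)
    (hpy' : PE p' y') (e : cz y' = cz y) {q : ℕ} (hq : q.Prime) (hqp : q ≠ p) (hqp' : q ≠ p')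
    (hql : q * l ∣ Nat.card G) {s : ℕ} (hs : s.Prime) (hsp : s ≠ p) {a g : G}
    (ha : a ∈ cz y) (hsa : PE s a) (ha' : ¬ cz y ≤ cz a) (hg : g ∈ cz y ⊓ cz a) (hpg : PE p g) :
    cz y ⊓ cz a ≤ cz g := by
  have hy1 := h.ne_one h.m1 hy
  have k : ∀ (t s : ℕ) (z a : G), t.Prime → s.Prime → t ≠ s → t ≠ p → s ≠ p → PE t z → PE s a →
      cz z = cz y → a ∈ cz y → ¬ cz y ≤ cz a → g ∈ cz a → cz y ⊓ cz a ≤ cz g :=
    fun t s z a ht hs hts htp hsp hz hsa e ha ha' hga => by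
      have hc := hz.coprime ht hs hts hsa
      have e1 := cz_mul (e ▸ ha) hc
      have h1 := h.sm_mul (h.ne_of_le e.le hy1) (e ▸ ha) hc (e ▸ ha')
      rw [← e, ← e1]
      refine h.L_cent h1 (e1 ▸ ⟨e ▸ hg.1, hga⟩) ?_
      rw [(Commute.symm (mem_cz.1 (e ▸ ha : a ∈ cz z))).orderOf_mul_eq_mul_orderOf_of_coprime hc]
      exact (hz.coprime ht hp htp hpg).mul_left (hsa.coprime hs hp hsp hpg)
  by_cases e1 : s = p'
  swap
  · exact k p' s y' a hp' hs (Ne.symm e1) hpp.symm hsp hpy' hsa e ha ha' hg.2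
  subst e1
  have hc := hpy.coprime hp hs hpp hsa
  have e1 := cz_mul ha hc
  have h1 := h.sm_mul hy1 ha hc ha'
  obtain ⟨z, hz, hz2⟩ := FGS.exists_prime_orderOf_mem (H := cz (y * a)) hq (by
    rw [← card_mul_index (cz (y * a)), h1] at hql
    exact Nat.dvd_of_mul_dvd_mul_right (by have := h.l1; omega) hql)
  have hz1 := pe_of_ord hz2
  have h3 : cz (y * a) ≤ cz z := h.L_cent h1 hz (by
    rw [(Commute.symm (mem_cz.1 ha)).orderOf_mul_eq_mul_orderOf_of_coprime hc]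
    exact (hpy.coprime hp hq hqp.symm hz1).mul_left (hsa.coprime hs hq hqp'.symm hz1))
  rw [e1] at hz h3
  by_cases e2 : cz y ≤ cz z
  · exact k q s z a hq hs hqp' hqp hsp hz1 hsa
      (h.M_max hy (FGS.ne_one_of_orderOf_prime hq hz2) e2).symm ha ha' hg.2
  · exact (le_inf inf_le_left h3).trans
      (k s q y' z hs hq hqp'.symm hsp hqp hpy' hz1 e hz.1 e2 (h3 hg))

theorem a1 (hp : p.Prime) (hp' : p'.Prime) (hpp : p ≠ p') (hy : (cz y).index = m) (hpy : PE p y)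
    (hpy' : PE p' y') (e : cz y' = cz y) {q : ℕ} (hq : q.Prime) (hqp : q ≠ p) (hqp' : q ≠ p')
    (hql : q * l ∣ Nat.card G) {g : G} (hg : g ∈ cz y) (hg' : ¬ cz y ≤ cz g) :
    (cz g).relIndex (cz y) * m = l := by
  have := Fact.mk hp
  have hy1 := h.ne_one h.m1 hy
  suffices ∃ w, cz w = cz y ⊓ cz g by
    obtain ⟨w, hw⟩ := this
    have e1 : cz w < cz y := hw ▸ inf_lt_left.2 hg'
    rw [← h.of_lt hy1 e1, ← relIndex_mul_index e1.le, hy, hw, inf_relIndex_left]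
  obtain ⟨a, b, ha, hb, rfl, hab, hpa, hb'⟩ := FGS.exists_pPart p g
  have ha := Subgroup.zpowers_le.2 hg ha
  have hb := Subgroup.zpowers_le.2 hg hb
  have hc : ∀ z : G, PE p z → (orderOf z).Coprime (orderOf b) := fun z ⟨j, hj⟩ =>
    hj ▸ hb'.symm.pow_left j
  rw [cz_mul (mem_cz.2 hab.symm.eq) (hc a hpa)]
  by_cases e1 : cz y ≤ cz b
  · refine ⟨y' * a, ?_⟩
    rw [cz_mul (e ▸ ha) (hpy'.coprime hp' hp hpp.symm hpa), e, inf_comm (cz a), ← inf_assoc,
      inf_eq_left.2 e1]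
  obtain ⟨z, hz, hz'⟩ := SetLike.not_le_iff_exists.1 e1
  obtain ⟨s, hs, c, hc1, hc2, hc3⟩ := exists_pe (x := b) (K := cz z) fun e => hz' (cz_symm e)
  have hcy := Subgroup.zpowers_le.2 hb hc1
  have h1 : ¬ cz y ≤ cz c := fun e => hc3 (cz_symm (e hz))
  have hsp : s ≠ p := by
    rintro rfl
    have h2 := (hc c hc2).eq_one_of_dvd (orderOf_dvd_of_mem_zpowers hc1)
    exact hc3 (orderOf_eq_one_iff.1 h2 ▸ one_mem _)
  have hc4 := hpy.coprime hp hs hsp.symm hc2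
  have h2 := h.sm_mul hy1 hcy hc4 h1
  have e2 : cz y ⊓ cz b = cz y ⊓ cz c := by
    rw [← cz_mul hb (hc y hpy), ← cz_mul hcy hc4]
    refine h.L_min h2 ?_
    rw [cz_mul hb (hc y hpy), cz_mul hcy hc4]
    exact inf_le_inf_left _ (cz_le_zp hc1)
  refine ⟨y * c, ?_⟩
  rw [cz_mul hcy hc4, inf_comm (cz a), ← inf_assoc, e2, eq_comm, inf_eq_left]
  exact h.a0 hp hp' hpp hy hpy hpy' e hq hqp hqp' hql hs hsp hcy hc2 h1
    ⟨ha, cz_le_zp hc1 (mem_cz.2 hab.eq)⟩ hpa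

end R4

end Cfsg.Agent.Part
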