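import Mathlib
import Cfsg.Agent.Part.R4a

set_option autoImplicit false
set_option linter.unusedSectionVars false

/-! Centreless groups with class sizes `1, l, m, n`: the case that `m` and `n` divide `l`. -/

namespace Cfsg.Agent.Part

open Subgroup Core GW
open scoped Pointwise

variable {G : Type*} [Group G] [Finite G]

theorem exists_third_rad (hs : ¬ Group.IsSolvable G) {p q : ℕ} (hp : p.Prime) (hq : q.Prime) :
    ∃ r : ℕ, r.Prime ∧ r ≠ p ∧ r ≠ q ∧ ∃ v : G, PE r v ∧ v ∉ solvableRadical G := by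
  by_contra hc
  push Not at hc
  have := FGS.solvableRadical_normal (G := G)
  have := FGS.solvableRadical_solvable (G := G)
  have : Group.IsSolvable (G ⧸ solvableRadical G) := Char.burnside_of_primes hp hq fun r hr hd => by
    by_contra h
    push Not at h
    obtain ⟨v, -, h1⟩ := (dvd_relIndex_iff (le_top (a := solvableRadical G)) hr).1
      (by rwa [relIndex_top_right])
    exact h1.2 (hc r hr h.1 h.2 v h1.1)
  exact hs (solvable_of_ker_le_range (solvableRadical G).subtype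
    (QuotientGroup.mk' (solvableRadical G)) (by simp))

theorem solv_of_le_rad {C : Subgroup G} (h : C ≤ solvableRadical G) {q j : ℕ} (hq : q.Prime)
    (e : C.index = q ^ j) : Group.IsSolvable G := by
  by_contra hs
  have := FGS.solvableRadical_normal (G := G)
  obtain ⟨r, hr, h1, -, v, h2⟩ := exists_third_rad hs hq hq
  have := (dvd_relIndex_iff (le_top (a := solvableRadical G)) hr).2 ⟨v, mem_top v, h2⟩
  rw [relIndex_top_right] at this
  exact h1 ((Nat.prime_dvd_prime_iff_eq hr hq).1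
    (hr.dvd_of_dvd_pow (e ▸ this.trans (index_dvd_of_le h))))

theorem pow_or_two {n : ℕ} (h : 1 < n) : (∃ q j : ℕ, q.Prime ∧ q ∣ n ∧ n = q ^ j) ∨
    ∃ q r : ℕ, q.Prime ∧ r.Prime ∧ q ≠ r ∧ q ∣ n ∧ r ∣ n := by
  obtain ⟨q, hq, hd⟩ := Nat.exists_prime_and_dvd h.ne'
  by_cases e : ∀ d, d.Prime → d ∣ n → d = q
  · exact Or.inl ⟨q, _, hq, hd, Nat.eq_prime_pow_of_unique_prime_dvd (by omega) fun h1 h2 => e _ h1 h2⟩
  · push Not at e
    obtain ⟨d, h1, h2, h3⟩ := e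
    exact Or.inr ⟨q, d, hq, h1, h3.symm, hd, h2⟩

theorem mem_cz_conj {a x y : G} (h : a * x * a⁻¹ ∈ cz y) : a⁻¹ * y * a⁻¹⁻¹ ∈ cz x := by
  rw [mem_cz] at h ⊢
  calc a⁻¹ * y * a⁻¹⁻¹ * x = a⁻¹ * (y * (a * x * a⁻¹)) * a := by group
    _ = _ := by rw [← h]; group

/-- The case that both smaller class sizes divide the largest. -/
structure R5 (G : Type*) [Group G] (l m n : ℕ) : Prop extends R4 G l m n where
  dvd' : n ∣ l
  exm : ∃ y : G, (cz y).index = m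

namespace R5

variable {l m n : ℕ} (h : R5 G l m n) {x y : G} {u s : ℕ}
include h

theorem exn : ∃ z : G, (cz z).index = n := by
  obtain ⟨p, hp, hd⟩ := Nat.exists_prime_and_dvd h.m1.ne'
  obtain ⟨y, hy⟩ := h.exm
  obtain ⟨z, -, hz⟩ := h.exists_N hp hd hy
  exact ⟨z, hz⟩

theorem symm : R5 G l n m :=
  ⟨⟨h.z, h.ns, fun x hx => (h.cls x hx).imp_right Or.symm, h.dvd',
    (Nat.le_of_dvd (by have := h.l1; omega) h.dvd').lt_of_ne fun e => h.nln (e ▸ dvd_rfl),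
    h.cop.symm, h.n1, h.m1⟩, h.dvd, h.exn⟩

theorem ndvd (hs : s.Prime) (hsn : s ∣ n) : ¬ s ∣ m := fun e =>
  hs.one_lt.ne' (Nat.eq_one_of_dvd_coprimes h.cop e hsn)

theorem cen (hu : u.Prime) (hy : (cz y).index = m) (hpy : PE u y) (hs : s.Prime) (hsn : s ∣ n) :
    ∃ v, PE s v ∧ cz v = cz y := by
  by_cases e : s = u
  · exact ⟨y, e ▸ hpy, rfl⟩
  obtain ⟨z, hz⟩ := h.exn
  have h1 : s ∣ Nat.card (cz y) * m := by
    rw [← hy, card_mul_index]; exact (hz ▸ hsn).trans (index_dvd_card _)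
  obtain ⟨v, hv, h2, h3⟩ := exists_pc' hs (((Nat.Prime.dvd_mul hs).1 h1).resolve_right (h.ndvd hs hsn))
  refine ⟨v, pe_of_ord h2, (h.M_max hy (FGS.ne_one_of_orderOf_prime hs h2) ?_).symm⟩
  by_contra e1
  have hc := hpy.coprime hu hs (Ne.symm e) (pe_of_ord h2)
  have h4 := h.sm_mul (h.ne_one h.m1 hy) hv hc e1
  rw [cz_mul hv hc, ← relIndex_mul_index inf_le_left, inf_relIndex_left, hy] at h4
  exact ((Nat.Prime.dvd_mul hs).1 (h4 ▸ hsn.trans h.dvd')).elim h3 (h.ndvd hs hsn)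

theorem sym (hu : u.Prime) (hy : (cz y).index = m) (hpy : PE u y) {g : G} (hg : g ∈ cz y)
    (hg' : ¬ cz y ≤ cz g) {s t : ℕ} (hs : s.Prime) (ht : t.Prime) (hst : s ≠ t) (hsn : s ∣ n)
    (htn : t ∣ n) : False := by
  obtain ⟨a, ha, ea⟩ := h.cen hu hy hpy hs hsn
  obtain ⟨b, hb, eb⟩ := h.cen hu hy hpy ht htn
  rw [← ea] at hy hg hg' eb
  have ha1 := h.ne_one h.m1 hy
  by_cases hq : ∃ q, q.Prime ∧ q ≠ s ∧ q ≠ t ∧ q * l ∣ Nat.card G
  · obtain ⟨q, hq, q1, q2, q3⟩ := hq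
    obtain ⟨k, hk⟩ := h.dvd
    have h1 : ∀ g ∈ cz a, ¬ cz a ≤ cz g → (cz g).relIndex (cz a) = k := fun g hg e => by
      have := h.a1 hs ht hst hy ha hb eb hq q1 q2 q3 hg e
      rw [hk, mul_comm] at this
      exact Nat.eq_of_mul_eq_mul_left (by have := h.m1; omega) this
    have h3 : 1 < k := by
      have := h.lt
      by_contra e
      nlinarith [h.m1]
    obtain ⟨r, hr, j, hj, -⟩ := S4134.result (G := cz a) k h3 (fun g => by
      rw [FGS.index_centralizer_subgroup]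
      by_cases e1 : cz a ≤ cz (g : G)
      · exact Or.inl (relIndex_eq_one.2 e1)
      · exact Or.inr (h1 g g.2 e1)) ⟨⟨g, hg⟩, (FGS.index_centralizer_subgroup _ _).trans (h1 g hg hg')⟩
    have h4 : n ∣ r ^ j := hj ▸ h.cop.symm.dvd_of_dvd_mul_left (hk ▸ h.dvd')
    exact hst (((Nat.prime_dvd_prime_iff_eq hs hr.out).1 (hs.dvd_of_dvd_pow (hsn.trans h4))).trans
      ((Nat.prime_dvd_prime_iff_eq ht hr.out).1 (ht.dvd_of_dvd_pow (htn.trans h4))).symm)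
  obtain ⟨x, hx⟩ : ∃ x, cz x < cz a := by
    obtain ⟨z, hz, hz'⟩ := SetLike.not_le_iff_exists.1 hg'
    obtain ⟨r, hr, c, hc1, hc2, hc3⟩ := exists_pe (x := g) (K := cz z) fun e => hz' (cz_symm e)
    have hcy := Subgroup.zpowers_le.2 hg hc1
    have h1 : ¬ cz a ≤ cz c := fun e => hc3 (cz_symm (e hz))
    by_cases e : s = r
    · exact ⟨b * c, by
        rw [cz_mul (eb ▸ hcy) (hb.coprime ht hr (e ▸ hst.symm) hc2), eb]; exact inf_lt_left.2 h1⟩
    · exact ⟨a * c, cz_mul hcy (ha.coprime hs hr e hc2) ▸ inf_lt_left.2 h1⟩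
  have hxl := h.of_lt ha1 hx
  obtain ⟨p, hp, hd⟩ := Nat.exists_prime_and_dvd h.m1.ne'
  obtain ⟨z, hz, hzn⟩ := h.exists_N hp hd hy
  have hz1 := h.ne_one h.n1 hzn
  have hps : p ≠ s := fun e => h.ndvd hs hsn (e ▸ hd)
  have hpt : p ≠ t := fun e => h.ndvd ht htn (e ▸ hd)
  have k : ∀ r, r.Prime → p ≠ r → ∀ w ∈ cz z, PE r w → w ≠ 1 → cz z = cz w := by
    intro r hr hpr w hw h1 h2
    refine h.N_max hzn h2 ?_
    by_contra e
    have hc := (pe_of_ord hz).coprime hp hr hpr h1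
    refine hq ⟨p, hp, hps, hpt, ?_⟩
    rw [← card_mul_index (cz (z * w)), h.sm_mul hz1 hw hc e]
    exact Nat.mul_dvd_mul_right ((pe_of_ord hz).dvd hz1 (cz_mul hw hc ▸ ⟨self_mem_cz z, cz_symm hw⟩)) l
  have h1 : s ∣ Nat.card (cz z) := by
    obtain ⟨j, hj⟩ := h.dvd'
    have e1 := card_mul_index (cz x)
    rw [← card_mul_index (cz z), hxl, hzn, hj, mul_comm n, ← mul_assoc] at e1
    rw [← Nat.eq_of_mul_eq_mul_right (by have := h.n1; omega) e1]
    exact (ha.dvd ha1 (cz_symm (hx.le (self_mem_cz x)))).mul_right j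
  obtain ⟨w, hw, h2⟩ := FGS.exists_prime_orderOf_mem hs h1
  obtain ⟨c, hc⟩ := exists_conj_pe hs (B := cz b) (by rw [eb, hy]; exact h.ndvd hs hsn) (pe_of_ord h2)
  have h3 := mem_cz_conj hc
  rw [← k s hs hps w hw (pe_of_ord h2) (FGS.ne_one_of_orderOf_prime hs h2)] at h3
  have h4 : (cz (c⁻¹ * b * c⁻¹⁻¹)).index = m := by rw [FGS.index_centralizer_conj, ← cz, eb, hy]
  rw [← k t ht hpt _ h3 (hb.conj _) (h.ne_one h.m1 h4), hzn] at h4
  exact h.nnm (h4 ▸ dvd_rfl)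

theorem false (hu : u.Prime) (hy : (cz y).index = m) (hpy : PE u y) (hx : cz x < cz y) : False := by
  obtain ⟨q, j, hq, hqn, hj⟩ := (pow_or_two h.n1).resolve_right fun ⟨s, t, hs, ht, hst, h1, h2⟩ =>
    h.sym hu hy hpy (hx.le (self_mem_cz x)) hx.not_ge hs ht hst h1 h2
  have hN : ∀ w : G, (cz w).index = n → w ∈ solvableRadical G := fun w e =>
    FGS.kazarin hq G w j (e.trans hj)
  rcases pow_or_two h.m1 with ⟨p, i, hp, hpm, hi⟩ | ⟨s, t, hs, ht, hst, h1, h2⟩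
  swap
  · obtain ⟨z, hz, hzn⟩ := h.exists_N hs h1 hy
    refine h.ns (solv_of_le_rad (C := cz z) (fun g hg => ?_) hq (hzn.trans hj))
    by_cases e : g = 1
    · exact e ▸ one_mem _
    refine hN g (h.N_max hzn e ?_ ▸ hzn)
    by_contra e1
    exact h.symm.sym hs hzn (pe_of_ord hz) hg e1 hs ht hst h1 h2
  obtain ⟨z, hz, hzn⟩ := h.exists_N hp hpm hy
  obtain ⟨a, ha, ea⟩ := h.cen hu hy hpy hq hqn
  rw [← ea] at hy
  obtain ⟨r, hr, hrp, hrq, g, hg, hgR⟩ := exists_third_rad h.ns hp hq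
  have hg1 : g ≠ 1 := fun e => hgR (e ▸ one_mem _)
  have hgl : (cz g).index = l := ((h.cls g hg1).resolve_right fun e => e.elim
    (fun e => hgR (FGS.kazarin hp G g i (e.trans hi))) fun e => hgR (hN g e))
  have hrm : ¬ r ∣ m := fun e => hrp ((Nat.prime_dvd_prime_iff_eq hr hp).1 (hr.dvd_of_dvd_pow (hi ▸ e)))
  have hrn : ¬ r ∣ n := fun e => hrq ((Nat.prime_dvd_prime_iff_eq hr hq).1 (hr.dvd_of_dvd_pow (hj ▸ e)))
  obtain ⟨c, hc⟩ := exists_conj_pe hr (B := cz a) (hy ▸ hrm) hg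
  obtain ⟨d, hd⟩ := exists_conj_pe hr (B := cz z) (hzn ▸ hrn) hg
  have h1 := h.L_cent hgl (mem_cz_conj hc) (hg.coprime hr hq hrq (ha.conj _)) (mem_cz_conj hd)
  have hpq : q ≠ p := fun e => h.ndvd hq hqn (e ▸ hpm)
  have h2 := cz_mul h1 ((ha.conj _).coprime hq hp hpq ((pe_of_ord hz).conj _))
  have h3 : (cz (c⁻¹ * a * c⁻¹⁻¹)).index = m := by rw [FGS.index_centralizer_conj, hy]
  have h4 : (cz (d⁻¹ * z * d⁻¹⁻¹)).index = n := by rw [FGS.index_centralizer_conj, hzn]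
  have h5 := index_inf_le (H := cz (c⁻¹ * a * c⁻¹⁻¹)) (K := cz (d⁻¹ * z * d⁻¹⁻¹))
  rw [← h2, h.of_lt (h.ne_one h.m1 h3) (h2 ▸ inf_lt_left.2 fun e =>
    h.nnm (h3 ▸ h4 ▸ index_dvd_of_le e)), h3, h4] at h5
  have h6 : l = m * n := h5.antisymm (Nat.le_of_dvd (by have := h.l1; omega)
    (h.cop.mul_dvd_of_dvd_of_dvd h.dvd h.dvd'))
  obtain ⟨w, hw⟩ := NC.dvd hr ⟨g, hg, h.nc.2 hg1⟩
  by_cases e : w = 1
  · rw [e, FGS.index_centralizer_eq_one_iff.2 (one_mem _)] at hw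
    exact hr.not_dvd_one hw
  rcases h.cls w e with e | e | e <;> rw [e] at hw
  · exact ((Nat.Prime.dvd_mul hr).1 (h6 ▸ hw)).elim hrm hrn
  · exact hrm hw
  · exact hrn hw

end R5

end Cfsg.Agent.Part
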