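import Mathlib
import Cfsg.Agent.Part.R4b

set_option autoImplicit false
set_option linter.unusedSectionVars false

/-! Centreless groups with class sizes `1, l, m, n`: the case that `n` does not divide `l`, first
part. -/

namespace Cfsg.Agent.Part

open Subgroup Core GW
open scoped Pointwise

variable {G : Type*} [Group G] [Finite G]

theorem mem_pCore_of_index {p k : ℕ} [hp : Fact p.Prime] {x : G} (hx : PE p x)
    (h : (cz x).index = p ^ k) : x ∈ pCore p G := by
  obtain ⟨j, -, hj⟩ := (Nat.dvd_prime_pow hp.out).1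
    (h ▸ FGS.index_centralizer_map_dvd (QuotientGroup.mk'_surjective (pCore p G)) x)
  have h1 := le_fitting_of_isMulCommutative inferInstance
    (FGS.comm_normalClosure_of_index_eq_pow (pCore_quotient_pCore p) hj)
  have h2 := le_pCore_of_le_fitting (hx.pg.map (QuotientGroup.mk' (pCore p G)))
    (by rw [MonoidHom.map_zpowers]; exact Subgroup.zpowers_le.2 (h1 (subset_normalClosure rfl)))
  rw [pCore_quotient_pCore, le_bot_iff, Subgroup.map_eq_bot_iff, QuotientGroup.ker_mk'] at h2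
  exact h2 (mem_zpowers x)

/-- The case that `n` does not divide `l`. -/
structure R6 (G : Type*) [Group G] (l m n : ℕ) : Prop extends R4 G l m n where
  ndvd : ¬ n ∣ l
  exm : ∃ y : G, (cz y).index = m

namespace R6

variable {l m n : ℕ} (h : R6 G l m n) {x y z w : G} {p : ℕ}
include h

theorem N_min (hz : (cz z).index = n) (e : cz w ≤ cz z) : cz w = cz z := by
  have := index_dvd_of_le e
  rw [hz] at this
  rcases h.cls w (h.ne_of_le e (h.ne_one h.n1 hz)) with e1 | e1 | e1
  · exact (h.ndvd (e1 ▸ this)).elim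
  · exact (h.nnm (e1 ▸ this)).elim
  · exact eq_of_le_of_index e (e1.trans hz.symm).le

theorem N_cent (hz : (cz z).index = n) (hw : w ∈ cz z) (hc : (orderOf z).Coprime (orderOf w)) :
    cz z ≤ cz w := by
  rw [← h.N_min hz (cz_mul hw hc ▸ inf_le_left), cz_mul hw hc]
  exact inf_le_right

theorem cc_of (hz : (cz z).index = n) (e : ∀ w ∈ cz z, cz z ≤ cz w) : CC (cz z) :=
  fun w hw h1 => (h.N_max hz h1 (e w hw)).symm

theorem dich (hp : p.Prime) (ho : orderOf z = p) (hz : (cz z).index = n) :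
    CC (cz z) ∨ IsPGroup p (cz z) := by
  have := Fact.mk hp
  refine or_iff_not_imp_right.2 fun e => ?_
  obtain ⟨r, hr, hd, hrp⟩ : ∃ r, r.Prime ∧ r ∣ Nat.card (cz z) ∧ r ≠ p := by
    by_contra! e1
    exact e (IsPGroup.of_card (Nat.eq_prime_pow_of_unique_prime_dvd Nat.card_pos.ne'
      fun h1 h2 => e1 _ h1 h2))
  obtain ⟨v, hv, h1⟩ := FGS.exists_prime_orderOf_mem hr hd
  have h2 := h.N_max hz (FGS.ne_one_of_orderOf_prime hr h1)
    (h.N_cent hz hv ((pe_of_ord ho).coprime hp hr hrp.symm (pe_of_ord h1)))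
  have hab : IsMulCommutative (cz z) := comm_of_pe fun s hs x hx h3 => le_cz_iff.1 (by
    by_cases e : s = p
    · rw [h2] at hx hz ⊢
      exact h.N_cent hz hx ((pe_of_ord h1).coprime hr hs (e ▸ hrp) h3)
    · exact h.N_cent hz hx ((pe_of_ord ho).coprime hp hs (Ne.symm e) h3))
  exact h.cc_of hz fun w hw => FGS.le_centralizer_of_comm hab hw

theorem card_N (hz : (cz z).index = n) (hw : (cz w).index = n) :
    Nat.card (cz w) = Nat.card (cz z) :=
  Nat.eq_of_mul_eq_mul_right (m := n) (by have := h.n1; omega) (by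
    conv_lhs => rw [← hw, card_mul_index]
    rw [← hz, card_mul_index])

theorem delta (hp : p.Prime) (hd : p ∣ m) (ho : orderOf z = p) (hz : (cz z).index = n)
    (hP : IsPGroup p (cz z)) : CC (cz z) := by
  have := Fact.mk hp
  refine h.cc_of hz fun u hu => ?_
  by_contra hu'
  obtain ⟨a, ha⟩ := hP.exists_card_eq
  have hG : Nat.card G = p ^ a * n := by rw [← ha, ← hz, card_mul_index]
  have hpn : n.Coprime p := (h.cop.symm.coprime_dvd_right hd)
  obtain ⟨y, hy⟩ := h.exm
  obtain ⟨i, -, hi⟩ := (Nat.dvd_prime_pow hp).1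
    (h.cop.dvd_of_dvd_mul_right (hG ▸ hy ▸ index_dvd_card (cz y)))
  have hN : ∀ w : G, (cz w).index = n → IsPGroup p (cz w) := fun w hw =>
    IsPGroup.of_card ((h.card_N hz hw).trans ha)
  have hL : ∀ x : G, PE p x → (cz x).index ≠ l := fun x hx e => by
    obtain ⟨r, hr, h1, hrp⟩ : ∃ r, r.Prime ∧ r ∣ Nat.card (cz x) ∧ r ≠ p := by
      by_contra! e1
      have e2 := Nat.eq_prime_pow_of_unique_prime_dvd (p := p) (Nat.card_pos (α := cz x)).ne'
        fun h1 h2 => e1 _ h1 h2
      have e3 : n ∣ Nat.card (cz x) * l := by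
        rw [← e, card_mul_index, hG]
        exact Dvd.intro_left _ rfl
      rw [e2] at e3
      exact h.ndvd ((hpn.pow_right _).dvd_of_dvd_mul_left e3)
    obtain ⟨v, hv, h2⟩ := FGS.exists_prime_orderOf_mem hr h1
    obtain ⟨s, -, h3, h4, h5⟩ := exists_pc hp (mem_top x) (h.ne_one h.l1 e) hx
    rw [relIndex_top_right] at h5
    have h6 := cz_symm (h.L_cent e hv (hx.coprime hp hr hrp.symm (pe_of_ord h2)) h3)
    have h7 := (pe_of_mem (hN s (h.N_of hd (FGS.ne_one_of_orderOf_prime hp h4) h5)) h6).coprime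
      hp hr hrp.symm (pe_of_ord h2)
    rw [Nat.coprime_self, h2] at h7
    exact hr.one_lt.ne' h7
  have hM : ∀ x : G, PE p x → x ∉ pCore p G → (cz x).index = n := fun x hx e =>
    ((h.cls x fun e1 => e (e1 ▸ one_mem _)).resolve_left (hL x hx)).resolve_left
      fun e1 => e (mem_pCore_of_index hx (e1.trans hi))
  have hO : pCore p G ≠ ⊥ := fun e => by
    have hab := FGS.comm_normalClosure_of_index_eq_pow e (hy.trans hi)
    have hW : (Nat.card (normalClosure ({y} : Set G))).Coprime p :=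
      ((Nat.Prime.coprime_iff_not_dvd hp).2 fun e1 => by
        obtain ⟨v, hv, h1⟩ := FGS.exists_prime_orderOf_mem hp e1
        have := le_pCore_of_le_fitting (pe_of_ord h1).pg (Subgroup.zpowers_le.2
          (le_fitting_of_isMulCommutative inferInstance hab hv)) (mem_zpowers v)
        exact FGS.ne_one_of_orderOf_prime hp h1 (mem_bot.1 (e ▸ this))).symm
    have hA : zpowers z ⊔ zpowers u ≤ cz z :=
      sup_le (Subgroup.zpowers_le.2 (self_mem_cz z)) (Subgroup.zpowers_le.2 hu)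
    have := le_of_centralizers (A := zpowers z ⊔ zpowers u) (K := normalClosure {y}) (L := ⊥)
      (PGrp.isMulCommutative_sup_zpowers inferInstance (le_cz_iff.1
        (Subgroup.zpowers_le.2 (cz_symm hu)))) (fun ⟨g, hg⟩ => by
        have k : ∀ b ∈ zpowers z ⊔ zpowers u, cz (g : G) ≤ cz b := fun b hb => by
          obtain ⟨j, hj⟩ := hg ⟨b, hb⟩
          exact cz_le_zp ⟨j, congrArg Subtype.val hj⟩
        exact hu' (h.N_min hz (k z (mem_sup_left (mem_zpowers z))) ▸
          k u (mem_sup_right (mem_zpowers u))))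
      le_normalizer_of_normal (coprime_of_isPGroup (hP.to_le hA) hW).symm fun b hb b1 v hv => by
        have h1 := hN b (hM b (pe_of_mem hP (hA hb)) (by rwa [e, mem_bot]))
        obtain ⟨j, hj⟩ := pe_of_mem h1 hv.2
        exact orderOf_eq_one_iff.1 (Nat.eq_one_of_dvd_coprimes (hW.pow_right j)
          (orderOf_dvd_natCard _ hv.1) hj.dvd)
    exact h.ne_one h.m1 hy (mem_bot.1 (this (subset_normalClosure rfl)))
  have hle : ∀ w : G, (cz w).index = n → pCore p G ≤ cz w := fun w hw =>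
    normal_le_of_coprime_index (hw ▸ (coprime_of_isPGroup (pCore_isPGroup p) hpn).symm)
  have hPO : cz z = pCore p G := by
    refine le_antisymm (fun x hx => ?_) (hle z hz)
    by_contra e
    obtain ⟨v, hv, v1, v2⟩ := exists_mem_comm_of_normalizer (pCore_isPGroup p) hO hP
      le_normalizer_of_normal
    have e1 := h.N_max hz v1 fun g hg => mem_cz.2 (v2 g hg)
    exact e (le_pCore inferInstance (hP.to_le (e1 ▸ fun g hg => mem_cz.2 (hg v hv).symm))
      (le_cz_iff.1 (hle x (hM x (pe_of_mem hP hx) e))))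
  obtain ⟨r, hr, hrn⟩ := Nat.exists_prime_and_dvd h.n1.ne'
  have hrp : r ≠ p := by
    rintro rfl
    exact hr.one_lt.ne' (hpn.symm.eq_one_of_dvd hrn)
  obtain ⟨g, -, hg⟩ := FGS.exists_prime_orderOf_mem (H := (⊤ : Subgroup G)) hr
    (by rw [card_top, hG]; exact hrn.mul_left _)
  have key : ∀ x ∈ cz z, ¬ cz z ≤ cz x → ∃ b ∈ cz z, b * x * b⁻¹ ∈ cz g := fun x hx e => by
    have hx' : (cz x).index = m := (((h.cls x fun e1 => e (e1 ▸ fun g _ => by simp [mem_cz])).resolve_left
      (hL x (pe_of_mem hP hx))).resolve_right fun e1 => e (hPO ▸ hle x e1))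
    obtain ⟨c, hc⟩ := exists_conj_pe hr (B := cz x) (hx' ▸ fun e1 =>
      hr.one_lt.ne' (Nat.eq_one_of_dvd_coprimes h.cop e1 hrn)) (pe_of_ord hg)
    obtain ⟨c, hc', b, hb, rfl⟩ := exists_mul_of_coprime_index (H := cz x) (K := cz z)
      (hx' ▸ hz ▸ h.cop) c
    refine ⟨b⁻¹, inv_mem hb, mem_cz_conj ?_⟩
    have := mul_mem (mul_mem (inv_mem hc') hc) hc'
    simpa [mul_assoc] using this
  have h1 : ((cz z ⊓ cz g) ⊔ centralizer (cz z : Set G)).subgroupOf (cz z) = ⊤ :=
    FGS.eq_top_of_forall_conj_mem _ fun x => by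
      by_cases e : cz z ≤ cz (x : G)
      · exact ⟨1, mem_sup_right (by simpa using le_cz_iff.1 e)⟩
      · obtain ⟨b, hb, h1⟩ := key x x.2 e
        exact ⟨⟨b, hb⟩, mem_sup_left ⟨(cz z).mul_mem (mul_mem hb x.2) (inv_mem hb), h1⟩⟩
  obtain ⟨b, hb, h2⟩ := key u hu hu'
  obtain ⟨q, hq, q1, q2⟩ := FGS.exists_central_orderOf_eq (hP.to_le (inf_le_left (b := cz g)))
    fun e => hu' (by
      have h3 : b * u * b⁻¹ = 1 := mem_bot.1 (e ▸ ⟨(cz z).mul_mem (mul_mem hb hu) (inv_mem hb), h2⟩)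
      rw [conj_eq_one_iff.1 h3]
      exact fun g _ => by simp [mem_cz])
  have h3 := h.N_max hz (FGS.ne_one_of_orderOf_prime hp q2) ((subgroupOf_eq_top.1 h1).trans
    (sup_le (le_cz_iff.2 q1) fun c hc => mem_cz.2 (hc q hq.1).symm))
  have h4 := (pe_of_mem hP (h3 ▸ cz_symm hq.2)).coprime hp hr hrp.symm (pe_of_ord hg)
  rw [Nat.coprime_self, hg] at h4
  exact hr.one_lt.ne' h4

end R6

end Cfsg.Agent.Part
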