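import Mathlib
import Cfsg.Agent.Part.R4c
import Cfsg.Agent.FGS.Super
import Cfsg.Agent.Inv.ZStar
import Cfsg.Agent.Transfer.FPF

set_option autoImplicit false
set_option linter.unusedSectionVars false

/-! Centreless groups with class sizes `1, l, m, n`: the case of an abelian Hall subgroup that is
the centraliser of each of its non-identity elements. -/

namespace Cfsg.Agent.Part

open Subgroup Core GW
open scoped Pointwise commutatorElement

variable {G : Type*} [Group G] [Finite G]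

local notation "𝐅" => fittingSubgroup G

theorem solv_of_cent {p : ℕ} (hp : p.Prime) (h : ∀ x : G, (orderOf x).Coprime p → x ∈ center G) :
    Group.IsSolvable G := by
  have := Fact.mk hp
  have hQ : IsPGroup p (G ⧸ center G) := fun x => by
    obtain ⟨x, rfl⟩ := QuotientGroup.mk_surjective x
    obtain ⟨a, b, -, -, rfl, hab, ⟨k, hk⟩, hb⟩ := FGS.exists_pPart p x
    refine ⟨k, (QuotientGroup.eq_one_iff _).2 ?_⟩
    beta_reduce
    rw [hab.mul_pow, ← hk, pow_orderOf_eq_one, one_mul]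
    exact pow_mem (h b hb) _
  have := hQ.isNilpotent
  exact solv_of_quot

theorem zp_normal (s : ℕ) (E : Subgroup G) [E.Normal] : (zp s E).Normal :=
  normalizer_eq_top_iff.1 (eq_top_iff.2 (le_normalizer_of_normal.trans (norm_zp s E)))

theorem zp_ne_bot {s : ℕ} (hs : s.Prime) (h : s ∣ Nat.card 𝐅) : zp s 𝐅 ≠ ⊥ := by
  have := Fact.mk hs
  obtain ⟨x, hx, h1⟩ := FGS.exists_prime_orderOf_mem hs h
  have h2 := le_pCore_of_le_fitting (pe_of_ord h1).pg (Subgroup.zpowers_le.2 hx) (mem_zpowers x)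
  obtain ⟨v, hv, v1, v2⟩ := FGS.exists_central_orderOf_eq (pCore_isPGroup (G := G) s)
    fun e => FGS.ne_one_of_orderOf_prime hs h1 (mem_bot.1 (e ▸ h2))
  refine fun e => FGS.ne_one_of_orderOf_prime hs v2 (mem_bot.1 (e ▸ (mem_zp hs).2
    ⟨pCore_le_fitting s hv, le_cz_iff.1 ((fitting_le_pCore_sup_pPrimeCore s).trans
      (sup_le (le_cz_iff.2 v1) (le_cz_iff.2 (pCore_le_centralizer_pPrimeCore s hv)))), pe_of_ord v2⟩))

/-- The case of the abelian Hall subgroup `C`. -/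
structure R7 (G : Type*) [Group G] (l m n : ℕ) (C : Subgroup G) : Prop extends R6 G l m n where
  cc : CC C
  idx : C.index = n
  card : Nat.card C = m

theorem R6.r7 {l m n : ℕ} (h : R6 G l m n) {z : G} (hz : (cz z).index = n) (hC : CC (cz z)) :
    R7 G l m n (cz z) := by
  obtain ⟨y, hy⟩ := h.exm
  refine ⟨h, hC, hz, ?_⟩
  rw [← hy, ← relIndex_eq_index_of_coprime (H := cz z) (hy ▸ hz ▸ h.cop.symm), relIndex,
    subgroupOf_eq_bot.2 (disjoint_iff.2 (eq_bot_iff.2 fun w hw => ?_)), index_bot]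
  by_contra e
  rw [hC y ((hC w hw.2 e).le (cz_symm hw.1)) (h.ne_one h.m1 hy), hz] at hy
  exact h.nmn (hy ▸ dvd_rfl)

namespace R7

variable {l m n : ℕ} {C : Subgroup G} (h : R7 G l m n C) {g t v w x y : G} {r s : ℕ}
include h

theorem cardG : Nat.card G = m * n := by rw [← h.card, ← h.idx, card_mul_index]

theorem card_M (hy : (cz y).index = m) : Nat.card (cz y) = n :=
  Nat.eq_of_mul_eq_mul_right (m := m) (by have := h.m1; omega) (by
    rw [mul_comm n, ← h.cardG, ← hy, card_mul_index])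

theorem not_N (hs : ¬ s ∣ m) (hv : PE s v) (h1 : v ≠ 1) (hw : v ∈ cz w) : (cz w).index ≠ n :=
  fun e => hs (by
    have := card_mul_index (cz w)
    rw [e, h.cardG] at this
    exact Nat.eq_of_mul_eq_mul_right (by have := h.n1; omega) this ▸ hv.dvd h1 hw)

theorem not_mem (hs : ¬ s ∣ m) (hv : PE s v) (hw : v ∈ C) : v = 1 := by
  by_contra h1
  exact hs (h.card ▸ hv.dvd h1 hw)

theorem inf_M (hy : (cz y).index = m) (h1 : x ∈ cz y) (h2 : x ∈ C) : x = 1 :=
  orderOf_eq_one_iff.1 (Nat.eq_one_of_dvd_coprimes h.cop (h.card ▸ C.orderOf_dvd_natCard h2)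
    (h.card_M hy ▸ (cz y).orderOf_dvd_natCard h1))

theorem exists_M : ∃ (u : ℕ) (y : G), u.Prime ∧ orderOf y = u ∧ (cz y).index = m := by
  obtain ⟨y, hy⟩ := h.exm
  obtain ⟨u, hu, hd⟩ := Nat.exists_prime_and_dvd (mt orderOf_eq_one_iff.1 (h.ne_one h.m1 hy))
  obtain ⟨a, ha, h1⟩ := FGS.exists_prime_orderOf_mem (H := zpowers y) hu (by rwa [Nat.card_zpowers])
  exact ⟨u, a, hu, h1, h.M_max hy (FGS.ne_one_of_orderOf_prime hu h1) (cz_le_zp ha) ▸ hy⟩

theorem gamma1 (hF : 𝐅 = ⊥) : PS G := by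
  by_cases h2 : 2 ∣ m
  · exact h.cc.ps hF (h.card ▸ h2)
  exfalso
  have two := Nat.prime_two
  have := Fact.mk two
  have hL : ∀ t : G, orderOf t = 2 → (cz t).index = l := fun t ht => by
    have t1 := (Ben.sq_of_two ht).1
    refine ((h.cls t t1).resolve_right fun e => e.elim (fun e => ?_)
      (h.not_N h2 (pe_of_ord ht) t1 (self_mem_cz t)))
    have := Fintype.ofFinite G
    have := Fintype.ofFinite C
    rcases h.cc.isolated (e.trans h.card.symm) (h.card_M e ▸ h.card ▸ h.cop) with e1 | e1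
    · refine h.nc.2 t1 (mem_center_iff.2 fun g => (Inv.zstar_commute (oddCore_eq_bot hF)
        ⟨ht, fun g hg => conj_eq_of_mem_cz (inv_mem_iff.1 (e1 g⁻¹ ?_))⟩ g).symm.eq)
      rw [inv_inv]
      exact mem_cz.2 hg.symm.eq
    · refine t1 (mem_bot.1 (hF ▸ le_fitting_of_isMulCommutative (N := normalClosure {t}) inferInstance
        (isMulCommutative_closure fun a ha b hb => ?_) (subset_normalClosure rfl)))
      obtain ⟨_, e2, ha'⟩ := Group.mem_conjugatesOfSet_iff.1 ha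
      obtain ⟨_, e3, hb'⟩ := Group.mem_conjugatesOfSet_iff.1 hb
      rw [e2] at ha'
      rw [e3] at hb'
      obtain ⟨a, rfl⟩ := isConj_iff.1 ha'
      obtain ⟨b, rfl⟩ := isConj_iff.1 hb'
      have := mem_cz.1 (e1 (a⁻¹ * b))
      calc a * t * a⁻¹ * (b * t * b⁻¹) = b * ((a⁻¹ * b)⁻¹ * t * (a⁻¹ * b) * t) * b⁻¹ := by group
        _ = _ := by rw [this]; group
  obtain ⟨u, y, hu, ho, hy⟩ := h.exists_M
  have y1 := h.ne_one h.m1 hy
  have : Nontrivial G := ⟨y, 1, y1⟩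
  have hu2 : 2 ≠ u := by
    rintro rfl
    exact h.lt.ne (hy.symm.trans (hL y ho))
  have hA : ∀ t : G, orderOf t = 2 → ∀ v, v ∈ zp u (cz t) ↔ v ∈ cz t ∧ PE u v := fun t ht v =>
    (mem_zp hu).trans ⟨fun e => ⟨e.1, e.2.2⟩, fun e => ⟨e.1, le_cz_iff.1
      (h.L_cent (hL t ht) e.1 ((pe_of_ord ht).coprime two hu hu2 e.2)), e.2⟩⟩
  have hA1 : ∀ t s : G, orderOf t = 2 → orderOf s = 2 → s ∈ cz t → zp u (cz t) ≤ zp u (cz s) :=
    fun t s ht hs e v hv => (hA s hs v).2 ⟨mem_cz.2 (((mem_zp hu).1 hv).2.1 s e).symm,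
      ((hA t ht v).1 hv).2⟩
  have hA2 : ∀ t g : G, orderOf t = 2 → ∀ v ∈ zp u (cz t), g * v * g⁻¹ ∈ zp u (cz (g * t * g⁻¹)) :=
    fun t g ht v hv => (hA _ ((ord_conj g t).trans ht) _).2 ⟨by
      rw [cz, FGS.centralizer_conj, FGS.mem_conj_iff]
      simpa [mul_assoc] using ((hA t ht v).1 hv).1, ((hA t ht v).1 hv).2.conj g⟩
  obtain ⟨t, htB, ht, h3⟩ := exists_pc' (B := cz y) two (h.card_M hy ▸
    ((Nat.Prime.dvd_mul two).1 (h.cardG ▸ (even_card hF).two_dvd)).resolve_left h2)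
  have h4 : ¬ 2 ∣ (cz t).index := fun e => by
    have := e.trans (index_dvd_of_le (inf_le_right (a := cz y)))
    rw [← relIndex_mul_index inf_le_left, inf_relIndex_left, hy] at this
    exact ((Nat.Prime.dvd_mul two).1 this).elim h3 h2
  set A := zp u (cz t)
  have hyA : y ∈ A := (hA t ht y).2 ⟨cz_symm htB, pe_of_ord ho⟩
  have hM : cz t ≤ normalizer (A : Set G) := le_normalizer.trans (norm_zp u _)
  have key : ∀ s ∈ normalizer (A : Set G), orderOf s = 2 → zp u (cz s) = A := fun s hs e => by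
    obtain ⟨g, hg⟩ := exists_conj_pe two (B := (cz t).subgroupOf (normalizer (A : Set G)))
      (fun e => h4 (e.trans (relIndex_dvd_index_of_le hM))) (x := ⟨s, hs⟩) (PE.coe.1 (pe_of_ord e))
    have hg' : (g : G) * s * (g : G)⁻¹ ∈ cz t := hg
    have e1 := (ord_conj (g : G) s).trans e
    refine le_antisymm (fun v hv => (mem_normalizer_iff.1 g.2 v).2
      (hA1 _ _ e1 ht (cz_symm hg') (hA2 s g e v hv))) fun v hv => ?_
    have := hA2 _ (g : G)⁻¹ e1 _ (hA1 _ _ ht e1 hg' ((mem_normalizer_iff.1 g.2 v).1 hv))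
    simpa [mul_assoc] using this
  have hse : IsStronglyEmbedded (normalizer (A : Set G)) := Inv.se_of
    (fun e => y1 (mem_bot.1 (hF ▸ le_fitting_of_isMulCommutative (normalizer_eq_top_iff.1 e)
      (zp_comm u _) hyA))) (hM (self_mem_cz t)) ht fun s hs e g hg =>
    mem_normalizer_fintype fun v hv => key _ hg ((ord_conj g s).trans e) ▸
      hA2 s g e v (key s hs e ▸ hv)
  obtain ⟨_, t', Q, hS⟩ := exists_setup hse (oddCore_eq_bot hF) (twoRank hF)
  have hst := Ben.stab_one (normalizer (A : Set G))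
  have := Fact.mk hu
  refine y1 (mem_bot.1 (Ben.eq_one_of_odd_normal hS (twoRank hF) (O := A)
    (hst.symm ▸ le_normalizer) (hst ▸ hS.le) ?_ ▸ hyA))
  exact Nat.coprime_two_left.1 (coprime_of_isPGroup (zp_pg u _) ((Nat.coprime_primes two hu).2 hu2))

theorem frob (hr : r.Prime) (h1 : r ∣ Nat.card 𝐅) : ¬ r ∣ m := fun h2 => by
  have := Fact.mk hr
  have := zp_normal r 𝐅
  have hV : zp r 𝐅 ≤ C := normal_le_of_coprime_index (h.idx ▸
    (coprime_of_isPGroup (zp_pg r _) (h.cop.symm.coprime_dvd_right h2)).symm)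
  obtain ⟨v, hv, v1⟩ := (zp r 𝐅).bot_or_exists_ne_one.resolve_left (zp_ne_bot hr h1)
  have : C.Normal := normalizer_eq_top_iff.1 (eq_top_iff.2 fun g _ =>
    h.cc.ti (hV hv) v1 (hV (this.conj_mem v hv g)))
  obtain ⟨y, hy⟩ := h.exm
  obtain ⟨k, hk⟩ := h.dvd
  have key : ∀ g ∈ cz y, g ≠ 1 → cz g ≤ cz y := fun g hg g1 a ha => by
    obtain ⟨b, hb, c, hc, rfl⟩ := exists_mul_of_coprime_index (H := cz y) (K := C)
      (hy ▸ h.idx ▸ h.cop) a
    have e : g⁻¹ * b⁻¹ * g * b = g⁻¹ * c * g * c⁻¹ := by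
      calc g⁻¹ * b⁻¹ * g * b = g⁻¹ * b⁻¹ * (g * (b * c)) * c⁻¹ := by group
        _ = _ := by rw [← mem_cz.1 ha]; group
    have e1 := h.inf_M hy (mul_mem (mul_mem (mul_mem (inv_mem hg) (inv_mem hb)) hg) hb)
      (e ▸ mul_mem (by simpa using this.conj_mem c hc g⁻¹) (inv_mem hc))
    by_cases c1 : c = 1
    · rwa [c1, mul_one]
    refine (g1 (h.inf_M hy hg (h.cc c hc c1 ▸ mem_cz.2 ?_))).elim
    calc g * c = g * (g⁻¹ * c * g * c⁻¹) * c := by rw [← e, e1, mul_one]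
      _ = _ := by group
  obtain ⟨p, hp, h3⟩ := PGrp.exists_prime_of_two_sizes (G := cz y) (n := k) fun g => by
    rw [FGS.index_centralizer_subgroup]
    by_cases g1 : (g : G) = 1
    · exact Or.inl (relIndex_eq_one.2 fun a _ => by simp [g1, mem_centralizer_iff])
    have e := relIndex_mul_index (key g g.2 g1)
    rw [hy] at e
    have := h.m1
    rcases h.cls g g1 with e1 | e1 | e1 <;> rw [e1] at e
    · exact Or.inr (Nat.eq_of_mul_eq_mul_right (m := m) (by omega) (by rw [e, hk, mul_comm]))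
    · exact Or.inl (Nat.eq_of_mul_eq_mul_right (m := m) (by omega) (by rw [e, one_mul]))
    · exact (h.nmn (Dvd.intro_left _ e)).elim
  have h4 := FGS.solvable_sup_of_normal (K := C) (P := cz y)
    (have := h.cc.isComm; solvable_of_isMulCommutative) (solv_of_cent hp h3)
  rw [sup_eq_top_of_coprime_index (hy ▸ h.idx ▸ h.cop.symm)] at h4
  exact h.ns (solvable_of_surjective (f := (⊤ : Subgroup G).subtype) fun g => ⟨⟨g, trivial⟩, rfl⟩)

theorem cent_zp (hr : r.Prime) (h1 : r ∣ Nat.card 𝐅) : centralizer (zp r 𝐅 : Set G) = 𝐅 := by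
  have := zp_normal r 𝐅
  refine le_antisymm (le_fitting inferInstance (Transfer.nilpotent_of_semiregular (R := C)
    le_normalizer_of_normal (fun e => h.m1.ne' (by rw [← h.card, e, card_bot]))
    fun x hx x1 => eq_bot_iff.2 fun k hk => ?_)) fun x hx v hv => (((mem_zp hr).1 hv).2.1 x hx).symm
  by_contra k1
  obtain ⟨v, hv, v1⟩ := (zp r 𝐅).bot_or_exists_ne_one.resolve_left (zp_ne_bot hr h1)
  exact v1 (h.not_mem (h.frob hr h1) ((mem_zp hr).1 hv).2.2
    (h.cc k (h.cc x hx x1 ▸ hk.2) k1 ▸ mem_cz.2 (hk.1 v hv)))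

theorem M_mem (hF : 𝐅 ≠ ⊥) (hy : (cz y).index = m) : y ∈ 𝐅 := by
  obtain ⟨r, hr, h1⟩ := Nat.exists_prime_and_dvd (mt card_eq_one.1 hF)
  have h2 : 𝐅 ≤ cz y := normal_le_of_coprime_index (hy ▸ Nat.coprime_of_dvd fun s hs h2 => h.frob hs h2)
  rw [← h.cent_zp hr h1]
  exact fun v hv => mem_cz.1 (h2 ((mem_zp hr).1 hv).1)

theorem L_of (hF : 𝐅 ≠ ⊥) (hg : g ∉ 𝐅) (hs : ¬ s ∣ m) (hv : PE s v) (h1 : v ≠ 1) (hw : v ∈ cz g) :
    (cz g).index = l :=
  (h.cls g fun e => hg (e ▸ one_mem _)).resolve_right fun e => e.elim (fun e => hg (h.M_mem hF e))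
    (h.not_N hs hv h1 hw)

theorem lemX (hs : s.Prime) (hr : r.Prime) (hsr : r ≠ s) (h1 : r ∣ Nat.card 𝐅) (hg : PE s g)
    (hx : PE r x) (hxF : x ∉ 𝐅) (e : g ∈ cz x) : g ∈ 𝐅 := by
  have := Fact.mk hr
  have := Fact.mk hs
  have := zp_normal r 𝐅
  by_contra hgF
  have hF : 𝐅 ≠ ⊥ := fun e => hr.not_dvd_one (by rwa [e, card_bot] at h1)
  have hle : ⁅zp r 𝐅, zpowers g⁆ ≤ zp r 𝐅 := commutator_le_of_le_normalizer le_normalizer_of_normal
  obtain ⟨w, hw, w1, w2⟩ := exists_mem_comm_of_normalizer ((zp_pg r 𝐅).to_le hle) (fun e =>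
    hgF (h.cent_zp hr h1 ▸ le_centralizer_iff_commutator_eq_bot.2 e (mem_zpowers g))) hx.pg
    (le_normalizer_commutator le_normalizer_of_normal (Subgroup.zpowers_le.2
      (cz_le_normalizer_zpowers g (cz_symm e))))
  have h2 := h.L_cent (h.L_of hF hxF (h.frob hr h1) hx (fun e => hxF (e ▸ one_mem _)) (self_mem_cz x))
    e (hx.coprime hr hs hsr hg) (mem_cz.2 (w2 x (mem_zpowers x)).symm)
  refine w1 (mem_bot.1 (centralizer_inf_commutator_eq_bot (zpowers g) (zp r 𝐅) (zp_comm r _)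
    le_normalizer_of_normal ?_ ▸ ⟨⟨hle hw, Transfer.centralizer_coe_zpowers g ▸ h2⟩, hw⟩))
  exact IsPGroup.coprime_card_of_ne s r hsr.symm _ _ hg.pg (zp_pg r _)

theorem odd_case (hF : 𝐅 ≠ ⊥) : 2 ∣ Nat.card 𝐅 := by
  by_contra h2
  have two := Nat.prime_two
  have := Fact.mk two
  obtain ⟨r, hr, h1⟩ := Nat.exists_prime_and_dvd (mt card_eq_one.1 hF)
  have hr2 : 2 ≠ r := fun e => h2 (e ▸ h1)
  have hn : ∀ t : G, PE 2 t → t ≠ 1 → t ∉ 𝐅 := fun t ht t1 e => h2 (ht.dvd t1 e)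
  have h3 : ¬ Suz.TwoRank G := fun ⟨a, b, a1, b1, hab, a2, b2, e⟩ => by
    have hU := Inv.isKleinFour_closure (two_of_sq a1 a2) (two_of_sq b1 b2) e hab
    have ha : a ∈ closure ({a, b} : Set G) := subset_closure (by simp)
    have := Fact.mk hr
    have := zp_normal r 𝐅
    have := le_of_centralizers (A := closure {a, b}) (K := zp r 𝐅) (L := cz a)
      (isMulCommutative_of_forall fun x hx y hy => Inv.four_commute hU hx hy)
      IsKleinFour.not_isCyclic le_normalizer_of_normal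
      (IsPGroup.coprime_card_of_ne 2 r hr2 _ _ (Inv.four_isPGroup hU) (zp_pg r _))
      fun x hx x1 v hv => by
        by_cases v1 : v = 1
        · exact v1 ▸ one_mem _
        have h4 := pe_of_ord (Inv.four_two hU hx x1)
        have h5 := ((mem_zp hr).1 hv.1).2.2
        exact cz_symm (h.L_cent (h.L_of hF (hn x h4 x1) (h.frob hr h1) h5 v1 hv.2) hv.2
          (h4.coprime two hr hr2 h5) (mem_cz.2 (Inv.four_commute hU ha hx)))
    exact hn a (pe_of_ord (two_of_sq a1 a2)) a1 (h.cent_zp hr h1 ▸ le_cz_iff.1 this)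
  obtain ⟨t, ht⟩ := exists_prime_orderOf_dvd_card' (G := G) 2 (by
    by_contra e
    exact h.ns (S0205.result (Nat.odd_iff.2 (by omega))))
  have t1 := (Ben.sq_of_two ht).1
  have h4 := FGS.solvable_sup_of_normal (K := oddCore G) (P := cz t)
    (solv_of_odd Inv.odd_card_oddCore) (solv_of_cent two fun x hx => mem_center_iff.2 fun y =>
      Subtype.ext (mem_cz.1 (?_ : (y : G) ∈ cz (x : G))))
  · rw [Ben.oddCore_sup_cent h3 ht] at h4
    exact h.ns (solvable_of_surjective (f := (⊤ : Subgroup G).subtype) fun g => ⟨⟨g, trivial⟩, rfl⟩)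
  have hc : (orderOf t).Coprime (orderOf (x : G)) := by rw [ht, orderOf_coe]; exact hx.symm
  rcases h.cls t t1 with e | e | e
  · exact h.L_cent e x.2 hc y.2
  · exact (hn t (pe_of_ord ht) t1 (h.M_mem hF e)).elim
  · exact h.N_cent e x.2 hc y.2

theorem gamma2 : 𝐅 = ⊥ := by
  by_contra hF
  have h2 := h.odd_case hF
  have two := Nat.prime_two
  have := Fact.mk two
  obtain ⟨t, -, ht, htF⟩ := (dvd_relIndex_iff (le_top (a := 𝐅)) two).1 (by
    by_contra e
    rw [relIndex_top_right] at e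
    have := fitting_solvable (G := G)
    have : Group.IsSolvable (G ⧸ 𝐅) := S0205.result (Nat.odd_iff.2 (by
      change (𝐅).index % 2 = 1; omega))
    exact h.ns (solvable_of_ker_le_range (𝐅).subtype (QuotientGroup.mk' 𝐅) (by simp)))
  have t1 : t ≠ 1 := fun e => htF (e ▸ one_mem _)
  have htl := h.L_of hF htF (h.frob two h2) ht t1 (self_mem_cz t)
  obtain ⟨s, hs, hs2, hsm, g, hg, hgF⟩ : ∃ s, s.Prime ∧ 2 ≠ s ∧ ¬ s ∣ m ∧ ∃ g : G, PE s g ∧ g ∉ 𝐅 := by
    by_contra! e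
    have h3 := Nat.eq_prime_pow_of_unique_prime_dvd (n := (𝐅 ⊔ C).index) (p := 2)
      index_ne_zero_of_finite fun {s} hs hd => by
        by_contra e1
        obtain ⟨v, -, v1, v2⟩ := (dvd_relIndex_iff (le_top (a := 𝐅)) hs).1
          (relIndex_top_right 𝐅 ▸ hd.trans (index_dvd_of_le le_sup_left))
        exact v2 (e s hs (Ne.symm e1) (fun e2 => hs.one_lt.ne' (Nat.eq_one_of_dvd_coprimes h.cop e2
          (h.idx ▸ hd.trans (index_dvd_of_le le_sup_right)))) v v1)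
    have := FGS.solvableRadical_normal (G := G)
    refine h.ns (solv_of_le_rad (sup_le (FGS.le_solvableRadical fitting_solvable) fun c hc =>
      FGS.comap_solvableRadical_le 𝐅 fitting_solvable ?_) two h3)
    have h4 : 𝐅 ⊔ C ≤ (cz (c : G ⧸ 𝐅)).comap (QuotientGroup.mk' 𝐅) := sup_le
      (fun x hx => by simp [mem_cz, (QuotientGroup.eq_one_iff x).2 hx])
      fun x hx => mem_cz.2 (congrArg (QuotientGroup.mk' 𝐅) (h.cc.comm hx hc))
    have h5 := index_dvd_of_le h4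
    rw [index_comap_of_surjective _ (QuotientGroup.mk'_surjective _), h3] at h5
    obtain ⟨j, -, hj⟩ := (Nat.dvd_prime_pow two).1 h5
    exact FGS.kazarin two _ _ j hj
  have g1 : g ≠ 1 := fun e => hgF (e ▸ one_mem _)
  have hc : ∀ x : G, (cz x).index = l → Nat.card (cz x) = Nat.card (cz t) := fun x hx =>
    Nat.eq_of_mul_eq_mul_right (m := l) (by have := h.l1; omega) (by
      conv_lhs => rw [← hx, card_mul_index]
      rw [← htl, card_mul_index])
  obtain ⟨w, hw, ho⟩ := FGS.exists_prime_orderOf_mem hs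
    (hc g (h.L_of hF hgF hsm hg g1 (self_mem_cz g)) ▸ hg.dvd g1 (self_mem_cz g))
  have hsF := (pe_of_ord ho).dvd (FGS.ne_one_of_orderOf_prime hs ho)
    (h.lemX hs two hs2 h2 (pe_of_ord ho) ht htF hw)
  refine htF (h.cent_zp hs hsF ▸ le_cz_iff.1 fun w hw => ?_)
  obtain ⟨w1, w2, w3⟩ := (mem_zp hs).1 hw
  by_cases hx : ∃ x : G, (cz x).index = l ∧ 𝐅 ≤ cz x
  · obtain ⟨x, hx, hx'⟩ := hx
    have h3 := card_dvd_of_le hx'
    rw [hc x hx, ← card_mul_relIndex (inf_le_left : cz t ⊓ 𝐅 ≤ _),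
      ← card_mul_relIndex (inf_le_right : cz t ⊓ 𝐅 ≤ _), inf_relIndex_left] at h3
    refine (mem_of_pe hs (inf_le_right : cz t ⊓ 𝐅 ≤ _) (fun e => ?_) w1
      (centralizer_le_normalizer _ fun y hy => w2 y hy.2) w3).1
    obtain ⟨v, -, v1, v2⟩ := (dvd_relIndex_iff (le_top (a := (𝐅).subgroupOf (cz t))) hs).1
      (relIndex_top_right ((𝐅).subgroupOf (cz t)) ▸
        e.trans (Nat.dvd_of_mul_dvd_mul_left Nat.card_pos h3))
    exact v2 (h.lemX hs two hs2 h2 (PE.coe.2 v1) ht htF v.2)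
  have := zp_normal 2 𝐅
  obtain ⟨v, hv, v1, v2⟩ := exists_mem_comm_of_normalizer (zp_pg 2 𝐅) (zp_ne_bot two h2) ht.pg
    le_normalizer_of_normal
  obtain ⟨v3, v4, v5⟩ := (mem_zp two).1 hv
  have h3 := cz_mul (mem_cz.2 (v4 w w1)) (v5.coprime two hs hs2 w3)
  have h4 : 𝐅 ≤ cz (v * w) := h3 ▸ le_inf (le_cz_iff.2 v4) (le_cz_iff.2 w2)
  have h5 := ((h.cls (v * w) (h.ne_of_le (h3 ▸ inf_le_left) v1)).resolve_left
    fun e => hx ⟨_, e, h4⟩).resolve_right (h.not_N (h.frob two h2) v5 v1 (h4 v3))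
  have h6 := h.M_max h5 v1 (h3 ▸ inf_le_left)
  rw [h3] at h6
  exact cz_symm (h6.ge (mem_cz.2 (v2 t (mem_zpowers t)))).2

end R7

end Cfsg.Agent.Part
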