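import Mathlib
import Cfsg.Agent.Part.R4d

set_option autoImplicit false
set_option linter.unusedSectionVars false

/-! Centreless groups with at most three non-trivial class sizes. -/

namespace Cfsg.Agent.Part

open Subgroup Core GW

variable {G : Type*} [Group G] [Finite G]

theorem rank3 (hZ : center G = ⊥) (hs : ¬ Group.IsSolvable G) {S : Set ℕ} (hS : S.Finite)
    (h3 : S.ncard ≤ 3) (hm : ∀ x : G, x ≠ 1 → (cz x).index ∈ S) : PS G := by
  by_cases hF : FG G
  · exact hF.ps hZ hs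
  unfold FG at hF
  push Not at hF
  obtain ⟨x, y0, hy0, e1, e2⟩ := hF
  obtain ⟨u, hu, y, hy1, hy2, hy3⟩ := exists_pe hy0
  have e : cz x < cz y := (lt_of_le_of_ne e1 e2).trans_le (cz_le_zp hy1)
  have nc : ∀ w : G, w ∉ center G ↔ w ≠ 1 := fun w => by rw [hZ, mem_bot]
  have one : ∀ w : G, w ≠ 1 → 1 < (cz w).index := fun w hw => by
    have := mt FGS.index_centralizer_eq_one_iff.1 ((nc w).2 hw)
    have : (cz w).index ≠ 0 := index_ne_zero_of_finite
    unfold cz at *
    omega
  have hd := index_dvd_of_le e.le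
  have hlt : (cz y).index < (cz x).index := not_le.1 fun h => e.ne (eq_of_le_of_index e.le h)
  have y1 := (nc y).1 hy3
  have pc : ∀ p, p.Prime → p ∣ (cz y).index → ∃ z : G, z ≠ 1 ∧ ¬ p ∣ (cz z).index := fun p hp h => by
    obtain ⟨z, -, h1, h2⟩ := exists_pc' (B := (⊤ : Subgroup G)) hp
      (by rw [card_top]; exact h.trans (index_dvd_card _))
    exact ⟨z, FGS.ne_one_of_orderOf_prime hp h1, relIndex_top_right (cz z) ▸ h2⟩
  obtain ⟨p, hp, hpd⟩ := Nat.exists_prime_and_dvd (one y y1).ne'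
  obtain ⟨z, z1, hz⟩ := pc p hp hpd
  have h1 : {(cz x).index, (cz y).index, (cz z).index} = S := Set.eq_of_subset_of_ncard_le
    (by
      rintro _ (rfl | rfl | rfl)
      exacts [hm x ((nc x).1 (nc_of_le e.le hy3)), hm y y1, hm z z1])
    (h3.trans (Set.ncard_eq_three.2 ⟨_, _, (cz z).index, hlt.ne', fun e => hz (e ▸ hpd.trans hd),
      fun e => hz (e ▸ hpd), rfl⟩).ge) hS
  have cls : ∀ w : G, w ≠ 1 → (cz w).index = (cz x).index ∨ (cz w).index = (cz y).index ∨
    (cz w).index = (cz z).index := fun w hw => (h1 ▸ hm w hw :)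
  have h : R4 G (cz x).index (cz y).index (cz z).index := ⟨hZ, hs, cls, hd, hlt,
    Nat.coprime_of_dvd fun s hs h1 h2 => by
      obtain ⟨w, w1, hw⟩ := pc s hs h1
      rcases cls w w1 with e | e | e <;> rw [e] at hw
      exacts [hw (h1.trans hd), hw h1, hw h2], one y y1, one z z1⟩
  by_cases hn : (cz z).index ∣ (cz x).index
  · exact (R5.false ⟨h, hn, y, rfl⟩ hu rfl hy2 e).elim
  have h6 : R6 G _ _ _ := ⟨h, hn, y, rfl⟩
  obtain ⟨w, hw, hw'⟩ := h.exists_N hp hpd rfl
  have h7 := h6.r7 hw' ((h6.dich hp hw hw').elim id (h6.delta hp hpd hw hw'))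
  exact h7.gamma1 h7.gamma2

theorem index_cz_equiv {H : Type*} [Group H] (e : G ≃* H) (x : G) :
    (cz (e x)).index = (cz x).index :=
  Nat.dvd_antisymm (FGS.index_centralizer_map_dvd (f := e.toMonoidHom) e.surjective x) (by
    simpa using FGS.index_centralizer_map_dvd (f := e.symm.toMonoidHom) e.symm.surjective (e x))

theorem range_equiv {H : Type*} [Group H] (e : G ≃* H) :
    (Set.range fun x : G => (cz x).index) = Set.range fun x : H => (cz x).index := by
  rw [← e.surjective.range_comp]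
  exact congrArg Set.range (funext fun x => (index_cz_equiv e x).symm)

theorem sizes_eq : {m : ℕ | ∃ x : G, x ∉ center G ∧ m = (cz x).index} =
    (Set.range fun x : G => (cz x).index) \ {1} := by
  ext m
  exact ⟨fun ⟨x, h, e⟩ => ⟨⟨x, e.symm⟩, fun e1 => h (FGS.index_centralizer_eq_one_iff.1 (e ▸ e1))⟩,
    fun ⟨⟨x, e⟩, h⟩ => ⟨x, fun e1 => h (e ▸ FGS.index_centralizer_eq_one_iff.2 e1), e.symm⟩⟩

theorem center_eq_bot_of_simple [IsSimpleGroup G] (h : ¬ IsMulCommutative G) : center G = ⊥ :=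
  (Normal.eq_bot_or_eq_top inferInstance).resolve_right fun e =>
    h (Char.isMulCommutative_of_center_eq_top e)

theorem not_solv_of_simple [IsSimpleGroup G] (h : ¬ IsMulCommutative G) : ¬ Group.IsSolvable G :=
  fun e => h ⟨⟨IsSimpleGroup.comm_iff_isSolvable.2 e⟩⟩

end Cfsg.Agent.Part
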