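import Mathlib
import Cfsg.Agent.Part.R4e
import Cfsg.Agent.Transfer.Focal

set_option autoImplicit false
set_option linter.unusedSectionVars false

/-! General lemmas on class sizes: isolated sizes, central quotients, transfer. -/

namespace Cfsg.Agent.Part

open Subgroup Core GW
open scoped Pointwise

variable {G : Type*} [Group G] [Finite G]

local notation "𝐙" => center G
local notation "zi" x:max => Subgroup.relIndex (center G) (cz x)

/-- The class size of `x` is not properly comparable with another non-trivial class size. -/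
def IsoS (x : G) : Prop := x ∉ 𝐙 ∧ ∀ w, w ∉ 𝐙 →
  (cz w).index ∣ (cz x).index ∨ (cz x).index ∣ (cz w).index → (cz w).index = (cz x).index

theorem IsoS.max {x w : G} (h : IsoS x) (hw : w ∉ 𝐙) (e : cz x ≤ cz w) : cz x = cz w :=
  eq_of_le_of_index e (h.2 w hw (Or.inl (index_dvd_of_le e))).ge

theorem IsoS.min {x w : G} (h : IsoS x) (e : cz w ≤ cz x) : cz w = cz x :=
  eq_of_le_of_index e (h.2 w (nc_of_le e h.1) (Or.inr (index_dvd_of_le e))).le

theorem IsoS.comm {x : G} (h : IsoS x) (h2 : TwoP x) : IsMulCommutative (cz x) := by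
  obtain ⟨p, q, hp, hq, hpq, h1, h2⟩ := h2
  obtain ⟨s, hs, u, hu, hu1, hu2⟩ := exists_pe h.1
  have e0 := h.max hu2 (cz_le_zp hu)
  have k : ∀ (s : ℕ) (u : G), s.Prime → PE s u → cz x = cz u → ∀ (t : ℕ), t.Prime → t ≠ s →
      ∀ w ∈ cz x, PE t w → cz x ≤ cz w := fun s u hs hu1 hu2 t ht hts w hw hw1 => by
    have e := cz_mul (hu2 ▸ hw) (hu1.coprime hs ht hts.symm hw1)
    rw [← h.min (w := u * w) (e ▸ hu2 ▸ inf_le_left), e]
    exact inf_le_right
  obtain ⟨t, ht, hts, h3⟩ : ∃ t : ℕ, t.Prime ∧ t ≠ s ∧ t ∣ zi x := by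
    by_cases e : p = s
    · exact ⟨q, hq, fun e' => hpq (e.trans e'.symm), h2⟩
    · exact ⟨p, hp, e, h1⟩
  obtain ⟨w, hw, hw1, hw2⟩ := (dvd_relIndex_iff (center_le_cz x) ht).1 h3
  have e := h.max hw2 (k s u hs hu1 e0 t ht hts w hw hw1)
  refine comm_of_pe fun r hr a ha ha1 b hb => mem_cz.1 ?_
  by_cases e' : r = s
  · exact k t w ht hw1 e r hr (e' ▸ hts.symm) a ha ha1 hb
  · exact k s u hs hu1 e0 r hr e' a ha ha1 hb

theorem index_cz_conj (g x : G) : (cz (g * x * g⁻¹)).index = (cz x).index :=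
  index_cz_equiv (MulAut.conj g) x

theorem IsoS.index {x y : G} (h : IsoS x) (h2 : TwoP x) {r : ℕ} (hr : r.Prime) (h1 : r ∣ zi x)
    (hy : y ∉ 𝐙) (h3 : ¬ r ∣ (cz y).index) : (cz y).index = (cz x).index := by
  obtain ⟨v, hv, hv1, hv2⟩ := (dvd_relIndex_iff (center_le_cz x) hr).1 h1
  obtain ⟨a, ha⟩ := exists_conj_pe hr h3 hv1
  have e := mem_cz_conj ha
  rw [← h.max hv2 (FGS.le_centralizer_of_comm (h.comm h2) hv)] at e
  rw [← index_cz_conj a⁻¹ y, ← h.max (fun e' => hy ?_) (FGS.le_centralizer_of_comm (h.comm h2) e)]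
  simpa [mul_assoc] using (inferInstance : (center G).Normal).conj_mem _ e' a

theorem zi_mul (x : G) : zi x * (cz x).index = (center G).index :=
  relIndex_mul_index (center_le_cz x)

theorem index_center_eq {x y z : G} (hx : IsoS x) (hy : IsoS y) (hz : z ∉ 𝐙) {q a n p s : ℕ}
    (hp : p.Prime) (hs : s.Prime) (hps : p ≠ s) (h1 : p ∣ q) (h2 : s ∣ a)
    (e1 : n = q * (cz x).index) (e2 : n = a * (cz y).index) (hn : n ∣ (center G).index)
    (h3 : ¬ p ∣ (cz x).index) (h4 : (cz x).index ≠ (cz y).index)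
    (h5 : (cz x).index ≠ (cz z).index)
    (h6 : ∀ r : ℕ, r.Prime → r ≠ p → r ∣ (cz y).index → ¬ r ∣ (cz z).index) :
    (center G).index = n := by
  obtain ⟨k, hk⟩ := hn
  have f : ∀ (w : G) (b : ℕ), n = b * (cz w).index → zi w = b * k := fun w b e =>
    Nat.eq_of_mul_eq_mul_right (Nat.pos_of_ne_zero (index_ne_zero_of_finite (H := cz w)))
      (by rw [zi_mul, hk, e]; ring)
  by_contra e
  obtain ⟨r, hr, h7⟩ := Nat.exists_prime_and_dvd (n := k) fun e' => e (by rw [hk, e', mul_one])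
  have k1 : r ∣ zi x := f x q e1 ▸ h7.mul_left q
  have k2 : r ∣ zi y := f y a e2 ▸ h7.mul_left a
  by_cases e' : r = p
  · subst e'
    exact h4 (hy.index ⟨r, s, hr, hs, hps, k2, f y a e2 ▸ h2.mul_right k⟩ hr k2 hx.1 h3)
  · have t : TwoP x := ⟨r, p, hr, hp, e', k1, f x q e1 ▸ h1.mul_right k⟩
    by_cases h8 : r ∣ (cz y).index
    · exact h5 (hx.index t hr k1 hz (h6 r hr e' h8)).symm
    · exact h4 (hx.index t hr k1 hy.1 h8).symm

/-- The preimage of the centraliser in the central quotient. -/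
abbrev cq (x : G) : Subgroup G := (cz (x : G ⧸ 𝐙)).comap (QuotientGroup.mk' 𝐙)

theorem cz_le_cq (x : G) : cz x ≤ cq x := fun y hy =>
  mem_cz.2 (congrArg (QuotientGroup.mk' 𝐙) (mem_cz.1 hy))

theorem mem_cq {x y : G} : y ∈ cq x ↔ (x * y)⁻¹ * (y * x) ∈ 𝐙 := by
  rw [← QuotientGroup.eq]
  exact mem_cz.trans eq_comm

theorem cq_mul (x : G) : (cz x).relIndex (cq x) * (cz (x : G ⧸ 𝐙)).index = (cz x).index := by
  rw [← index_comap_of_surjective _ (QuotientGroup.mk'_surjective 𝐙), relIndex_mul_index (cz_le_cq x)]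

theorem dvd_of_dvd_cq {x : G} {r : ℕ} (hr : r.Prime) (h : r ∣ (cz x).relIndex (cq x)) :
    r ∣ orderOf (x : G ⧸ 𝐙) := by
  have k : ∀ y ∈ cq x, ∃ c ∈ 𝐙, y * x * y⁻¹ = x * c := fun y hy => ⟨_, mem_cq.1 hy, by
    rw [← mul_left_inj y, mul_assoc x, ← mem_center_iff.1 (mem_cq.1 hy) y]; group⟩
  let ψ : cq x →* G := MonoidHom.mk' (fun y => x⁻¹ * (y * x * (y : G)⁻¹)) fun a b => by
    obtain ⟨c, hc, e⟩ := k b b.2
    have e1 := mem_center_iff.1 hc
    calc x⁻¹ * ((a * b : G) * x * (a * b : G)⁻¹) = x⁻¹ * (a * (b * x * (b : G)⁻¹) * (a : G)⁻¹) := by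
          group
      _ = _ := by rw [e, inv_mul_cancel_left, ← mul_assoc (a : G), mul_assoc _ c, ← e1]; group
  have e : ψ.ker = (cz x).subgroupOf (cq x) := by
    ext y
    rw [MonoidHom.mem_ker, mem_subgroupOf, mem_cz]
    exact inv_mul_eq_one.trans (eq_mul_inv_iff_mul_eq.trans eq_comm)
  rw [relIndex, ← e, index_ker] at h
  obtain ⟨_, ⟨y, rfl⟩, ho⟩ := FGS.exists_prime_orderOf_mem hr h
  obtain ⟨c, hc, e⟩ := k y y.2
  have e1 : ψ y = c := by simp [ψ, e]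
  have e2 : x ^ orderOf (x : G ⧸ 𝐙) ∈ 𝐙 :=
    (QuotientGroup.eq_one_iff _).1 (by rw [QuotientGroup.mk_pow, pow_orderOf_eq_one])
  have e3 := congrArg (· ^ orderOf (x : G ⧸ 𝐙)) e
  simp only [conj_pow] at e3
  rw [mem_center_iff.1 e2, mul_inv_cancel_right, Commute.mul_pow (mem_center_iff.1 hc x),
    left_eq_mul] at e3
  rw [← ho, e1]
  exact orderOf_dvd_of_pow_eq_one e3

theorem orderOf_dvd_zi (x : G) : orderOf (x : G ⧸ 𝐙) ∣ zi x :=
  orderOf_dvd_of_pow_eq_one (by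
    rw [← QuotientGroup.mk_pow, QuotientGroup.eq_one_iff]
    exact pow_index_mem ((center G).subgroupOf (cz x)) ⟨x, self_mem_cz x⟩)

theorem index_cz_le {N : Subgroup G} [hN : N.Normal] {x : G} (hx : x ∈ N) :
    (cz x).index ≤ Nat.card N := by
  refine Nat.card_le_card_of_injective (f := fun g : G ⧸ cz x => ⟨g.out * x * g.out⁻¹,
    hN.conj_mem x hx _⟩) fun a b e => ?_
  have e1 : a.out * x * a.out⁻¹ = b.out * x * b.out⁻¹ := congrArg Subtype.val e
  rw [← a.out_eq, ← b.out_eq]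
  refine QuotientGroup.eq.2 (mem_cz.2 ?_)
  calc _ = a.out⁻¹ * (b.out * x * b.out⁻¹) * b.out := by group
    _ = _ := by rw [← e1]; group

theorem fitting_bot_of_sizes (h : ∀ x : G, x ≠ 1 → ∀ r k : ℕ, r.Prime → r ^ k ∣ Nat.card G →
    r ^ k < (cz x).index) : fittingSubgroup G = ⊥ := by
  by_contra e
  obtain ⟨s, hs, h1⟩ := Nat.exists_prime_and_dvd (mt card_eq_one.1 e)
  have := Fact.mk hs
  have := zp_normal s (fittingSubgroup G)
  obtain ⟨v, hv, v1⟩ := (zp s (fittingSubgroup G)).bot_or_exists_ne_one.resolve_left (zp_ne_bot hs h1)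
  obtain ⟨k, hk⟩ := (zp_pg s (fittingSubgroup G)).exists_card_eq
  exact (h v v1 s k hs (hk ▸ card_subgroup_dvd_card _)).not_ge (hk ▸ index_cz_le hv)

theorem mem_of_relIndex_two {K H : Subgroup G} (h : K.relIndex H ∣ 2) {w : G} (hw : w ∈ H)
    (ho : Odd (orderOf w)) : w ∈ K := by
  rcases (Nat.dvd_prime Nat.prime_two).1 h with e | e
  · exact relIndex_eq_one.1 e hw
  · obtain ⟨k, hk⟩ := ho
    have := pow_mem (show w ^ 2 ∈ K from sq_mem_of_index_two e ⟨w, hw⟩) (k + 1)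
    rwa [← pow_mul, show 2 * (k + 1) = orderOf w + 1 by omega, pow_succ, pow_orderOf_eq_one,
      one_mul] at this

theorem exists_conj_le {B P : Subgroup G} {r : ℕ} (hr : r.Prime) (h : ¬ r ∣ B.index)
    (hP : IsPGroup r P) : ∃ g : G, ∀ x ∈ P, g * x * g⁻¹ ∈ B := by
  have := Fact.mk hr
  obtain ⟨R, hR⟩ := FGS.exists_sylow_le_of_not_dvd_index h
  obtain ⟨S, hS⟩ := hP.exists_le_sylow
  obtain ⟨g, rfl⟩ := MulAction.exists_smul_eq G S R
  exact ⟨g, fun x hx => hR (smul_mem_pointwise_smul x (MulAut.conj g) _ (hS hx))⟩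

theorem conj_mem_cz {g x y : G} (h : x ∈ cz y) : g * x * g⁻¹ ∈ cz (g * y * g⁻¹) :=
  mem_cz.2 (by
    calc _ = g * (x * y) * g⁻¹ := by group
      _ = _ := by rw [mem_cz.1 h]; group)

theorem eq_one_of_se (hF : fittingSubgroup G = ⊥) {u : ℕ} (hu : u.Prime) (hu2 : 2 ≠ u)
    (h : ∀ t : G, orderOf t = 2 → ∀ w ∈ cz t, PE u w → cz t ≤ cz w) {y : G} (hy : PE u y)
    (h2 : ¬ 2 ∣ (cz y).index) : y = 1 := by
  by_contra y1
  have two := Nat.prime_two
  have := Fact.mk two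
  have : Nontrivial G := ⟨y, 1, y1⟩
  have hA : ∀ t : G, orderOf t = 2 → ∀ v, v ∈ zp u (cz t) ↔ v ∈ cz t ∧ PE u v := fun t ht v =>
    (mem_zp hu).trans ⟨fun e => ⟨e.1, e.2.2⟩, fun e => ⟨e.1, le_cz_iff.1 (h t ht v e.1 e.2), e.2⟩⟩
  have hA1 : ∀ t s : G, orderOf t = 2 → orderOf s = 2 → s ∈ cz t → zp u (cz t) ≤ zp u (cz s) :=
    fun t s ht hs e v hv => (hA s hs v).2 ⟨mem_cz.2 (((mem_zp hu).1 hv).2.1 s e).symm,
      ((hA t ht v).1 hv).2⟩
  have hA2 : ∀ t g : G, orderOf t = 2 → ∀ v ∈ zp u (cz t), g * v * g⁻¹ ∈ zp u (cz (g * t * g⁻¹)) :=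
    fun t g ht v hv => (hA _ ((ord_conj g t).trans ht) _).2
      ⟨conj_mem_cz ((hA t ht v).1 hv).1, ((hA t ht v).1 hv).2.conj g⟩
  obtain ⟨t, htB, ht, h3⟩ := exists_pc' (B := cz y) two (((Nat.Prime.dvd_mul two).1
    (card_mul_index (cz y) ▸ (even_card hF).two_dvd)).resolve_right h2)
  have h4 : ¬ 2 ∣ (cz t).index := fun e => by
    have := e.trans (index_dvd_of_le (inf_le_right (a := cz y)))
    rw [← relIndex_mul_index inf_le_left, inf_relIndex_left] at this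
    exact ((Nat.Prime.dvd_mul two).1 this).elim h3 h2
  set A := zp u (cz t)
  have hyA : y ∈ A := (hA t ht y).2 ⟨cz_symm htB, hy⟩
  have hM : cz t ≤ normalizer (A : Set G) := le_normalizer.trans (norm_zp u _)
  have key : ∀ s ∈ normalizer (A : Set G), orderOf s = 2 → zp u (cz s) = A := fun s hs e => by
    obtain ⟨g, hg⟩ := exists_conj_pe two (B := (cz t).subgroupOf (normalizer (A : Set G)))
      (fun e => h4 (e.trans (relIndex_dvd_index_of_le hM))) (x := ⟨s, hs⟩) (PE.coe.1 (pe_of_ord e))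
    have hg' : (g : G) * s * (g : G)⁻¹ ∈ cz t := hg
    have e1 := (ord_conj (g : G) s).trans e
    refine le_antisymm (fun v hv => (mem_normalizer_iff.1 g.2 v).2
      (hA1 _ _ e1 ht (cz_symm hg') (hA2 s g e v hv))) fun v hv => ?_
    have := hA2 _ (g : G)⁻¹ e1 _ (hA1 _ _ ht e1 hg' ((mem_normalizer_iff.1 g.2 v).1 hv))
    simpa [mul_assoc] using this
  have hse : IsStronglyEmbedded (normalizer (A : Set G)) := Inv.se_of
    (fun e => y1 (mem_bot.1 (hF ▸ le_fitting_of_isMulCommutative (normalizer_eq_top_iff.1 e)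
      (zp_comm u _) hyA))) (hM (self_mem_cz t)) ht fun s hs e g hg =>
    mem_normalizer_fintype fun v hv => key _ hg ((ord_conj g s).trans e) ▸
      hA2 s g e v (key s hs e ▸ hv)
  obtain ⟨_, t', Q, hS⟩ := exists_setup hse (oddCore_eq_bot hF) (twoRank hF)
  have hst := Ben.stab_one (normalizer (A : Set G))
  have := Fact.mk hu
  refine y1 (mem_bot.1 (Ben.eq_one_of_odd_normal hS (twoRank hF) (O := A)
    (hst.symm ▸ le_normalizer) (hst ▸ hS.le) ?_ ▸ hyA))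
  exact Nat.coprime_two_left.1 (coprime_of_isPGroup (zp_pg u _) ((Nat.coprime_primes two hu).2 hu2))

theorem commutator_inf_center (h : ∀ r : ℕ, r.Prime → ∃ H : Subgroup G, 𝐙 ≤ H ∧ ¬ r ∣ H.index ∧
    ⁅H, H⁆ ⊓ 𝐙 = ⊥) : _root_.commutator G ⊓ 𝐙 = ⊥ := by
  by_contra e
  obtain ⟨r, hr, h1⟩ := Nat.exists_prime_and_dvd (mt card_eq_one.1 e)
  obtain ⟨z, ⟨h2, h3⟩, ho⟩ := FGS.exists_prime_orderOf_mem hr h1
  obtain ⟨H, h4, h5, h6⟩ := h r hr
  have h7 := Transfer.map_pow_index_eq_one (Abelianization.of : H →* Abelianization H)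
    (z := ⟨z, h4 h3⟩) h3 h2
  have h8 : Abelianization.of (⟨z, h4 h3⟩ : H) = 1 := orderOf_eq_one_iff.1 (Nat.eq_one_of_dvd_coprimes
    ((Nat.Prime.coprime_iff_not_dvd hr).2 h5) (ho ▸ (orderOf_map_dvd _ _).trans
      (orderOf_coe (⟨z, h4 h3⟩ : H)).symm.dvd) (orderOf_dvd_of_pow_eq_one h7))
  refine FGS.ne_one_of_orderOf_prime hr ho (mem_bot.1 (h6 ▸ ⟨?_, h3⟩))
  rw [← map_subtype_commutator]
  exact ⟨_, (QuotientGroup.eq_one_iff _).1 h8, rfl⟩

end Cfsg.Agent.Part
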