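import Mathlib
import Cfsg.Agent.Part.L2a
import Cfsg.Agent.Part.Main
import Cfsg.Agent.CIT.F8
import Cfsg.Agent.S2507
import Cfsg.Agent.Inv.PSL2Syl
import Cfsg.Agent.Classical.P1Ident

set_option autoImplicit false
set_option linter.unusedSectionVars false

/-! Groups with the order and the centraliser orders of `L₂(q)`, `q` odd. -/

namespace Cfsg.Agent.Part

open Subgroup Core GW
open scoped Pointwise MatrixGroups

theorem pow_dvd_or {r k m n : ℕ} (hr : r.Prime) (hc : m.Coprime n) (h : r ^ k ∣ m * n) :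
    r ^ k ∣ m ∨ r ^ k ∣ n := by
  by_cases e : r ∣ m
  · exact Or.inl (((hc.coprime_dvd_left e).pow_left k).dvd_of_dvd_mul_right h)
  · exact Or.inr (((hr.coprime_iff_not_dvd.2 e).pow_left k).dvd_of_dvd_mul_left h)

theorem cube_le {r q : ℕ} (h : r < q) : r * (r ^ 2 - 1) < q * (q ^ 2 - 1) ∨ q = 1 := by
  rcases Nat.lt_or_ge 1 q with h1 | h1
  · left
    have := Nat.pow_lt_pow_left h two_ne_zero
    have := Nat.pow_lt_pow_left h1 two_ne_zero
    exact Nat.mul_lt_mul_of_lt_of_le h (by omega) (by omega)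
  · omega

theorem cube_inj {r q : ℕ} (hr : 1 < r) (hq : 1 < q) (h : r * (r ^ 2 - 1) = q * (q ^ 2 - 1)) :
    r = q := by
  rcases lt_trichotomy r q with e | e | e
  · have := cube_le e; omega
  · exact e
  · have := cube_le e; omega

/-- The parameters attached to an odd prime power `q ≥ 7`. -/
structure Par (p q a b : ℕ) : Prop where
  pp : p.Prime
  pw : ∃ f, q = p ^ f
  sum : q = a + b
  cons : a = b + 1 ∨ b = a + 1
  odd : Odd a
  a3 : 3 ≤ a
  b4 : 4 ≤ b

namespace Par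

variable {p q a b : ℕ} (h : Par p q a b)
include h

theorem b2 : 2 ∣ b := by have := h.cons; have := Nat.odd_iff.1 h.odd; omega

theorem oq : Odd q := by have := h.cons; have := h.sum; rw [Nat.odd_iff]; omega

theorem ab : a.Coprime b := by rcases h.cons with e | e <;> simp [e]

theorem qa : q.Coprime a := by rw [h.sum]; simpa using h.ab.symm

theorem qb : q.Coprime (2 * b) := (Nat.coprime_two_right.2 h.oq).mul_right (by
  rw [h.sum]; simpa using h.ab)

theorem ab2 : a.Coprime (2 * b) := (Nat.coprime_two_right.2 h.odd).mul_right h.ab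

theorem pq : p ∣ q := by
  obtain ⟨f, e⟩ := h.pw
  refine e ▸ dvd_pow_self p ?_
  rintro rfl
  have := h.sum; have := h.a3; rw [pow_zero] at e; omega

theorem sq : q ^ 2 - 1 = 4 * a * b := by
  refine Nat.sub_eq_of_eq_add ?_
  rw [h.sum]
  rcases h.cons with e | e <;> rw [e] <;> ring

theorem dvd_cases {m n : ℕ} (hm : m = q ∨ m = 2 * b ∨ m = b ∨ m = a)
    (hn : n = q ∨ n = 2 * b ∨ n = b ∨ n = a) (e : m ∣ n) : n = m ∨ (m = b ∧ n = 2 * b) := by
  have k : ∀ {u v : ℕ}, u.Coprime v → 1 < u → m = u → n = v → n = m ∨ (m = b ∧ n = 2 * b) :=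
    fun hc h1 e1 e2 => absurd (hc.eq_one_of_dvd (e1 ▸ e2 ▸ e)) h1.ne'
  have := h.sum; have := h.a3; have := h.b4; have := h.cons
  have qb := h.qb.coprime_mul_left_right
  have := Nat.le_of_dvd (by omega) e
  rcases hm with e1 | e1 | e1 | e1 <;> rcases hn with e2 | e2 | e2 | e2
  all_goals first
    | omega
    | exact k h.qb (by omega) e1 e2
    | exact k h.qb.symm (by omega) e1 e2
    | exact k qb.symm (by omega) e1 e2
    | exact k h.ab.symm (by omega) e1 e2
    | exact k h.ab (by omega) e1 e2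
    | exact k h.ab2 (by omega) e1 e2
    | exact k h.qa.symm (by omega) e1 e2

theorem three : 3 ∣ 2 * q * a * b := by
  have := h.sum; have := h.cons
  have : 3 ∣ q ∨ 3 ∣ a ∨ 3 ∣ b := by
    rcases (by omega : b % 3 = 0 ∨ b % 3 = 1 ∨ b % 3 = 2) with e | e | e <;> omega
  rcases this with e | e | e
  · exact ((e.mul_left 2).mul_right a).mul_right b
  · exact (e.mul_left _).mul_right b
  · exact e.mul_left _

theorem two_mul : 2 * (2 * q * a * b) = q * (q ^ 2 - 1) := by rw [h.sq]; ring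

theorem q1 : 1 < q := by have := h.sum; have := h.a3; omega

theorem ne_pgl {r : ℕ} (hr : Odd r) (e : r * (r ^ 2 - 1) = 2 * q * a * b) : False := by
  obtain ⟨k, rfl⟩ := hr
  have e1 : (2 * k + 1) ^ 2 - 1 = 4 * (k * (k + 1)) := Nat.sub_eq_of_eq_add (by ring)
  have h0 : 0 < 2 * q * a * b := by have := h.q1; have := h.a3; have := h.b4; positivity
  have k0 : 0 < k := Nat.pos_of_ne_zero (by rintro rfl; omega)
  have h1 : q ≤ 2 * k + 1 := by
    have h2 : q ∣ (2 * k + 1) * (k * (k + 1)) := (Nat.Coprime.pow_right 2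
      (Nat.coprime_two_right.2 h.oq)).dvd_of_dvd_mul_left ⟨2 * a * b, by
        rw [e1] at e; linear_combination e⟩
    obtain ⟨f, rfl⟩ := h.pw
    have c : (2 * k + 1).Coprime (k * (k + 1)) := Nat.Coprime.mul_right (by simp)
      (by rw [show 2 * k + 1 = k + (k + 1) by ring]; simp)
    rcases pow_dvd_or h.pp c h2 with h3 | h3
    · exact Nat.le_of_dvd (by omega) h3
    · rcases pow_dvd_or h.pp (by simp) h3 with h4 | h4 <;> have := Nat.le_of_dvd (by omega) h4 <;> omega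
  have h2 := h.two_mul
  have := h.q1
  rcases h1.eq_or_lt with e2 | e2
  · rw [← e2] at e; omega
  · have := cube_le e2; omega

end Par

variable {G : Type*} [Group G] [Finite G]

theorem not_solv_of_fit [Nontrivial G] (hF : fittingSubgroup G = ⊥) : ¬ Group.IsSolvable G :=
  fun _ => fitting_ne_bot_of_solvable_normal (⊤ : Subgroup G) inferInstance top_ne_bot
    (by rw [hF, bot_inf_eq])

theorem center_bot_of_fit (hF : fittingSubgroup G = ⊥) : center G = ⊥ :=
  le_bot_iff.1 (hF ▸ le_fitting_of_isMulCommutative inferInstance inferInstance)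

/-- Order and class sizes of `L₂(q)`. -/
structure L5 (G : Type*) [Group G] (p q a b : ℕ) : Prop extends Par p q a b where
  card : Nat.card G = 2 * q * a * b
  cls : ∀ x : G, x ≠ 1 → (cz x).index = 2 * a * b ∨ (cz x).index = q * a ∨
    (cz x).index = 2 * q * a ∨ (cz x).index = 2 * q * b

namespace L5

variable {p q a b : ℕ} (h : L5 G p q a b) {x y v w g : G} {s : ℕ}
include h

theorem cc (hx : x ≠ 1) : Nat.card (cz x) = q ∨ Nat.card (cz x) = 2 * b ∨ Nat.card (cz x) = b ∨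
    Nat.card (cz x) = a := by
  have h0 : 0 < (cz x).index := Nat.pos_of_ne_zero index_ne_zero_of_finite
  have k : ∀ m, m * (cz x).index = 2 * q * a * b → Nat.card (cz x) = m := fun m e =>
    Nat.eq_of_mul_eq_mul_right h0 (by rw [card_mul_index, h.card, e])
  exact (h.cls x hx).imp (fun e => k _ (by rw [e]; ring)) (Or.imp (fun e => k _ (by rw [e]; ring))
    (Or.imp (fun e => k _ (by rw [e]; ring)) fun e => k _ (by rw [e]; ring)))

theorem fit : fittingSubgroup G = ⊥ := fitting_bot_of_sizes fun x hx r k hr e => by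
  have := h.sum; have := h.a3; have := h.b4; have := h.cons
  have h1 : r ^ k ≤ 2 * b + 1 := by
    rw [h.card, show 2 * q * a * b = q * (a * (2 * b)) by ring] at e
    rcases pow_dvd_or hr (h.qa.mul_right h.qb) e with e | e
    · have := Nat.le_of_dvd (by omega) e; omega
    · rcases pow_dvd_or hr h.ab2 e with e | e <;> have := Nat.le_of_dvd (by omega) e <;> omega
  rcases h.cls x hx with e | e | e | e <;> rw [e] <;> nlinarith

theorem nt : Nontrivial G := Finite.one_lt_card_iff_nontrivial.1 (by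
  have := h.q1; have := h.a3; have := h.b4
  rw [h.card]; nlinarith [Nat.mul_pos (show 0 < q by omega) (show 0 < a by omega)])

theorem ns : ¬ Group.IsSolvable G := have := h.nt; not_solv_of_fit h.fit

theorem ne_of_le (e : cz x ≤ cz y) (hy : y ≠ 1) : x ≠ 1 := by
  have := nc_of_le e (by rwa [center_bot_of_fit h.fit, mem_bot])
  rwa [center_bot_of_fit h.fit, mem_bot] at this

theorem le_cases (e : cz x ≤ cz y) (hy : y ≠ 1) :
    cz x = cz y ∨ (Nat.card (cz x) = b ∧ Nat.card (cz y) = 2 * b) :=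
  (h.dvd_cases (h.cc (h.ne_of_le e hy)) (h.cc hy) (card_dvd_of_le e)).imp_left fun e' =>
    eq_of_le_of_card_ge e e'.le

theorem idx2 (e : cz x ≤ cz y) (hy : y ≠ 1) (hw : w ∈ cz y) (ho : Odd (orderOf w)) : w ∈ cz x := by
  rcases h.le_cases e hy with e1 | ⟨e1, e2⟩
  · exact e1 ▸ hw
  · refine mem_of_relIndex_two (dvd_of_eq (Nat.eq_of_mul_eq_mul_left (show 0 < b by
      have := h.b4; omega) ?_)) hw ho
    rw [mul_comm b 2, ← e2, ← e1, ← Nat.card_congr (subgroupOfEquivOfLe e).toEquiv]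
    exact card_mul_index _

theorem odd_cent (hx : x ≠ 1) (hy : y ∈ cz x) (hc : (orderOf x).Coprime (orderOf y)) (hw : w ∈ cz x)
    (ho : Odd (orderOf w)) : w ∈ cz y :=
  ((cz_mul hy hc).le (h.idx2 ((cz_mul hy hc).le.trans inf_le_left) hx hw ho)).2

theorem ev (hs : s.Prime) (h1 : s ∣ 2 * b) (hx : x ≠ 1) (h2 : s ∣ Nat.card (cz x)) :
    Nat.card (cz x) = 2 * b ∨ Nat.card (cz x) = b := by
  rcases h.cc hx with e | e | e | e
  · exact absurd (Nat.eq_one_of_dvd_coprimes h.qb (e ▸ h2) h1) hs.ne_one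
  · exact Or.inl e
  · exact Or.inr e
  · exact absurd (Nat.eq_one_of_dvd_coprimes h.ab2 (e ▸ h2) h1) hs.ne_one

omit h in
theorem _root_.Cfsg.Agent.Part.PE.odd (hs : s.Prime) (h2 : s ≠ 2) (hx : PE s x) : Odd (orderOf x) :=
  hx.elim fun _ e => e ▸ (hs.odd_of_ne_two h2).pow

theorem claim1 (hv : v ≠ 1) (ho : Odd (orderOf v)) : Nat.card (cz v) ≠ 2 * b := fun e => by
  have two := Nat.prime_two
  obtain ⟨u, hu, y, hy, hy1, hy2⟩ := exists_pe (K := ⊥) (mt mem_bot.1 hv)
  replace hy2 : y ≠ 1 := mt mem_bot.2 hy2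
  have hyo : Odd (orderOf y) := ho.of_dvd_nat (orderOf_dvd_of_mem_zpowers hy)
  have hu2 : u ≠ 2 := by
    rintro rfl
    exact hyo.not_two_dvd_nat (Nat.card_zpowers y ▸ hy1.dvd hy2 (mem_zpowers y))
  have e1 : (cz y).index = q * a := by
    have := h.b4
    rw [← (h.le_cases (cz_le_zp hy) hy2).resolve_right fun e' => by omega]
    refine Nat.eq_of_mul_eq_mul_left (show 0 < 2 * b by omega) ?_
    rw [← e, card_mul_index, h.card, e]; ring
  have h2 : ¬ 2 ∣ (cz y).index := e1 ▸ (h.oq.mul h.odd).not_two_dvd_nat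
  refine hy2 (eq_one_of_se h.fit hu hu2.symm (fun t ht w hw hw1 c hc => ?_) hy1 h2)
  by_contra e2
  obtain ⟨s, hs, d, hd, hd1, hd2⟩ := exists_pe e2
  have t1 := (Ben.sq_of_two ht).1
  have hdt : d ∈ cz t := zpowers_le.2 hc hd
  have c1 := (pe_of_ord ht).coprime two hu hu2.symm hw1
  by_cases e3 : s = 2
  · subst e3
    obtain ⟨g, hg⟩ := exists_conj_le two h2 (zp_pg 2 (cz d ⊓ cz t))
    have k1 := mem_cz_conj (hg d ((mem_zp two).2 ⟨⟨self_mem_cz d, hdt⟩, fun z hz => mem_cz.1 hz.1, hd1⟩))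
    have k2 := mem_cz_conj (hg t ((mem_zp two).2 ⟨⟨cz_symm hdt, self_mem_cz t⟩,
      fun z hz => mem_cz.1 hz.2, pe_of_ord ht⟩))
    have k3 := (ord_conj g⁻¹ y).symm ▸ hyo
    refine hd2 (cz_symm (h.odd_cent (fun e => hy2 (orderOf_eq_one_iff.1 ?_)) (cz_symm k1)
      ((hy1.conj g⁻¹).coprime hu two hu2 hd1) (cz_symm (h.odd_cent t1 hw c1 k2 k3)) (hw1.odd hu hu2)))
    rw [← ord_conj g⁻¹, e, orderOf_one]
  · exact hd2 (h.odd_cent t1 hw c1 hdt (hd1.odd hs e3))

theorem min_odd (hv : v ≠ 1) (ho : Odd (orderOf v)) (e : cz x ≤ cz v) : cz x = cz v :=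
  (h.le_cases e hv).resolve_right fun e' => h.claim1 hv ho e'.2

theorem comm (hs : s.Prime) (h2 : s ≠ 2) (hb : s ∣ b) (hv : orderOf v = s) :
    IsMulCommutative (cz v) := by
  have v1 := FGS.ne_one_of_orderOf_prime hs hv
  have ho := (pe_of_ord hv).odd hs h2
  have k : ∀ r : ℕ, r.Prime → r ≠ s → ∀ x ∈ cz v, PE r x → cz v ≤ cz x := fun r hr hrs x hx hp => by
    have e := cz_mul hx ((pe_of_ord hv).coprime hs hr hrs.symm hp)
    rw [← h.min_odd (x := v * x) v1 ho (e ▸ inf_le_left), e]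
    exact inf_le_right
  obtain ⟨t, ht, ht2⟩ := FGS.exists_prime_orderOf_mem (H := cz v) Nat.prime_two (by
    rcases h.ev hs (hb.mul_left 2) v1 ((pe_of_ord hv).dvd v1 (self_mem_cz v)) with e | e <;> rw [e]
    exacts [dvd_mul_right 2 b, h.b2])
  have e := k 2 Nat.prime_two h2.symm t ht (pe_of_ord ht2)
  refine comm_of_pe fun r hr x hx hp y hy => mem_cz.1 ?_
  by_cases e' : r = s
  · subst e'
    by_contra e2
    obtain ⟨u, hu, d, hd, hd1, hd2⟩ := exists_pe e2
    have hdv : d ∈ cz v := zpowers_le.2 hy hd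
    by_cases e3 : u = r
    · subst e3
      exact hd2 (h.odd_cent (Ben.sq_of_two ht2).1 (e hx) ((pe_of_ord ht2).coprime Nat.prime_two hu
        h2.symm hp) (e hdv) (hd1.odd hu h2))
    · exact hd2 (cz_symm (k u hu e3 d hdv hd1 hx))
  · exact k r hr e' x hx hp hy

theorem prt (hs : s.Prime) (h2 : s ≠ 2) (hb : s ∣ b) : Nonempty (Prt G) := by
  let O : G → Set G := fun g => {v | v ∈ cz g ∧ Odd (orderOf v)}
  have k : ∀ g v : G, g ≠ 1 → orderOf v = s → g ∈ cz v → O g = O v := fun g v hg hv e => by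
    have e1 := FGS.le_centralizer_of_comm (h.comm hs h2 hb hv) e
    exact Set.ext fun w => ⟨fun hw => ⟨h.idx2 e1 hg hw.1 hw.2, hw.2⟩, fun hw => ⟨e1 hw.1, hw.2⟩⟩
  refine ⟨⟨fun g => centralizer (O g), fun g v hv => mem_cz.1 hv.1, fun {g x} hg hx e => ?_,
    fun {g} hg e => ?_, fun x g y _ hy v hv => ?_⟩⟩
  · by_cases h3 : s ∣ Nat.card (cz g)
    · obtain ⟨v, hv, ho⟩ := FGS.exists_prime_orderOf_mem hs h3
      simp only [k g v hg ho (cz_symm hv), k x v hx ho (mem_cz.2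
        (e v ⟨hv, (pe_of_ord ho).odd hs h2⟩).symm)]
    · have h4 : Odd (Nat.card (cz g)) := by
        rcases h.cc hg with e | e | e | e <;> rw [e] at h3 ⊢
        exacts [h.oq, absurd (hb.mul_left 2) h3, absurd hb h3, h.odd]
      simp only [O, (h.le_cases (fun v hv => mem_cz.2 (e v ⟨hv, h4.of_dvd_nat
        ((cz g).orderOf_dvd_natCard hv)⟩)) hx).resolve_right fun e' => h3 (e'.1 ▸ hb)]
  · obtain ⟨r, hr, hr2, h3⟩ : ∃ r : ℕ, r.Prime ∧ r ≠ 2 ∧ r ∣ Nat.card (cz g) := by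
      rcases h.cc hg with e | e | e | e <;> rw [e]
      · exact ⟨p, h.pp, fun e => h.oq.not_two_dvd_nat (e ▸ h.pq), h.pq⟩
      · exact ⟨s, hs, h2, hb.mul_left 2⟩
      · exact ⟨s, hs, h2, hb⟩
      · obtain ⟨r, hr, h3⟩ := Nat.exists_prime_and_dvd (n := a) (by have := h.a3; omega)
        exact ⟨r, hr, fun e => h.odd.not_two_dvd_nat (e ▸ h3), h3⟩
    obtain ⟨v, hv, ho⟩ := FGS.exists_prime_orderOf_mem hr h3
    refine FGS.ne_one_of_orderOf_prime hr ho (mem_bot.1 (center_bot_of_fit h.fit ▸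
      mem_center_iff.2 fun y => ?_))
    exact ((show y ∈ centralizer (O g) from e ▸ mem_top y) v ⟨hv, (pe_of_ord ho).odd hr hr2⟩).symm
  · have := hy (x⁻¹ * v * x⁻¹⁻¹) ⟨by simpa [mul_assoc] using conj_mem_cz (g := x⁻¹) hv.1,
      (ord_conj x⁻¹ v).symm ▸ hv.2⟩
    calc v * (x * y * x⁻¹) = x * (x⁻¹ * v * x⁻¹⁻¹ * y) * x⁻¹ := by group
      _ = _ := by rw [this]; group

theorem not_ps : ¬ PS G := by
  rintro ⟨F, _, _, ⟨n, hn, hF⟩, ⟨e⟩⟩
  have h4 : 2 ^ 2 ≤ 2 ^ n := Nat.pow_le_pow_right two_pos hn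
  have h2 : 2 ∣ 2 ^ n := dvd_pow_self 2 (by omega)
  obtain ⟨x, hx⟩ : Fintype.card F ^ 2 - 1 ∈ Set.range fun x : G => (cz x).index := by
    rw [range_equiv e, S2507.result (hF ▸ h2) (hF ▸ h4)]
    simp
  have h1 := (Nat.card_congr e.toEquiv).trans (CIT.F.card_psl2_even (by omega) hF)
  replace hx : (cz x).index = (2 ^ n) ^ 2 - 1 := hF ▸ hx
  generalize 2 ^ n = r at *
  obtain ⟨r, rfl⟩ := h2
  have h3 : 16 ≤ (2 * r) ^ 2 := by nlinarith
  have h5 : (2 * r) ^ 2 = 2 * (2 * r ^ 2) := by ring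
  have h6 : (2 * r) ^ 2 - 1 = q * a := by
    rcases h.cls x (by
      rintro rfl
      rw [FGS.index_centralizer_eq_one_iff.2 (one_mem _)] at hx
      omega) with e | e | e | e
    · rw [mul_assoc] at e; omega
    · exact hx ▸ e
    · rw [mul_assoc] at e; omega
    · rw [mul_assoc] at e; omega
  have := h.a3; have := h.b4
  obtain rfl : r = b := Nat.eq_of_mul_eq_mul_left (show 0 < 2 * (q * a) by have := h.q1; positivity)
    (by rw [h.card, h6] at h1; linear_combination -h1)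
  have h7 : (2 * r) ^ 2 = q * a + 1 := by omega
  rw [h.sum] at h7
  rcases h.cons with e | e <;> subst e <;> nlinarith

theorem not_sz : ¬ Lie.IsoSuzuki G := by
  rintro ⟨F, _, _, m, hm, hF, ⟨e⟩⟩
  exact CIT.F.not_three_dvd_sz hm hF (Nat.card_congr e.toEquiv ▸ h.card ▸ h.three)

theorem of_odd {F : Type} [Field F] [Fintype F] (hF : Odd (Fintype.card F)) (e : G ≃* PSL(2, F)) :
    ∃ (F : Type) (_ : Field F) (_ : Fintype F), Fintype.card F = q ∧ Nonempty (G ≃* PSL(2, F)) :=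
  ⟨F, _, _, cube_inj Fintype.one_lt_card h.q1 (by rw [← Inv.card_psl2_odd (Nat.odd_iff.1 hF),
    ← Nat.card_congr e.toEquiv, h.card, h.two_mul]), ⟨e⟩⟩

theorem psl : ∃ (F : Type) (_ : Field F) (_ : Fintype F), Fintype.card F = q ∧
    Nonempty (G ≃* PSL(2, F)) := by
  have := h.nt
  have k : ∀ r : ℕ, 0 < r → r * (r ^ 2 - 1) < 2 * Nat.card G →
      2 * Nat.card G < (r + 1) * ((r + 1) ^ 2 - 1) → False := fun r h0 h1 h2 => by
    rw [h.card, h.two_mul] at h1 h2
    rcases lt_trichotomy q (r + 1) with e | e | e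
    · rcases (Nat.lt_succ_iff.1 e).eq_or_lt with e | e
      · rw [e] at h1; omega
      · have := cube_le e; have := h.q1; omega
    · rw [e] at h2; omega
    · have := cube_le e; have := h.q1; omega
  by_cases hb : ∃ s : ℕ, s.Prime ∧ s ≠ 2 ∧ s ∣ b
  · obtain ⟨s, hs, h2, hb⟩ := hb
    obtain ⟨P⟩ := h.prt hs h2 hb
    rcases P.main with ⟨⟨e⟩⟩ | ⟨r, hr, e⟩ | ⟨H, hH⟩ | ⟨-, (e | e) | ⟨F, _, _, h5, hF, ⟨⟨e⟩⟩ | ⟨⟨e⟩⟩⟩⟩
    · have h1 := Nat.card_congr e.toEquiv
      rw [Nat.card_perm, Nat.card_fin] at h1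
      exact (k 3 (by norm_num) (by rw [h1]; decide) (by rw [h1]; decide)).elim
    · exact (h.ns (solv_of_hughes hr e)).elim
    · exact (fitting_ne_bot_of_frob hH h.fit).elim
    · exact (h.not_ps e).elim
    · exact (h.not_sz e).elim
    · exact h.of_odd hF e
    · refine (h.ne_pgl hF ?_).elim
      rw [← h.card, Nat.card_congr e.toEquiv, ← Nat.card_eq_fintype_card]
      exact Classical.P1Ident.card_PGL_two.symm
  · have := Fact.mk Nat.prime_two
    obtain ⟨j, hj⟩ : ∃ j, b = 2 ^ j := ⟨_, Nat.eq_prime_pow_of_unique_prime_dvd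
      (by have := h.b4; omega) fun {s} hs e => by_contra fun e' => hb ⟨s, hs, e', e⟩⟩
    have hC : CIT.IsCIT G := fun t ht => by
      have t1 := (Ben.sq_of_two ht).1
      rcases h.ev Nat.prime_two (dvd_mul_right 2 b) t1 ((pe_of_ord ht).dvd t1 (self_mem_cz t)) with e | e
      · exact IsPGroup.of_card (n := j + 1) (by rw [e, hj, pow_succ'])
      · exact IsPGroup.of_card (e.trans hj)
    rcases CIT.F.struct_bot (CIT.F.ord2_of_cit hC) h.ns (le_bot_iff.1 (h.fit ▸ pCore_le_fitting 2)) with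
      ⟨-, ⟨F, _, _, n, hn, hF, e⟩ | e | ⟨F, _, _, h1, h2, -, ⟨e⟩⟩ | ⟨F, _, _, h1, ⟨e⟩⟩ | e⟩ | e
    · exact (h.not_ps ⟨F, _, _, ⟨n, hn, hF⟩, e⟩).elim
    · exact (h.not_sz e).elim
    · exact h.of_odd (h1.odd_of_ne_two (by omega)) e
    · exact h.of_odd (by rw [h1]; decide) e
    · exact (k 34 (by norm_num) (by rw [e.card]; norm_num) (by rw [e.card]; norm_num)).elim
    · exact (k 11 (by norm_num) (by rw [e.card]; norm_num) (by rw [e.card]; norm_num)).elim

end L5

end Cfsg.Agent.Part
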