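import Mathlib
import Cfsg.Agent.Part.L2b
import Cfsg.Agent.S2508

set_option autoImplicit false
set_option linter.unusedSectionVars false

/-! Groups with the class sizes of `L₂(q)`. -/

namespace Cfsg.Agent.Part

open Subgroup Core GW
open scoped Pointwise MatrixGroups

variable {G : Type*} [Group G] [Finite G]

local notation "𝐙" => center G
local notation "zi" x:max => Subgroup.relIndex (center G) (cz x)
local notation "jj" x:max => Subgroup.relIndex (cz x) (cq x)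

theorem exists_of_mem_comm {C A : Subgroup G} (hA : ∀ a ∈ A, ∀ b ∈ A, a * b = b * a) {y : G}
    (hy : ∀ a ∈ A, y * a * y⁻¹ ∈ A) (hC : ∀ g ∈ C, g ∈ A ∨ g * y⁻¹ ∈ A) {w : G} (hw : w ∈ ⁅C, C⁆) :
    ∃ a ∈ A, w = y * a * y⁻¹ * a⁻¹ := by
  let K : Subgroup G :=
    { carrier := {w | ∃ a ∈ A, w = y * a * y⁻¹ * a⁻¹}
      one_mem' := ⟨1, one_mem _, by group⟩
      inv_mem' := by
        rintro _ ⟨a, ha, rfl⟩
        exact ⟨a⁻¹, inv_mem ha, by rw [inv_inv, hA _ (hy _ (inv_mem ha)) a ha]; group⟩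
      mul_mem' := by
        rintro _ _ ⟨a, ha, rfl⟩ ⟨b, hb, rfl⟩
        refine ⟨a * b, mul_mem ha hb, ?_⟩
        rw [mul_assoc _ a⁻¹, hA _ (inv_mem ha) _ (mul_mem (hy b hb) (inv_mem hb))]
        group }
  refine (commutator_le (H₃ := K)).2 (fun g hg h hh => ?_) hw
  rw [commutatorElement_def]
  rcases hC g hg with h1 | h1 <;> rcases hC h hh with h2 | h2
  · exact ⟨1, one_mem _, by rw [hA g h1 h h2]; group⟩
  · refine ⟨g⁻¹, inv_mem h1, ?_⟩
    calc _ = g * (h * y⁻¹ * (y * g⁻¹ * y⁻¹)) * (h * y⁻¹)⁻¹ := by group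
      _ = _ := by rw [hA _ h2 _ (hy _ (inv_mem h1)), inv_inv, hA _ (hy _ (inv_mem h1)) g h1]; group
  · refine ⟨h, h2, ?_⟩
    calc _ = g * y⁻¹ * (y * h * y⁻¹) * (g * y⁻¹)⁻¹ * h⁻¹ := by group
      _ = _ := by rw [hA _ h1 _ (hy _ h2)]; group
  · have h3 := mul_mem h2 (inv_mem h1)
    refine ⟨_, h3, ?_⟩
    calc _ = g * y⁻¹ * (y * (h * y⁻¹ * (g * y⁻¹)⁻¹) * y⁻¹) * (h * y⁻¹)⁻¹ := by group
      _ = _ := by rw [hA _ h1 _ (hy _ h3)]; group

theorem comm_inf_center {F : Type*} [Field F] [Finite F] {p : ℕ} [Fact p.Prime] [CharP F p]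
    (φ : G →* PGL(2, F)) (hφ : φ.ker = 𝐙) (hU : ∀ x : G, φ x ^ p = 1 → cq x ≤ cz x) {x : G}
    (hx : x ∉ 𝐙) : ⁅cz x, cz x⁆ ⊓ 𝐙 = ⊥ := by
  have h1 : φ x ≠ 1 := by rwa [← hφ] at hx
  have k : ∀ a ∈ cz x, φ a * φ x = φ x * φ a := fun a ha => by
    rw [← map_mul, mem_cz.1 ha, map_mul]
  have k2 : (∀ a ∈ cz x, ∀ b ∈ cz x, a * b = b * a) → ⁅cz x, cz x⁆ ⊓ 𝐙 = ⊥ := fun e => by
    rw [commutator_eq_bot_iff_le_centralizer.2 fun a ha b hb => e b hb a ha, bot_inf_eq]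
  by_cases hp : φ x ^ p = 1
  · obtain ⟨c, hc⟩ := Max.L2.exists_UU hp
    have k3 : ∀ a ∈ cz x, φ a ∈ Max.L2.UU c := fun a ha =>
      Max.L2.centralizer_UU hc h1 ▸ mem_centralizer_singleton_iff.2 (k a ha)
    refine k2 fun a ha b hb => mem_cz.1 (hU b (Max.L2.mem_UU_iff.1 (k3 b hb)).2 (mem_cq.2 ?_))
    rw [← hφ, MonoidHom.mem_ker, map_mul, map_inv, map_mul, map_mul,
      Max.L2.UU_comm (k3 a ha) (k3 b hb), inv_mul_cancel]
  obtain ⟨T, D, n, hT, hxT⟩ := Max.L2.exists_tor hp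
  have := hT.cyc
  have hA : ∀ a ∈ T.comap φ, ∀ b ∈ T.comap φ, a * b = b * a := fun a ha b hb =>
    congrArg Subtype.val (commutative_of_cyclic_center_quotient (φ.subgroupComap T)
      (fun z hz => mem_center_iff.2 fun g => Subtype.ext (mem_center_iff.1 (hφ.le
        (congrArg Subtype.val hz)) g)) ⟨a, ha⟩ ⟨b, hb⟩)
  have hD : ∀ a ∈ cz x, φ a ∈ D := fun a ha => hT.mem_D_of_comm hxT h1 (k a ha)
  by_cases e : cz x ≤ T.comap φ
  · exact k2 fun a ha b hb => hA a (e ha) b (e hb)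
  obtain ⟨y, hy, hy'⟩ := SetLike.not_le_iff_exists.1 e
  refine eq_bot_iff.2 fun w hw => ?_
  obtain ⟨a, ha, rfl⟩ := exists_of_mem_comm hA (y := y) (fun a ha => by
    simpa using hT.conj_mem (hD y hy) ha) (fun g hg => or_iff_not_imp_left.2 fun hg' => by
      simpa using hT.mul _ (hD g hg) hg' _ (inv_mem (hD y hy)) (mt inv_mem_iff.1 hy')) hw.1
  have k4 : ∀ b : G, φ b ∈ T → φ y * φ b * (φ y)⁻¹ = φ b → φ b ^ 2 = 1 := fun b hb e => by
    rw [sq, ← eq_inv_iff_mul_eq_one, ← hT.inv (hD y hy) hy' hb, e]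
  have := Fact.mk Nat.prime_two
  obtain ⟨i, hi⟩ := Max.L2.mem_zpowers_of_cyclic hxT ha (by
    rw [orderOf_eq_prime (k4 x hxT (by rw [k y hy, mul_inv_cancel_right])) h1]
    refine orderOf_dvd_of_pow_eq_one (k4 a ha (mul_inv_eq_one.1 ?_))
    simpa using hφ.ge hw.2)
  have h2 : (x ^ i)⁻¹ * a ∈ 𝐙 := hφ.le (by simp [← hi])
  have h3 : a ∈ cz y := by
    simpa using mul_mem (zpow_mem (cz_symm hy) i) (center_le_cz y h2)
  rw [mem_bot, ← mem_cz.1 h3]
  group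

theorem direct {F : Type*} [Field F] [Finite F] (h4 : 4 ≤ Nat.card F) {p : ℕ} [Fact p.Prime]
    [CharP F p] (e : (G ⧸ 𝐙) ≃* PSL(2, F)) (hZ : center (G ⧸ 𝐙) = ⊥)
    (hU : ∀ x : G, (x : G ⧸ 𝐙) ^ p = 1 → cq x ≤ cz x)
    (h : ∀ r : ℕ, r.Prime → ∃ x, x ∉ 𝐙 ∧ ¬ r ∣ (cz x).index) :
    ∃ N A : Subgroup G, N.Normal ∧ A ≤ 𝐙 ∧ N ⊓ A = ⊥ ∧ N ⊔ A = ⊤ ∧ Nonempty (N ≃* PSL(2, F)) := by
  have hi : Function.Injective (Classical.PSL2Basic.toP.comp e.toMonoidHom) :=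
    Classical.PSL2Basic.toP_injective.comp e.injective
  have h1 : _root_.commutator G ⊓ 𝐙 = ⊥ := commutator_inf_center fun r hr => by
    obtain ⟨x, hx, h2⟩ := h r hr
    exact ⟨cz x, center_le_cz x, h2, comm_inf_center (p := p)
      ((Classical.PSL2Basic.toP.comp e.toMonoidHom).comp (QuotientGroup.mk' 𝐙))
      (by rw [← MonoidHom.comap_ker, (MonoidHom.ker_eq_bot_iff _).2 hi, MonoidHom.comap_bot,
        QuotientGroup.ker_mk']) (fun y hy => hU y (hi (by rw [map_pow, map_one]; exact hy))) hx⟩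
  have := Matrix.ProjectiveSpecialLinearGroup.rank_two_simple h4
  have := e.isSimpleGroup
  have h2 : (_root_.commutator G).map (QuotientGroup.mk' 𝐙) = ⊤ := by
    rw [_root_.commutator_def, map_commutator, map_top_of_surjective _ (QuotientGroup.mk'_surjective _)]
    refine (Normal.eq_bot_or_eq_top inferInstance).resolve_left fun e => ?_
    exact bot_ne_top (hZ.symm.trans ((commutator_eq_bot_iff_center_eq_top _).1 e))
  refine ⟨_, _, inferInstance, le_rfl, h1, ?_, ⟨(MulEquiv.ofBijective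
    ((QuotientGroup.mk' 𝐙).comp (_root_.commutator G).subtype) ⟨?_, fun y => ?_⟩).trans e⟩⟩
  · have := congrArg (comap (QuotientGroup.mk' 𝐙)) h2
    rwa [comap_map_eq, QuotientGroup.ker_mk', comap_top] at this
  · exact (injective_iff_map_eq_one _).2 fun a ha => Subtype.ext
      (mem_bot.1 (h1 ▸ ⟨a.2, (QuotientGroup.eq_one_iff _).1 ha⟩))
  · obtain ⟨a, ha, rfl⟩ := h2.ge (mem_top y)
    exact ⟨⟨a, ha⟩, rfl⟩

theorem jj_cop {x : G} {m : ℕ} (h : (zi x).Coprime m) : (jj x).Coprime m :=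
  Nat.coprime_of_dvd fun _ hr h1 h2 => hr.ne_one (Nat.eq_one_of_dvd_coprimes h
    ((dvd_of_dvd_cq hr h1).trans (orderOf_dvd_zi x)) h2)

theorem jj_one {x : G} (h : (zi x).Coprime (cz x).index) : jj x = 1 :=
  (jj_cop h).eq_one_of_dvd (Dvd.intro _ (cq_mul x))

theorem nc_of_index {x : G} {m : ℕ} (e : (cz x).index = m) (hm : m ≠ 1) : x ∉ 𝐙 :=
  fun h => hm (e.symm.trans (FGS.index_centralizer_eq_one_iff.2 h))

theorem zi_eq_of {x : G} {m : ℕ} (e : m * (cz x).index = (center G).index) : zi x = m :=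
  Nat.eq_of_mul_eq_mul_right (Nat.pos_of_ne_zero (index_ne_zero_of_finite (H := cz x)))
    (by rw [zi_mul, e])

theorem dvd_of_cof {m n m' n' : ℕ} (h0 : 0 < m) (e : m * m' = n * n') (h : m ∣ n) : n' ∣ m' := by
  obtain ⟨k, rfl⟩ := h
  exact ⟨k, Nat.eq_of_mul_eq_mul_left h0 (by rw [e]; ring)⟩

/-- Class sizes of `L₂(q)`, `q` odd. -/
structure G5 (G : Type*) [Group G] (p q a b : ℕ) : Prop extends Par p q a b where
  cls : ∀ x : G, x ∉ center G → (cz x).index = 2 * a * b ∨ (cz x).index = q * a ∨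
    (cz x).index = 2 * q * a ∨ (cz x).index = 2 * q * b
  exU : ∃ x : G, (cz x).index = 2 * a * b
  exT : ∃ x : G, (cz x).index = q * a
  exK : ∃ x : G, (cz x).index = 2 * q * b

namespace G5

variable {p q a b : ℕ} (h : G5 G p q a b) {x y : G}
include h

theorem dvd (hx : x ∉ 𝐙) (hy : y ∉ 𝐙) (e : (cz x).index ∣ (cz y).index) :
    (cz y).index = (cz x).index ∨ ((cz x).index = q * a ∧ (cz y).index = 2 * q * a) := by
  have k : ∀ x : G, x ∉ 𝐙 → ∃ m, (m = q ∨ m = 2 * b ∨ m = b ∨ m = a) ∧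
      (cz x).index * m = 2 * q * a * b := fun x hx => by
    rcases h.cls x hx with e | e | e | e <;> rw [e]
    exacts [⟨q, by simp, by ring⟩, ⟨2 * b, by simp, by ring⟩, ⟨b, by simp, rfl⟩, ⟨a, by simp, by ring⟩]
  obtain ⟨m, h1, h2⟩ := k x hx
  obtain ⟨n, h3, h4⟩ := k y hy
  have := h.q1; have := h.a3; have := h.b4
  rcases h.dvd_cases h3 h1 (dvd_of_cof (Nat.pos_of_ne_zero index_ne_zero_of_finite)
    (h2.trans h4.symm) e) with rfl | ⟨rfl, rfl⟩
  · exact Or.inl (Nat.eq_of_mul_eq_mul_right (show 0 < m by omega) (h4.trans h2.symm))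
  · exact Or.inr ⟨Nat.eq_of_mul_eq_mul_right (show 0 < 2 * n by omega) (by rw [h2]; ring),
      Nat.eq_of_mul_eq_mul_right (show 0 < n by omega) h4⟩

theorem iso (hx : x ∉ 𝐙) (h1 : (cz x).index ≠ q * a) (h2 : (cz x).index ≠ 2 * q * a) : IsoS x :=
  ⟨hx, fun _ hw e => e.elim (fun e => ((h.dvd hw hx e).resolve_right fun e => h2 e.2).symm)
    fun e => (h.dvd hx hw e).resolve_right fun e => h1 e.1⟩

theorem pU : ¬ p ∣ 2 * a * b := fun e => h.pp.ne_one (Nat.eq_one_of_dvd_coprimes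
  (h.qa.mul_right h.qb) h.pq (by rwa [show a * (2 * b) = 2 * a * b by ring]))

theorem TK {r : ℕ} (hr : r.Prime) (e : r ≠ p) (h1 : r ∣ 2 * q * b) : ¬ r ∣ q * a := fun h2 => by
  rcases (Nat.Prime.dvd_mul hr).1 h2 with h2 | h2
  · obtain ⟨f, rfl⟩ := h.pw
    exact e ((Nat.prime_dvd_prime_iff_eq hr h.pp).1 (hr.dvd_of_dvd_pow h2))
  · exact hr.ne_one (Nat.eq_one_of_dvd_coprimes (h.qa.symm.mul_right h.ab2) h2
      (by rwa [show q * (2 * b) = 2 * q * b by ring]))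

theorem n1 : 2 * a * b ≠ 1 ∧ q * a ≠ 1 ∧ 2 * q * b ≠ 1 := by
  have := h.q1
  refine ⟨by rw [mul_assoc]; omega, fun e => ?_, by rw [mul_assoc]; omega⟩
  have := Nat.eq_one_of_mul_eq_one_right e
  omega

theorem idx : (center G).index = 2 * q * a * b := by
  obtain ⟨x, hx⟩ := h.exU
  obtain ⟨y, hy⟩ := h.exK
  obtain ⟨z, hz⟩ := h.exT
  have := h.q1; have := h.a3; have := h.b4; have := h.cons
  have k : ∀ m, p ∣ m → (cz x).index ≠ m := fun m h1 e => h.pU (hx ▸ e ▸ h1)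
  obtain ⟨s, hs, h1⟩ := Nat.exists_prime_and_dvd (n := a) (by omega)
  refine index_center_eq (h.iso (nc_of_index hx h.n1.1) (k _ (h.pq.mul_right a))
    (k _ ((h.pq.mul_left 2).mul_right a))) (h.iso (nc_of_index hy h.n1.2.2) ?_ ?_)
    (nc_of_index hz h.n1.2.1) h.pp hs (fun e => hs.ne_one (Nat.eq_one_of_dvd_coprimes h.qa (e ▸ h.pq) h1))
    h.pq h1 (by rw [hx]; ring) (by rw [hy]; ring) ?_ (hx ▸ h.pU)
    (k _ (hy ▸ (h.pq.mul_left 2).mul_right b)) (k _ (hz ▸ h.pq.mul_right a))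
    fun r hr e h1 => hz ▸ h.TK hr e (hy ▸ h1)
  · rw [hy, mul_comm 2, mul_assoc, Ne, Nat.mul_right_inj (by omega)]; omega
  · rw [hy, Ne, Nat.mul_right_inj (by omega)]; omega
  · rw [show 2 * q * a * b = q * (a * (2 * b)) by ring]
    refine (h.qa.mul_right h.qb).mul_dvd_of_dvd_of_dvd ((dvd_mul_right q a).trans
      (hz ▸ index_dvd_of_le (center_le_cz z))) ?_
    rw [show a * (2 * b) = 2 * a * b by ring, ← hx]
    exact index_dvd_of_le (center_le_cz x)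

theorem jcases (hx : x ∉ 𝐙) : jj x = 1 ∨ (jj x = 2 ∧ (cz x).index = 2 * q * a) := by
  have qb := h.qb.coprime_mul_left_right
  rcases h.cls x hx with e | e | e | e
  · refine Or.inl (jj_one ?_)
    rw [zi_eq_of (m := q) (by rw [e, h.idx]; ring), e, show 2 * a * b = a * (2 * b) by ring]
    exact h.qa.mul_right h.qb
  · refine Or.inl (jj_one ?_)
    rw [zi_eq_of (m := 2 * b) (by rw [e, h.idx]; ring), e]
    exact h.qb.symm.mul_right h.ab2.symm
  · refine ((Nat.dvd_prime Nat.prime_two).1 ((jj_cop (m := q * a) ?_).dvd_of_dvd_mul_right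
      ((Dvd.intro _ (cq_mul x)).trans (by rw [e, mul_assoc])))).imp_right fun e' => ⟨e', e⟩
    rw [zi_eq_of (m := b) (by rw [e, h.idx]; ring)]
    exact qb.symm.mul_right h.ab.symm
  · refine Or.inl (jj_one ?_)
    rw [zi_eq_of (m := a) (by rw [e, h.idx]; ring), e, show 2 * q * b = q * (2 * b) by ring]
    exact h.qa.symm.mul_right h.ab2

theorem l5 : L5 (G ⧸ 𝐙) p q a b where
  toPar := h.toPar
  card := h.idx
  cls y hy := by
    obtain ⟨x, rfl⟩ := QuotientGroup.mk_surjective y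
    have hx := (QuotientGroup.eq_one_iff x).not.1 hy
    have e := cq_mul x
    rcases h.jcases hx with e1 | ⟨e1, e2⟩
    · rw [e1, one_mul] at e
      exact e ▸ h.cls x hx
    · rw [e1, e2, mul_assoc] at e
      exact Or.inr (Or.inl (by omega))

theorem equiv {F : Type*} [Field F] [Fintype F] (hF : Fintype.card F = q) :
    Nonempty ((G ⧸ 𝐙) ≃* PSL(2, F)) := by
  obtain ⟨K, _, _, hK, ⟨e⟩⟩ := h.l5.psl
  exact ⟨e.trans (Classical.Congr.pslCongr (FiniteField.ringEquivOfCardEq (hK.trans hF.symm)))⟩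

theorem prod {F : Type*} [Field F] [Fintype F] (hF : Fintype.card F = q) [CharP F p] :
    ∃ N A : Subgroup G, N.Normal ∧ A ≤ 𝐙 ∧ N ⊓ A = ⊥ ∧ N ⊔ A = ⊤ ∧ Nonempty (N ≃* PSL(2, F)) := by
  obtain ⟨e⟩ := h.equiv hF
  have := Fact.mk h.pp
  refine direct (p := p) (by have := h.sum; have := h.b4; rw [Nat.card_eq_fintype_card]; omega) e
    (center_bot_of_fit h.l5.fit) (fun x hx => ?_) fun r hr => ?_
  · by_cases h1 : x ∈ 𝐙
    · exact fun g _ => mem_cz.2 (mem_center_iff.1 h1 g)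
    refine relIndex_eq_one.1 ((h.jcases h1).resolve_right fun e => h.oq.not_two_dvd_nat ?_)
    exact ((dvd_of_dvd_cq Nat.prime_two e.1.symm.dvd).trans (orderOf_dvd_of_pow_eq_one hx)).trans h.pq
  · obtain ⟨x, hx⟩ := h.exU
    obtain ⟨y, hy⟩ := h.exK
    obtain ⟨z, hz⟩ := h.exT
    by_cases e : r = p
    · exact ⟨x, nc_of_index hx h.n1.1, e ▸ hx ▸ h.pU⟩
    by_cases e' : r ∣ 2 * q * b
    · exact ⟨z, nc_of_index hz h.n1.2.1, hz ▸ h.TK hr e e'⟩
    · exact ⟨y, nc_of_index hy h.n1.2.2, hy ▸ e'⟩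

end G5

/-- Class sizes of `L₂(q)`, `q` even. -/
structure G3 (G : Type*) [Group G] (q a b : ℕ) : Prop where
  pw : ∃ f, q = 2 ^ f
  ea : q = a + 1
  eb : b = q + 1
  a3 : 3 ≤ a
  cls : ∀ x : G, x ∉ center G → (cz x).index = a * b ∨ (cz x).index = q * a ∨ (cz x).index = q * b
  exU : ∃ x : G, (cz x).index = a * b
  exT : ∃ x : G, (cz x).index = q * a
  exK : ∃ x : G, (cz x).index = q * b

namespace G3

variable {q a b : ℕ} (h : G3 G q a b) {x y : G}
include h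

theorem q2 : 2 ∣ q := by
  obtain ⟨f, e⟩ := h.pw
  refine e ▸ dvd_pow_self 2 ?_
  rintro rfl
  have := h.ea; have := h.a3; omega

theorem qa : q.Coprime a := by simp [h.ea]

theorem qb : q.Coprime b := by simp [h.eb]

theorem ab : a.Coprime b := by
  have := h.q2; have := h.ea
  rw [h.eb, h.ea, add_assoc, Nat.coprime_self_add_right]
  exact Nat.coprime_two_right.2 (Nat.odd_iff.2 (by omega))

theorem dvd (hx : x ∉ 𝐙) (hy : y ∉ 𝐙) (e : (cz x).index ∣ (cz y).index) :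
    (cz y).index = (cz x).index := by
  have k : ∀ x : G, x ∉ 𝐙 → ∃ m, (m = q ∨ m = b ∨ m = a) ∧ (cz x).index * m = q * a * b :=
    fun x hx => by
    rcases h.cls x hx with e | e | e <;> rw [e]
    exacts [⟨q, by simp, by ring⟩, ⟨b, by simp, rfl⟩, ⟨a, by simp, by ring⟩]
  obtain ⟨m, h1, h2⟩ := k x hx
  obtain ⟨n, h3, h4⟩ := k y hy
  have := h.ea; have := h.a3; have := h.eb
  have h5 := dvd_of_cof (Nat.pos_of_ne_zero index_ne_zero_of_finite) (h2.trans h4.symm) e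
  have h6 := Nat.le_of_dvd (by omega) h5
  have k2 : ∀ {u v : ℕ}, u.Coprime v → n = u → m = v → n = 1 :=
    fun hc e1 e2 => e1 ▸ hc.eq_one_of_dvd (e1 ▸ e2 ▸ h5)
  have := k2 h.qb; have := k2 h.qa.symm; have := k2 h.ab
  obtain rfl : n = m := by omega
  exact Nat.eq_of_mul_eq_mul_right (show 0 < n by omega) (h4.trans h2.symm)

theorem iso (hx : x ∉ 𝐙) : IsoS x :=
  ⟨hx, fun _ hw e => e.elim (fun e => (h.dvd hw hx e).symm) (h.dvd hx hw)⟩

theorem pU : ¬ 2 ∣ a * b := fun e => Nat.prime_two.ne_one (Nat.eq_one_of_dvd_coprimes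
  (h.qa.mul_right h.qb) h.q2 e)

theorem TK {r : ℕ} (hr : r.Prime) (e : r ≠ 2) (h1 : r ∣ q * b) : ¬ r ∣ q * a := fun h2 => by
  rcases (Nat.Prime.dvd_mul hr).1 h2 with h2 | h2
  · obtain ⟨f, rfl⟩ := h.pw
    exact e ((Nat.prime_dvd_prime_iff_eq hr Nat.prime_two).1 (hr.dvd_of_dvd_pow h2))
  · exact hr.ne_one (Nat.eq_one_of_dvd_coprimes (h.qa.symm.mul_right h.ab) h2 h1)

theorem n1 : a * b ≠ 1 ∧ q * a ≠ 1 ∧ q * b ≠ 1 := by
  have := h.ea; have := h.a3
  refine ⟨fun e => ?_, fun e => ?_, fun e => ?_⟩ <;> have := Nat.eq_one_of_mul_eq_one_right e <;> omega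

theorem idx : (center G).index = q * a * b := by
  obtain ⟨x, hx⟩ := h.exU
  obtain ⟨y, hy⟩ := h.exK
  obtain ⟨z, hz⟩ := h.exT
  have k : ∀ m, 2 ∣ m → (cz x).index ≠ m := fun m h1 e => h.pU (hx ▸ e ▸ h1)
  obtain ⟨s, hs, h1⟩ := Nat.exists_prime_and_dvd (n := a) (by have := h.a3; omega)
  refine index_center_eq (h.iso (nc_of_index hx h.n1.1)) (h.iso (nc_of_index hy h.n1.2.2))
    (nc_of_index hz h.n1.2.1) Nat.prime_two hs
    (fun e => hs.ne_one (Nat.eq_one_of_dvd_coprimes h.qa (e ▸ h.q2) h1))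
    h.q2 h1 (by rw [hx]; ring) (by rw [hy]; ring) ?_ (hx ▸ h.pU)
    (k _ (hy ▸ h.q2.mul_right b)) (k _ (hz ▸ h.q2.mul_right a))
    fun r hr e h1 => hz ▸ h.TK hr e (hy ▸ h1)
  rw [mul_assoc]
  exact (h.qa.mul_right h.qb).mul_dvd_of_dvd_of_dvd ((dvd_mul_right q a).trans
    (hz ▸ index_dvd_of_le (center_le_cz z))) (hx ▸ index_dvd_of_le (center_le_cz x))

theorem jone (hx : x ∉ 𝐙) : jj x = 1 := by
  refine jj_one ?_
  rcases h.cls x hx with e | e | e
  · rw [zi_eq_of (m := q) (by rw [e, h.idx]; ring), e]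
    exact h.qa.mul_right h.qb
  · rw [zi_eq_of (m := b) (by rw [e, h.idx]; ring), e]
    exact h.qb.symm.mul_right h.ab.symm
  · rw [zi_eq_of (m := a) (by rw [e, h.idx]; ring), e]
    exact h.qa.symm.mul_right h.ab

theorem qcls {y : G ⧸ 𝐙} (hy : y ≠ 1) :
    (cz y).index = a * b ∨ (cz y).index = q * a ∨ (cz y).index = q * b := by
  obtain ⟨x, rfl⟩ := QuotientGroup.mk_surjective y
  have hx := (QuotientGroup.eq_one_iff x).not.1 hy
  have e := cq_mul x
  rw [h.jone hx, one_mul] at e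
  exact e ▸ h.cls x hx

theorem fit : fittingSubgroup (G ⧸ 𝐙) = ⊥ := fitting_bot_of_sizes fun x hx r k hr e => by
  have := h.ea; have := h.a3; have := h.eb
  have h1 : r ^ k ≤ b := by
    replace e : r ^ k ∣ q * (a * b) := mul_assoc q a b ▸ h.idx ▸ e
    rcases pow_dvd_or hr (h.qa.mul_right h.qb) e with e | e
    · have := Nat.le_of_dvd (by omega) e; omega
    · rcases pow_dvd_or hr h.ab e with e | e <;> have := Nat.le_of_dvd (by omega) e <;> omega
  rcases h.qcls hx with e | e | e <;> rw [e] <;> nlinarith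

theorem prod {F : Type*} [Field F] [Fintype F] (hF : Fintype.card F = q) [CharP F 2] :
    ∃ N A : Subgroup G, N.Normal ∧ A ≤ 𝐙 ∧ N ⊓ A = ⊥ ∧ N ⊔ A = ⊤ ∧ Nonempty (N ≃* PSL(2, F)) := by
  obtain ⟨x, hx⟩ := h.exU
  obtain ⟨y, hy⟩ := h.exK
  obtain ⟨z, hz⟩ := h.exT
  have := h.ea; have := h.a3; have := h.eb
  have : Nontrivial (G ⧸ 𝐙) := ⟨x, 1, (QuotientGroup.eq_one_iff x).not.2 (nc_of_index hx h.n1.1)⟩
  obtain ⟨K, _, _, ⟨n, hn, hK⟩, ⟨e⟩⟩ := rank3 (center_bot_of_fit h.fit) (not_solv_of_fit h.fit)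
    (S := {a * b, q * a, q * b}) (Set.toFinite _) ((Set.ncard_insert_le _ _).trans
      (Nat.succ_le_succ ((Set.ncard_insert_le _ _).trans (by simp)))) fun y hy => h.qcls hy
  have h1 : Fintype.card K = q := cube_inj Fintype.one_lt_card (by omega) (by
    rw [hK, ← CIT.F.card_psl2_even (by omega) hK, ← Nat.card_congr e.toEquiv,
      show q ^ 2 - 1 = a * b from Nat.sub_eq_of_eq_add (by rw [h.eb, h.ea]; ring), ← mul_assoc]
    exact h.idx)
  have := Fact.mk Nat.prime_two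
  refine direct (p := 2) (by rw [Nat.card_eq_fintype_card]; omega) (e.trans (Classical.Congr.pslCongr
    (FiniteField.ringEquivOfCardEq (h1.trans hF.symm)))) (center_bot_of_fit h.fit)
    (fun x _ => ?_) fun r hr => ?_
  · by_cases h1 : x ∈ 𝐙
    · exact fun g _ => mem_cz.2 (mem_center_iff.1 h1 g)
    exact relIndex_eq_one.1 (h.jone h1)
  · by_cases e : r = 2
    · exact ⟨x, nc_of_index hx h.n1.1, e ▸ hx ▸ h.pU⟩
    by_cases e' : r ∣ q * b
    · exact ⟨z, nc_of_index hz h.n1.2.1, hz ▸ h.TK hr e e'⟩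
    · exact ⟨y, nc_of_index hy h.n1.2.2, hy ▸ e'⟩

end G3

theorem exists_g5 {F : Type*} [Field F] [Fintype F] (hodd : ¬ 2 ∣ Fintype.card F)
    (h7 : 7 ≤ Fintype.card F)
    (h : (Set.range fun g : G => (cz g).index) = Set.range fun g : PSL(2, F) => (cz g).index) :
    ∃ (p a b : ℕ) (_ : CharP F p), G5 G p (Fintype.card F) a b := by
  obtain ⟨p, hp, f, h1, h2⟩ := FiniteField.card' F
  have k : ∀ a b : ℕ, Par p (Fintype.card F) a b → (Set.range fun g : G => (cz g).index) =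
      {1, 2 * a * b, Fintype.card F * a, 2 * Fintype.card F * b, 2 * Fintype.card F * a} →
      ∃ (p a b : ℕ) (_ : CharP F p), G5 G p (Fintype.card F) a b := fun a b h3 e =>
    ⟨p, a, b, hp, h3, fun x hx => by
      have := e.le ⟨x, rfl⟩
      have := mt FGS.index_centralizer_eq_one_iff.1 hx
      simp only [Set.mem_insert_iff, Set.mem_singleton_iff] at *
      tauto, e.ge (by simp), e.ge (by simp), e.ge (by simp)⟩
  rcases (by omega : Fintype.card F % 4 = 1 ∨ Fintype.card F % 4 = 3) with e | e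
  · obtain ⟨m, hm⟩ : ∃ m, Fintype.card F = 4 * m + 1 := ⟨Fintype.card F / 4, by omega⟩
    have h3 : Par p (Fintype.card F) (2 * m + 1) (2 * m) :=
      ⟨h1, ⟨f, h2⟩, by omega, Or.inl rfl, ⟨m, rfl⟩, by omega, by omega⟩
    refine k _ _ h3 (h.trans (((S2508.result hodd h7).1 e).trans ?_))
    rw [h3.sq, hm]
    congr 2
    · exact Nat.div_eq_of_eq_mul_right two_pos (by ring)
    congr 1
    · exact Nat.div_eq_of_eq_mul_right two_pos (by ring)
    congr 1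
    · rw [Nat.add_sub_cancel]; ring
    · congr 1; ring
  · obtain ⟨m, hm⟩ : ∃ m, Fintype.card F = 4 * m + 2 + 1 := ⟨Fintype.card F / 4, by omega⟩
    have h3 : Par p (Fintype.card F) (2 * m + 1) (2 * m + 2) :=
      ⟨h1, ⟨f, h2⟩, by omega, Or.inr rfl, ⟨m, rfl⟩, by omega, by omega⟩
    refine k _ _ h3 (h.trans (((S2508.result hodd h7).2 e).trans ?_))
    rw [h3.sq, hm, Nat.add_sub_cancel]
    congr 2
    · exact Nat.div_eq_of_eq_mul_right two_pos (by ring)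
    congr 1
    · exact Nat.div_eq_of_eq_mul_right two_pos (by ring)
    congr 1
    · ring
    · congr 1; ring

theorem exists_g3 {F : Type*} [Field F] [Fintype F] (h2 : 2 ∣ Fintype.card F)
    (h3 : 2 < Fintype.card F)
    (h : (Set.range fun g : G => (cz g).index) = Set.range fun g : PSL(2, F) => (cz g).index) :
    ∃ (a b : ℕ) (_ : CharP F 2), G3 G (Fintype.card F) a b := by
  obtain ⟨p, hp, f, h1, h4⟩ := FiniteField.card' F
  obtain rfl := (Nat.prime_dvd_prime_iff_eq Nat.prime_two h1).1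
    (Nat.prime_two.dvd_of_dvd_pow (h4 ▸ h2))
  rw [S2507.result h2 (by omega), show Fintype.card F ^ 2 - 1 = (Fintype.card F - 1) *
    (Fintype.card F + 1) by rw [mul_comm, ← Nat.sq_sub_sq]] at h
  exact ⟨Fintype.card F - 1, _, hp, ⟨f, h4⟩, by omega, rfl, by omega, fun x hx => by
    have := h.le ⟨x, rfl⟩
    have := mt FGS.index_centralizer_eq_one_iff.1 hx
    simp only [Set.mem_insert_iff, Set.mem_singleton_iff] at *
    tauto, h.ge (by simp), h.ge (by simp), h.ge (by simp)⟩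

end Cfsg.Agent.Part
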