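import Mathlib
import Cfsg.Agent.Part.L2a

set_option autoImplicit false
set_option linter.unusedSectionVars false

/-! Counting the elements whose class size is prime to a given prime. -/

namespace Cfsg.Agent.Part

open Subgroup Core GW Finset
open scoped Pointwise

variable {G : Type*} [Group G] [Fintype G]

open scoped _root_.Classical in
/-- Non-identity elements of class size prime to `r`. -/
noncomputable def Er (G : Type*) [Group G] [Fintype G] (r : ℕ) : Finset G :=
  univ.filter fun x => x ≠ 1 ∧ ¬ r ∣ (cz x).index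

theorem mem_Er {r : ℕ} {x : G} : x ∈ Er G r ↔ x ≠ 1 ∧ ¬ r ∣ (cz x).index := by simp [Er]

/-- The order of the automiser of a subgroup. -/
noncomputable abbrev aut (P : Subgroup G) : ℕ :=
  (centralizer (P : Set G)).relIndex (normalizer (P : Set G))

theorem card_Er {r : ℕ} [hr : Fact r.Prime] (P : Sylow r G) :
    aut (P : Subgroup G) * ((Er G r).card + (normalizer ((P : Subgroup G) : Set G)).index) ≤
      Nat.card G := by
  classical
  have := Fintype.ofFinite (Sylow r G)
  have h1 : Er G r ⊆ univ.biUnion fun Q : Sylow r G =>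
      (univ.filter (· ∈ centralizer ((Q : Subgroup G) : Set G))).erase 1 := fun x hx => by
    obtain ⟨Q, hQ⟩ := FGS.exists_sylow_le_of_not_dvd_index (mem_Er.1 hx).2
    simp only [mem_biUnion, mem_univ, true_and, mem_erase, mem_filter]
    exact ⟨Q, (mem_Er.1 hx).1, fun y hy => mem_cz.1 (hQ hy)⟩
  have h2 : ∀ Q : Sylow r G, ((univ.filter (· ∈ centralizer ((Q : Subgroup G) : Set G))).erase
      1).card + 1 = Nat.card (centralizer ((P : Subgroup G) : Set G)) := fun Q => by
    obtain ⟨g, rfl⟩ := MulAction.exists_smul_eq G P Q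
    rw [card_erase_add_one (by simp), ← Fintype.card_subtype, ← Nat.card_eq_fintype_card]
    refine Nat.card_congr ((MulAut.conj g⁻¹).toEquiv.subtypeEquiv fun x => ⟨fun h y hy => ?_,
      fun h => ?_⟩)
    · have := h _ (smul_mem_pointwise_smul y (MulAut.conj g) _ hy)
      change g * y * g⁻¹ * x = x * (g * y * g⁻¹) at this
      change y * (g⁻¹ * x * g⁻¹⁻¹) = g⁻¹ * x * g⁻¹⁻¹ * y
      calc _ = g⁻¹ * (g * y * g⁻¹ * x) * g := by group
        _ = _ := by rw [this]; group
    · rintro _ ⟨y, hy, rfl⟩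
      have := h y hy
      change y * (g⁻¹ * x * g⁻¹⁻¹) = g⁻¹ * x * g⁻¹⁻¹ * y at this
      change g * y * g⁻¹ * x = x * (g * y * g⁻¹)
      calc _ = g * (y * (g⁻¹ * x * g⁻¹⁻¹)) * g⁻¹ := by group
        _ = _ := by rw [this]; group
  have h3 := (card_le_card h1).trans card_biUnion_le
  have h4 := sum_congr (rfl : (univ : Finset (Sylow r G)) = univ) fun Q _ => h2 Q
  rw [sum_add_distrib, sum_const, sum_const, card_univ, ← Nat.card_eq_fintype_card,
    P.card_eq_index_normalizer, smul_eq_mul, smul_eq_mul, mul_one] at h4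
  rw [← card_mul_index (centralizer ((P : Subgroup G) : Set G)),
    ← relIndex_mul_index (centralizer_le_normalizer _), mul_left_comm]
  exact Nat.mul_le_mul_left _ ((Nat.add_le_add_right h3 _).trans_eq (h4.trans (mul_comm _ _)))

theorem sum_Er (ρ : Finset ℕ) (hρ : ∀ r ∈ ρ, r.Prime) {σ : ℕ}
    (h : ∀ x : G, (cz x).index.primeFactors.card ≤ σ) :
    ρ.card * (Nat.card G - 1) ≤ ∑ r ∈ ρ, (Er G r).card + σ * (Nat.card G - 1) := by
  classical
  have h1 : ∑ r ∈ ρ, (Er G r).card = ∑ x ∈ univ.erase (1 : G),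
      (ρ.filter fun r => ¬ r ∣ (cz x).index).card := by
    simp only [card_filter]
    rw [sum_comm]
    refine sum_congr rfl fun r _ => ?_
    rw [← card_filter]
    congr 1
    ext x
    simp [mem_Er]
  have h2 : (univ.erase (1 : G)).card = Nat.card G - 1 := by
    rw [card_erase_of_mem (mem_univ _), card_univ, Nat.card_eq_fintype_card]
  rw [h1, ← h2, mul_comm, mul_comm σ, ← smul_eq_mul, ← smul_eq_mul, ← sum_const, ← sum_const,
    ← sum_add_distrib]
  refine sum_le_sum fun x _ => ?_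
  rw [← card_filter_add_card_filter_not (s := ρ) (fun r => r ∣ (cz x).index), add_comm]
  refine Nat.add_le_add_left ((card_le_card fun r hr => ?_).trans (h x)) _
  exact Nat.mem_primeFactors.2 ⟨hρ r (mem_filter.1 hr).1, (mem_filter.1 hr).2,
    index_ne_zero_of_finite⟩

theorem two_le_aut {r : ℕ} [Fact r.Prime] (P : Sylow r G) (h : ¬ HasNormalPComplement r G) :
    2 ≤ aut (P : Subgroup G) := by
  have h1 : aut (P : Subgroup G) ≠ 0 := index_ne_zero_of_finite
  have h2 : aut (P : Subgroup G) ≠ 1 := fun e =>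
    h (Transfer.hasNormalPComplement_of_normalizer_le_centralizer P (relIndex_eq_one.1 e))
  omega

theorem card_le_two_mul {σ : ℕ} (h : ∀ x : G, (cz x).index.primeFactors.card ≤ σ) (ρ : Finset ℕ)
    (hρ : ∀ r ∈ ρ, r.Prime ∧ ∃ x : G, r ∣ (cz x).index)
    (hn : ∀ p ∈ ρ, ∀ q ∈ ρ, HasNormalPComplement p G → HasNormalPComplement q G → p = q) :
    ρ.card ≤ 2 * σ := by
  classical
  rcases ρ.eq_empty_or_nonempty with rfl | ⟨p, hp⟩
  · simp
  obtain ⟨p, hp, h1⟩ : ∃ p ∈ ρ, ∀ q ∈ ρ, q ≠ p → ¬ HasNormalPComplement q G := by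
    by_cases e : ∃ p ∈ ρ, HasNormalPComplement p G
    · obtain ⟨p, hp, e⟩ := e
      exact ⟨p, hp, fun q hq h1 h2 => h1 (hn q hq p hp h2 e)⟩
    · exact ⟨p, hp, fun q hq _ h2 => e ⟨q, hq, h2⟩⟩
  have h2 := sum_Er ρ (fun r hr => (hρ r hr).1) h
  have h3 : (Er G p).card < Nat.card G - 1 := by
    obtain ⟨h4, x, hx⟩ := hρ p hp
    rw [Nat.card_eq_fintype_card, ← card_univ, ← card_erase_of_mem (mem_univ (1 : G))]
    refine card_lt_card ⟨fun y hy => by simp [(mem_Er.1 hy).1], fun e => (mem_Er.1 (e ?_)).2 hx⟩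
    rw [mem_erase]
    refine ⟨?_, mem_univ _⟩
    rintro rfl
    rw [FGS.index_centralizer_eq_one_iff.2 (one_mem _)] at hx
    exact h4.ne_one (Nat.dvd_one.1 hx)
  have h4 : ∑ r ∈ ρ.erase p, 2 * (Er G r).card ≤ ∑ r ∈ ρ.erase p, (Nat.card G - 1) :=
    sum_le_sum fun r hr => by
      have := Fact.mk (hρ r (mem_of_mem_erase hr)).1
      obtain ⟨P⟩ : Nonempty (Sylow r G) := inferInstance
      have := (Nat.mul_le_mul_right _ (two_le_aut P (h1 r (mem_of_mem_erase hr)
        (ne_of_mem_erase hr)))).trans (card_Er P)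
      have : (normalizer ((P : Subgroup G) : Set G)).index ≠ 0 := index_ne_zero_of_finite
      omega
  rw [← mul_sum, sum_const, smul_eq_mul] at h4
  rw [← add_sum_erase ρ _ hp, ← card_erase_add_one hp] at h2
  rw [← card_erase_add_one hp]
  generalize Nat.card G - 1 = m at *
  refine Nat.le_of_lt_succ (Nat.lt_of_mul_lt_mul_right (a := m) ?_)
  rw [Nat.succ_eq_add_one]
  nlinarith

end Cfsg.Agent.Part
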