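import Mathlib
import Cfsg.Agent.Part.Sg1
import Cfsg.Agent.Char.Kernel
import Cfsg.Agent.Char.IndRep

set_option autoImplicit false
set_option linter.unusedSectionVars false

/-! Two primes with abelian Sylow subgroups of automiser of order two: three characters of
consecutive degrees. -/

namespace Cfsg.Agent.Part

open Subgroup Core GW Char Char.Ind Char.IndTI
open scoped Pointwise ComplexConjugate

variable {G : Type*} [Group G] [Fintype G]

/-- Abelian Sylow `s`-subgroups, and `s`-singular-like elements have class size prime to `s`. -/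
structure TS (G : Type*) [Group G] (s : ℕ) : Prop where
  pr : s.Prime
  dvd : s ∣ Nat.card G
  ab : ∀ P : Sylow s G, ∀ a ∈ P, ∀ b ∈ P, a * b = b * a
  ind : ∀ y g : G, y ≠ 1 → PE s y → cz g ≤ cz y → ¬ s ∣ (cz g).index

namespace TS

variable {s : ℕ} (h : TS G s) {y v g x : G}
include h

theorem cent (y1 : y ≠ 1) (hy : PE s y) (hv : v ∈ cz y) (hp : PE s v) : cz y ≤ cz v := by
  have := Fact.mk h.pr
  refine R3.cent_of h.pr (fun g hg e => ?_) hv hp
  obtain ⟨a, b, ha, hb, rfl, hab, ha1, hb1⟩ := FGS.exists_pPart s g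
  have hb' : b ∈ cz y := zpowers_le.2 hg hb
  have e1 := cz_mul hb' (hy.elim fun k hk => hk ▸ (hb1.pow_right k).symm)
  obtain ⟨P, h1, h2⟩ := FGS.exists_sylow_le_of_not_dvd_index' (h.ind y _ y1 hy (e1 ▸ inf_le_left))
    (PE.pg ha1) (zpowers_le.2 (e1 ▸ ⟨zpowers_le.2 hg ha, mem_cz.2 hab.eq⟩))
  refine FGS.not_dvd_index_of_sylow_le (H := cz y ⊓ cz (a * b)) P (fun w hw => ?_) ?_
  · have h3 := e1.le (h2 hw)
    refine ⟨h3.1, mem_cz.2 ?_⟩
    rw [← mul_assoc, h.ab P w hw a (h1 (mem_zpowers a)), mul_assoc, mem_cz.1 h3.2, mul_assoc]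
  · rw [← relIndex_mul_index inf_le_left, inf_relIndex_left]
    exact e.mul_right _

theorem eq (y1 : y ≠ 1) (hy : PE s y) (hv : v ∈ cz y) (v1 : v ≠ 1) (hp : PE s v) : cz v = cz y :=
  le_antisymm (h.cent v1 hp (cz_symm hv) hy) (h.cent y1 hy hv hp)

theorem cP (P : Sylow s G) (hy : y ∈ P) (y1 : y ≠ 1) :
    cz y = centralizer ((P : Subgroup G) : Set G) := by
  have := Fact.mk h.pr
  exact le_antisymm (fun g hg v hv => (mem_cz.1 (h.cent y1 (pe_of_mem P.isPGroup' hy)
    (mem_cz.2 (h.ab P v hv y hy)) (pe_of_mem P.isPGroup' hv) hg)).symm)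
    fun g hg => mem_cz.2 (hg y hy).symm

theorem mem (P : Sylow s G) (hv : v ∈ centralizer ((P : Subgroup G) : Set G)) (hp : PE s v) :
    v ∈ P :=
  hp.elim fun _ hk => FGS.mem_sylow_of_mem_normalizer P hk (centralizer_le_normalizer _ hv)

theorem ti (P : Sylow s G) (hv : v ∈ P) (v1 : v ≠ 1)
    (e : x * v * x⁻¹ ∈ centralizer ((P : Subgroup G) : Set G)) :
    x ∈ normalizer ((P : Subgroup G) : Set G) := by
  have := Fact.mk h.pr
  have h1 := h.cP P (h.mem P e ((pe_of_mem P.isPGroup' hv).conj x)) (by simpa using v1)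
  exact mem_normalizer_fintype fun w hw => h.mem P (h1 ▸ conj_mem_cz (mem_cz.2 (h.ab P w hw v hv)))
    ((pe_of_mem P.isPGroup' hw).conj x)

theorem sing (e : s ∣ orderOf g) : ¬ s ∣ (cz g).index := by
  obtain ⟨j, hj⟩ := FGS.exists_pow_orderOf_eq e
  exact h.ind _ g (FGS.ne_one_of_orderOf_prime h.pr hj) (pe_of_ord hj)
    (cz_le_zp (npow_mem_zpowers g j))

theorem fpf (P : Sylow s G) (h1 : x ∈ normalizer ((P : Subgroup G) : Set G))
    (h2 : x ∉ centralizer ((P : Subgroup G) : Set G)) (hv : v ∈ P) :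
    ∃ y ∈ P, v = y * x * y⁻¹ * x⁻¹ :=
  H2.exists_eq_comm_of_fpf h1 (eq_bot_iff.2 fun a ha => by
    by_contra e
    exact h2 (h.cP P ha.1 e ▸ cz_symm ha.2)) hv

theorem exists_lin (P : Sylow s G) : ∃ l : centralizer ((P : Subgroup G) : Set G) →* ℂˣ,
    (∃ v : centralizer ((P : Subgroup G) : Set G), (v : G) ∈ P ∧ l v ≠ 1) ∧
      ∀ a, ¬ s ∣ orderOf a → l a = 1 := by
  have := Fact.mk h.pr
  set A := centralizer ((P : Subgroup G) : Set G)
  obtain ⟨y, hy, ho⟩ := FGS.exists_prime_orderOf_mem (H := (P : Subgroup G)) h.pr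
    (P.dvd_card_of_dvd_card h.dvd)
  have hPA : (P : Subgroup G) ≤ A := fun a ha b hb => h.ab P b hb a ha
  have h1 : ¬ s ∣ (center A).index := FGS.not_dvd_index_of_sylow_le (P.subtype hPA) fun a ha =>
    mem_center_iff.2 fun b => Subtype.ext (b.2 a ha).symm
  have h2 : MonoidHom.transferCenterPow A (⟨y, hPA hy⟩ ^ (P : Subgroup G).index) ≠ 1 := fun e => by
    have : y ^ ((P : Subgroup G).index * (center A).index) = 1 := by
      rw [pow_mul]; exact congrArg (fun z : center A => ((z : A) : G)) e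
    exact ((Nat.Prime.dvd_mul h.pr).1 (ho.symm.dvd.trans (orderOf_dvd_of_pow_eq_one this))).elim
      P.not_dvd_index h1
  open scoped IsMulCommutative in
  obtain ⟨μ, hμ⟩ := CommGroup.exists_apply_ne_one_of_hasEnoughRootsOfUnity (center A) ℂ h2
  refine ⟨(μ.comp (MonoidHom.transferCenterPow A)) ^ (P : Subgroup G).index,
    ⟨⟨y, hPA hy⟩, hy, by rwa [MonoidHom.pow_apply, ← map_pow]⟩, fun a ha => ?_⟩
  obtain ⟨k, hk⟩ := P.isPGroup'.exists_card_eq
  have h3 : orderOf a ∣ (P : Subgroup G).index :=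
    ((h.pr.coprime_iff_not_dvd.2 ha).symm.pow_right k).dvd_of_dvd_mul_left (by
      rw [← hk, card_mul_index, ← orderOf_coe]; exact orderOf_dvd_natCard _)
  rw [MonoidHom.pow_apply, ← map_pow, orderOf_dvd_iff_pow_eq_one.1 h3, map_one]

end TS

/-- A virtual character of norm three supported on the `s`-singular elements. -/
structure Al (s : ℕ) (α : G → ℂ) : Prop where
  gen : IsGeneralizedCharacter G α
  norm : classInner α α = 3
  one : classInner α (fun _ => 1) = 1
  supp : ∀ g, ¬ s ∣ orderOf g → α g = 0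

theorem TS.exists_al {s : ℕ} (h : TS G s) (P : Sylow s G) (he : aut (P : Subgroup G) = 2) :
    ∃ α : G → ℂ, Al s α := by
  classical
  have := Fact.mk h.pr
  have h00 := h.exists_lin P
  set A := centralizer ((P : Subgroup G) : Set G) with hA
  set N := normalizer ((P : Subgroup G) : Set G) with hN
  obtain ⟨l, ⟨v, hv, hl⟩, hl'⟩ := h00
  have := Fintype.ofFinite A
  set θ : A → ℂ := (fun _ => 1) - fun a => (l a : ℂ) with hθ
  have hc := card_ne_zero' A
  have hAN : A ≤ N := centralizer_le_normalizer _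
  have h0 : ∀ a : A, ¬ s ∣ orderOf (a : G) → θ a = 0 := fun a ha => by
    simp [hθ, hl' a (by rwa [← orderOf_coe])]
  have hne : ∀ e : A ≃* A, (fun a => (l (e a) : ℂ)) ≠ fun _ => 1 := fun e e1 => hl (Units.ext (by
    simpa using congrFun e1 (e.symm v)))
  have key : ∀ x : G, ∑ a : A, θ a * conj (extendByZero A θ (x⁻¹ * a * x)) =
      (if x ∈ A then (Nat.card A : ℂ) else 0) + if x ∈ N then (Nat.card A : ℂ) else 0 := by
    intro x
    by_cases hx : x ∈ N
    · have hx' := normalizer_le_normalizer_centralizer _ (inv_mem hx)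
      let e : A ≃* A := A.normalizerMonoidHom ⟨x⁻¹, hx'⟩
      have he : ∀ a : A, (e a : G) = x⁻¹ * a * x := fun a => by
        change x⁻¹ * a * x⁻¹⁻¹ = _
        rw [inv_inv]
      have h1 : ∀ a : A, extendByZero A θ (x⁻¹ * a * x) = θ (e a) := fun a => by
        rw [← he, extendByZero_of_mem A θ (e a).2]
      simp_rw [h1]
      rw [← card_mul_classInner θ fun a => θ (e a)]
      have hI : IsIrrCharacter A fun a => (l (e a) : ℂ) := isIrr_comp_equiv e (isIrr_linear l)
      have h3 : (fun a => θ (e a)) = (fun _ => 1) - fun a => (l (e a) : ℂ) := rfl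
      rw [h3, hθ, classInner_sub_left, classInner_sub_right, classInner_sub_right,
        classInner_one_one, classInner_isIrr_ne isIrr_one hI (hne e).symm,
        classInner_isIrr_ne (isIrr_linear l) isIrr_one (hne (MulEquiv.refl _)), if_pos hx]
      split_ifs with hxA
      · have h4 : ∀ a, l (e a) = l a := fun a => by
          rw [show e a = (⟨x, hxA⟩ : A)⁻¹ * a * ⟨x, hxA⟩ from Subtype.ext (he a), map_mul, map_mul,
            map_inv, inv_mul_cancel_comm]
        simp_rw [h4]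
        rw [classInner_isIrr_self (isIrr_linear l)]
        ring
      · rw [classInner_isIrr_ne (isIrr_linear l) hI fun e1 => hl ?_]
        · ring
        obtain ⟨y, hy, e2⟩ := h.fpf P (inv_mem hx) (mt inv_mem_iff.1 hxA) hv
        have hy' : y ∈ A := fun b hb => h.ab P b hb y hy
        have h5 : v = ⟨y, hy'⟩ * (e ⟨y, hy'⟩)⁻¹ := Subtype.ext (by
          rw [e2, coe_mul, coe_inv, he]; group)
        rw [h5, map_mul, map_inv, show l (e ⟨y, hy'⟩) = l ⟨y, hy'⟩ from
          Units.ext (congrFun e1 ⟨y, hy'⟩).symm, mul_inv_cancel]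
    · rw [if_neg hx, if_neg fun e => hx (hAN e), add_zero]
      refine Finset.sum_eq_zero fun a _ => ?_
      by_cases h1 : s ∣ orderOf (a : G)
      · obtain ⟨j, hj⟩ := FGS.exists_pow_orderOf_eq h1
        rw [extendByZero_of_notMem A θ fun h2 => hx (inv_mem_iff.1 (h.ti P (h.mem P (pow_mem a.2 j)
          (pe_of_ord hj)) (FGS.ne_one_of_orderOf_prime h.pr hj) ?_)), map_zero, mul_zero]
        rw [← conj_pow, inv_inv]
        exact pow_mem h2 j
      · rw [h0 a h1, zero_mul]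
  refine ⟨indFun A θ, IndRep.isGenChar_indFun A (isGenChar_sub isGenChar_one
    (isIrr_isGenChar (isIrr_linear l))), ?_, ?_, fun g hg => indFun_eq_zero_of_forall A θ
      fun x hx => h0 _ (by rwa [show orderOf (x⁻¹ * g * x) = orderOf g by
        simpa using ord_conj x⁻¹ g])⟩
  · have h1 : Nat.card N = Nat.card A * 2 := by
      rw [← he, Nat.card_congr (subgroupOfEquivOfLe hAN).toEquiv.symm]
      exact (card_mul_index _).symm
    have h2 : ∀ B : Subgroup G, ∑ x : G, (if x ∈ B then (Nat.card A : ℂ) else 0) =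
        Nat.card B * Nat.card A := fun B => by
      rw [Finset.sum_ite, Finset.sum_const_zero, add_zero, Finset.sum_const, nsmul_eq_mul,
        ← Fintype.card_subtype, ← Nat.card_eq_fintype_card]
    rw [inner_indFun_indFun]
    simp_rw [key]
    rw [Finset.sum_add_distrib, h2, h2, h1]
    push_cast
    field_simp
    norm_num
  · rw [inner_indFun_left A θ (isIrr_classFun isIrr_one), hθ, classInner_sub_left, classInner_one_one,
      classInner_isIrr_ne (isIrr_linear l) isIrr_one (hne (MulEquiv.refl _)), sub_zero]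

theorem Al.common {q r : ℕ} {α β : G → ℂ} (ha : Al q α) (hb : Al r β)
    (h : ∀ g : G, q ∣ orderOf g → ¬ r ∣ orderOf g) : ∃ ψ, IsIrrCharacter G ψ ∧ ψ ≠ (fun _ => 1) ∧
      ((classInner α ψ = (1 : ℤ) ∧ classInner β ψ = (-1 : ℤ)) ∨
        (classInner β ψ = (1 : ℤ) ∧ classInner α ψ = (-1 : ℤ))) := by
  obtain ⟨m, hm, -⟩ := isGenChar_exists_mult ha.gen
  obtain ⟨n, hn, -⟩ := isGenChar_exists_mult hb.gen
  let o : IrrCharacter G := ⟨fun _ => 1, isIrr_one⟩
  have h1 : m o = 1 := by exact_mod_cast (hm o).symm.trans ha.one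
  have h2 : n o = 1 := by exact_mod_cast (hn o).symm.trans hb.one
  have h3 : ∑ ψ, m ψ * n ψ = 0 := by
    have := classInner_eq_sum_of_mult (isGenChar_classFun ha.gen) hm hn
    rw [classInner_def, Finset.sum_eq_zero fun g _ => by
      by_cases e : q ∣ orderOf g
      · rw [hb.supp g (h g e), map_zero, mul_zero]
      · rw [ha.supp g e, zero_mul], mul_zero] at this
    exact_mod_cast this.symm
  have k : ∀ {γ : G → ℂ} {s : ℕ} {m : IrrCharacter G → ℤ}, Al s γ →
      (∀ ψ : IrrCharacter G, classInner γ ψ = m ψ) → ∀ ψ, m ψ * m ψ ≤ 3 := fun {γ s m} hγ hm ψ => by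
    have h4 : ∑ ψ, m ψ * m ψ = 3 := by
      exact_mod_cast (classInner_eq_sum_of_mult (isGenChar_classFun hγ.gen) hm hm).symm.trans hγ.norm
    exact h4 ▸ Finset.single_le_sum (fun i _ => mul_self_nonneg (m i)) (Finset.mem_univ ψ)
  obtain ⟨ψ, h4⟩ : ∃ ψ, m ψ * n ψ < 0 := by
    by_contra! e
    have := Finset.single_le_sum (fun i _ => e i) (Finset.mem_univ o)
    rw [h3, h1, h2] at this
    omega
  refine ⟨ψ, ψ.2, fun e => ?_, ?_⟩
  · rw [show ψ = o from Subtype.ext e, h1, h2] at h4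
    omega
  · have h5 := k ha hm ψ
    have h6 := k hb hn ψ
    rw [hm, hn]
    have : -2 < m ψ ∧ m ψ < 2 ∧ -2 < n ψ ∧ n ψ < 2 := ⟨by nlinarith, by nlinarith, by nlinarith,
      by nlinarith⟩
    obtain ⟨a1, a2, a3, a4⟩ := this
    generalize m ψ = a at *
    generalize n ψ = b at *
    interval_cases a <;> interval_cases b <;> simp_all

theorem Al.third {s : ℕ} (hs : s.Prime) {α ψ : G → ℂ} (h : Al s α) (hψ : IsIrrCharacter G ψ)
    (h1 : ψ ≠ fun _ => 1) {ε : ℤ} (hε : ε = 1 ∨ ε = -1) (e : classInner α ψ = ε) :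
    ∃ φ, IsIrrCharacter G φ ∧ ∀ g, ¬ s ∣ orderOf g → φ g = ψ g + ε := by
  have e1 : classInner α (fun _ => 1) = (1 : ℤ) := by rw [h.one, Int.cast_one]
  obtain ⟨δ, φ, hδ, hφ, e2⟩ := isGenChar_norm_one_sign (isGenChar_sub (isGenChar_sub h.gen
    isGenChar_one) (isGenChar_zsmul ε (isIrr_isGenChar hψ))) (by
      simp only [classInner_sub_left, classInner_sub_right, classInner_zsmul_left,
        classInner_zsmul_right, h.norm, e, e1, classInner_comm_of_intCast e,
        classInner_comm_of_intCast e1, classInner_one_one, classInner_isIrr_self hψ,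
        classInner_isIrr_ne hψ isIrr_one h1, classInner_isIrr_ne isIrr_one hψ h1.symm]
      rcases hε with rfl | rfl <;> norm_num)
  have e3 : ∀ g, ¬ s ∣ orderOf g → -1 - ε * ψ g = δ * φ g := fun g hg => by
    simpa [h.supp g hg] using congrFun e2 g
  obtain ⟨n, n0, hn⟩ := isIrr_degree hψ
  obtain ⟨a, a0, ha⟩ := isIrr_degree hφ
  have e4 := e3 1 (by rw [orderOf_one]; exact hs.not_dvd_one)
  rw [hn, ha] at e4
  refine ⟨φ, hφ, fun g hg => ?_⟩
  have e5 := e3 g hg
  rcases hε with rfl | rfl <;> rcases hδ with rfl | rfl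
  · have : (n + a : ℤ) = -1 := by
      have : ((n + a : ℤ) : ℂ) = (-1 : ℤ) := by push_cast at e4 ⊢; linear_combination -e4
      exact_mod_cast this
    omega
  · push_cast at e5 ⊢; linear_combination e5
  · push_cast at e5 ⊢; linear_combination -e5
  · have : (n + a : ℤ) = 1 := by
      have : ((n + a : ℤ) : ℂ) = (1 : ℤ) := by push_cast at e4 ⊢; linear_combination e4
      exact_mod_cast this
    omega

theorem inv_parity {χ : G → ℂ} (hχ : IsCharacter G χ) {u : G} (hu : orderOf u = 2) :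
    ∃ k : ℕ, χ u + 2 * k = χ 1 := by
  obtain ⟨t, h1, h2, h3, -⟩ := isChar_eigen_nat hχ u
  rw [h3, ← h2]
  rw [hu] at h1
  clear h2 h3
  induction t using Multiset.induction_on with
  | empty => exact ⟨0, by simp⟩
  | cons z t ih =>
    obtain ⟨k, hk⟩ := ih fun w hw => h1 w (Multiset.mem_cons_of_mem hw)
    rcases sq_eq_one_iff.1 (h1 z (Multiset.mem_cons_self z t)) with rfl | rfl
    · exact ⟨k, by simp [← hk]; ring⟩
    · exact ⟨k + 1, by simp [← hk]; ring⟩

/-- The situation of the three characters. -/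
structure T3 (G : Type*) [Group G] (q r : ℕ) : Prop where
  hq : TS G q
  hr : TS G r
  ne : q ≠ r
  q2 : q ≠ 2
  r2 : r ≠ 2
  pr : ∀ t : ℕ, t.Prime → t ∣ Nat.card G → t = 2 ∨ t = q ∨ t = r
  cen : center G = ⊥
  com : _root_.commutator G ≠ ⊥
  nor : ∀ K : Subgroup G, K.Normal → K ≠ ⊥ → ∀ y, PE q y ∨ PE r y → y ∈ K
  dis : ∀ g : G, q ∣ orderOf g → ¬ r ∣ orderOf g

namespace T3

variable {q r : ℕ} (h : T3 G q r) {χ : G → ℂ} {m s : ℕ}
include h

theorem symm : T3 G r q :=
  ⟨h.hr, h.hq, h.ne.symm, h.r2, h.q2, fun t a b => by have := h.pr t a b; tauto, h.cen, h.com,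
    fun K a b y c => h.nor K a b y c.symm, fun g a b => h.dis g b a⟩

theorem faith (hχ : IsIrrCharacter G χ) (hm : χ 1 = m) (h1 : q ∣ m) : charKer χ = ⊥ := by
  by_contra e
  have hN := charKer_normal (isIrr_classFun hχ)
  have := Fact.mk h.hq.pr
  obtain ⟨ψ, hψ, e1⟩ := isIrr_exists_quotient (charKer χ) hχ le_rfl
  obtain ⟨P⟩ : Nonempty (Sylow q G) := inferInstance
  exact FGS.not_dvd_index_of_sylow_le P (fun y hy => h.nor _ hN e y (Or.inl
    (pe_of_mem P.isPGroup' hy))) (h1.trans (isIrr_degree_dvd_card hψ ((congrFun e1 1).symm.trans hm)))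

theorem van (hχ : IsIrrCharacter G χ) (hm : χ 1 = m) (h1 : q ∣ m)
    (h2 : ∀ t : ℕ, t.Prime → t ∣ m → t = q) {g : G} (g1 : g ≠ 1) (h3 : ¬ q ∣ (cz g).index) :
    χ g = 0 :=
  (isIrr_eq_zero_or_norm_eq_of_coprime hχ g hm (Nat.coprime_of_dvd fun t ht a => h2 t ht a ▸ h3)).resolve_right
    fun e => g1 (mem_bot.1 (h.cen ▸ charCenter_eq_center hχ (h.faith hχ hm h1) ▸
      (mem_charCenter_iff (isIrr_isChar hχ)).2 e))

theorem dvd_of_odd {α : G → ℂ} (ha : Al q α) (hχ : IsIrrCharacter G χ) (hm : χ 1 = m) (h0 : 1 < m)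
    (h1 : ¬ 2 ∣ m) (h2 : classInner α χ ≠ 0) : r ∣ m := by
  by_contra h3
  have k : ∀ t : ℕ, t.Prime → t ∣ m → t = q := fun t ht e => by
    rcases h.pr t ht (e.trans (isIrr_degree_dvd_card hχ hm)) with rfl | rfl | rfl
    exacts [absurd e h1, rfl, absurd e h3]
  obtain ⟨t, ht, e⟩ := Nat.exists_prime_and_dvd h0.ne'
  refine h2 ?_
  rw [classInner_def, Finset.sum_eq_zero fun g _ => ?_, mul_zero]
  by_cases e' : q ∣ orderOf g
  · rw [h.van hχ hm (k t ht e ▸ e) k (fun e1 => h.hq.pr.not_dvd_one (by rwa [e1, orderOf_one] at e'))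
      (h.hq.sing e'), map_zero, mul_zero]
  · rw [ha.supp g e', zero_mul]

theorem false_of {α β ψ : G → ℂ} (ha : Al q α) (hb : Al r β) (hψ : IsIrrCharacter G ψ)
    (h1 : ψ ≠ fun _ => 1) (e1 : classInner α ψ = (1 : ℤ)) (e2 : classInner β ψ = (-1 : ℤ)) {u : G}
    (hu : orderOf u = 2) (h2 : ¬ q ∣ (cz u).index ∨ ¬ r ∣ (cz u).index) : False := by
  have hq := h.hq.pr
  have hr := h.hr.pr
  obtain ⟨φ, hφ, f1⟩ := ha.third hq hψ h1 (Or.inl rfl) e1
  obtain ⟨φ', hφ', f2⟩ := hb.third hr hψ h1 (Or.inr rfl) e2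
  obtain ⟨b, b0, hb1⟩ := isIrr_degree hφ'
  have n1 : ψ 1 = (b + 1 : ℕ) := by
    have := f2 1 (by rw [orderOf_one]; exact hr.not_dvd_one)
    rw [hb1] at this
    push_cast at this ⊢; linear_combination -this
  have n2 : φ 1 = (b + 2 : ℕ) := by
    rw [f1 1 (by rw [orderOf_one]; exact hq.not_dvd_one), n1]; push_cast; ring
  have d1 := isIrr_degree_dvd_card hφ' hb1
  have d2 := isIrr_degree_dvd_card hφ n2
  by_cases h3 : 2 ∣ b + 1
  · by_cases h4 : b = 1
    · subst h4
      obtain ⟨y, hy⟩ := exists_prime_orderOf_dvd_card' (hp := ⟨hq⟩) q h.hq.dvd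
      obtain ⟨w, hw⟩ := exists_prime_orderOf_dvd_card' (hp := ⟨hr⟩) r h.hr.dvd
      have g1 := apply_eq_of_mem_charKer (h.nor _ (charKer_normal (isIrr_classFun hφ'))
        (ne_bot_of_le_ne_bot h.com (commutator_le_charKer (isIrr_isChar hφ') (by simpa using hb1)))
        y (Or.inl (pe_of_ord hy)))
      rw [f2 y (h.dis y hy.symm.dvd), f2 1 (by rw [orderOf_one]; exact hr.not_dvd_one),
        add_left_inj, ← mem_charKer_iff (isIrr_isChar hψ)] at g1
      have g2 := apply_eq_of_mem_charKer (h.nor _ (charKer_normal (isIrr_classFun hψ)) (fun e =>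
        FGS.ne_one_of_orderOf_prime hq hy (mem_bot.1 (e ▸ g1))) w (Or.inr (pe_of_ord hw)))
      have g3 : w ∈ charKer φ := (mem_charKer_iff (isIrr_isChar hφ)).2 (by
        rw [f1 w (h.symm.dis w hw.symm.dvd), f1 1 (by rw [orderOf_one]; exact hq.not_dvd_one), g2])
      have g4 : charKer φ = ⊥ := by
        rcases h.pr 3 Nat.prime_three d2 with e | e | e
        exacts [absurd e (by norm_num), h.faith hφ n2 (e ▸ dvd_rfl), h.symm.faith hφ n2 (e ▸ dvd_rfl)]
      exact FGS.ne_one_of_orderOf_prime hr hw (mem_bot.1 (g4 ▸ g3))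
    obtain ⟨s, hs, s1⟩ := Nat.exists_prime_and_dvd h4
    obtain ⟨t, ht, t1⟩ := Nat.exists_prime_and_dvd (n := b + 2) (by omega)
    have k1 : ∀ s : ℕ, s.Prime → s ∣ b ∨ s ∣ b + 2 → s = q ∨ s = r := fun s hs e =>
      (h.pr s hs (e.elim (·.trans d1) (·.trans d2))).resolve_left (by rintro rfl; omega)
    have k2 : ∀ s : ℕ, s.Prime → s ∣ b → ¬ s ∣ b + 2 := fun s hs e e' => by
      have := (Nat.prime_dvd_prime_iff_eq hs Nat.prime_two).1 ((Nat.dvd_add_right e).1 e')
      subst this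
      omega
    have u1 := (Ben.sq_of_two hu).1
    have k3 : ∀ {q r : ℕ}, T3 G q r → (∀ s : ℕ, s.Prime → s ∣ b ∨ s ∣ b + 2 → s = q ∨ s = r) →
        ¬ q ∣ (cz u).index → φ u = 0 ∨ φ' u = 0 := fun {q r} h k1 e => by
      by_cases e' : q ∣ b
      · obtain rfl := (k1 t ht (Or.inr t1)).resolve_left fun e => k2 q h.hq.pr e' (e ▸ t1)
        exact Or.inr (h.van hφ' hb1 e' (fun v hv e1 => (k1 v hv (Or.inl e1)).resolve_right
          fun e => k2 v hv e1 (e ▸ t1)) u1 e)
      · obtain rfl := (k1 s hs (Or.inl s1)).resolve_left fun e => e' (e ▸ s1)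
        have k4 : ∀ v : ℕ, v.Prime → v ∣ b + 2 → v = q := fun v hv e1 =>
          (k1 v hv (Or.inr e1)).resolve_right fun e => k2 v hv (e ▸ s1) e1
        exact Or.inl (h.van hφ n2 (k4 t ht t1 ▸ t1) k4 u1 e)
    have k5 : ∀ {s : ℕ}, s.Prime → s ≠ 2 → ¬ s ∣ orderOf u := fun hs e e' =>
      e ((Nat.prime_dvd_prime_iff_eq hs Nat.prime_two).1 (hu ▸ e'))
    obtain ⟨j, hj⟩ := inv_parity (isIrr_isChar hψ) hu
    rw [n1] at hj
    rcases h2.elim (k3 h k1) (k3 h.symm fun s a b => (k1 s a b).symm) with e | e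
    · rw [f1 u (k5 hq h.q2)] at e
      have : ((2 * j : ℕ) : ℂ) = (b + 2 : ℕ) := by push_cast at *; linear_combination hj - e
      have := Nat.cast_injective this
      omega
    · rw [f2 u (k5 hr h.r2)] at e
      have : ((2 * j : ℕ) : ℂ) = (b : ℕ) := by push_cast at *; linear_combination hj - e
      have := Nat.cast_injective this
      omega
  · have g1 := h.dvd_of_odd ha hψ n1 (by omega) h3 (by rw [e1]; norm_num)
    have g2 := h.symm.dvd_of_odd hb hψ n1 (by omega) h3 (by rw [e2]; norm_num)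
    have k : ∀ m, m ∣ Nat.card G → m.Coprime (b + 1) → ¬ 4 ∣ m → m ≤ 2 := fun m a c d => by
      obtain ⟨i, rfl⟩ : ∃ i, m = 2 ^ i := ⟨_, Nat.eq_prime_pow_of_unique_prime_dvd
        (ne_zero_of_dvd_ne_zero Nat.card_pos.ne' a) fun {t} ht e => by
          rcases h.pr t ht (e.trans a) with rfl | rfl | rfl
          exacts [rfl, absurd (Nat.eq_one_of_dvd_coprimes c e g2) ht.ne_one,
            absurd (Nat.eq_one_of_dvd_coprimes c e g1) ht.ne_one]⟩
      rcases i with _ | _ | i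
      · norm_num
      · norm_num
      · exact absurd ⟨2 ^ i, by ring⟩ d
    have k1 := k b d1 (by simp)
    have k2 := k (b + 2) d2 (by rw [show b + 2 = b + 1 + 1 by rfl]; simp)
    have := Nat.le_of_dvd (by omega) g1
    have := Nat.le_of_dvd (by omega) g2
    have := hq.two_le; have := hr.two_le; have := h.ne; have := h.q2; have := h.r2
    omega

theorem inv_dvd (P : Sylow q G) (hP : aut (P : Subgroup G) = 2) (R : Sylow r G)
    (hR : aut (R : Subgroup G) = 2) {u : G} (hu : orderOf u = 2) :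
    q ∣ (cz u).index ∧ r ∣ (cz u).index := by
  obtain ⟨α, ha⟩ := h.hq.exists_al P hP
  obtain ⟨β, hb⟩ := h.hr.exists_al R hR
  by_contra e
  obtain ⟨ψ, h1, h2, ⟨h3, h4⟩ | ⟨h3, h4⟩⟩ := ha.common hb h.dis
  · exact h.false_of ha hb h1 h2 h3 h4 hu (not_and_or.1 e)
  · exact h.symm.false_of hb ha h1 h2 h3 h4 hu (not_and_or.1 e).symm

end T3

end Cfsg.Agent.Part
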