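import Mathlib
import Cfsg.Agent.Part.Sg2
import Cfsg.Agent.Part.L2c

set_option autoImplicit false
set_option linter.unusedSectionVars false

/-! Groups with trivial Fitting subgroup whose class sizes have at most two prime divisors. -/

namespace Cfsg.Agent.Part

open Subgroup Core GW
open scoped Pointwise

variable {G : Type*} [Group G] [Finite G]

theorem sq_dvd_relIndex {p : ℕ} [hp : Fact p.Prime] {P : Subgroup G} (hP : IsPGroup p P) {a b : G}
    (ha : a ∈ P) (hb : b ∈ P) (e : a * b ≠ b * a) :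
    p ^ 2 ∣ (centralizer (P : Set G)).relIndex P ∧ ((centralizer (P : Set G)).relIndex P = p ^ 2 →
      ∀ c ∈ P, c ^ p ∈ centralizer (P : Set G)) := by
  have h1 : (centralizer (P : Set G)).subgroupOf P = center P := by
    ext x
    exact ⟨fun h => mem_center_iff.2 fun y => Subtype.ext (h y y.2),
      fun h y hy => congrArg Subtype.val (mem_center_iff.1 h ⟨y, hy⟩)⟩
  have h2 : ¬ IsCyclic (P ⧸ center P) := fun h => e (congrArg Subtype.val
    (commutative_of_cyclic_center_quotient (QuotientGroup.mk' (center P)) (by simp) ⟨a, ha⟩ ⟨b, hb⟩))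
  obtain ⟨k, hk⟩ := hP.index (center P)
  rw [relIndex, h1]
  refine ⟨hk ▸ pow_dvd_pow p ?_, fun h c hc => ?_⟩
  · by_contra! h3
    refine h2 (isCyclic_of_card_dvd_prime (p := p) ?_)
    rw [← index_eq_card, hk]
    exact (pow_dvd_pow p (by omega)).trans (pow_one p).dvd
  · have h3 : orderOf ((⟨c, hc⟩ : P) : P ⧸ center P) ∣ p ^ 2 := by
      rw [← h, index_eq_card]; exact orderOf_dvd_natCard _
    obtain ⟨j, hj, h4⟩ := (Nat.dvd_prime_pow hp.out).1 h3
    have h5 : j ≤ 1 := by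
      by_contra! h5
      exact h2 (isCyclic_of_orderOf_eq_card _ (by
        rw [h4, ← index_eq_card, h, show j = 2 by omega]))
    have h6 : ((⟨c, hc⟩ : P) : P ⧸ center P) ^ p = 1 :=
      orderOf_dvd_iff_pow_eq_one.1 (h4 ▸ (pow_dvd_pow p h5).trans (pow_one p).dvd)
    rw [← QuotientGroup.mk_pow, QuotientGroup.eq_one_iff, ← h1] at h6
    exact h6

theorem relIndex_dvd_aut (P : Subgroup G) : (centralizer (P : Set G)).relIndex P ∣ aut P :=
  FGS.relIndex_dvd_relIndex_of_normal le_normalizer le_rfl _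

theorem not_dvd_aut {p : ℕ} [Fact p.Prime] (P : Sylow p G) (h : ∀ a ∈ P, ∀ b ∈ P, a * b = b * a) :
    ¬ p ∣ aut (P : Subgroup G) := fun e =>
  FGS.not_dvd_index_of_sylow_le (H := centralizer ((P : Subgroup G) : Set G)) P
    (fun a ha b hb => h b hb a ha) (e.trans (relIndex_dvd_index_of_le (centralizer_le_normalizer _)))

/-- Trivial Fitting subgroup and at most two primes in each class size. -/
structure S2 (G : Type*) [Group G] : Prop where
  nt : Nontrivial G
  fit : fittingSubgroup G = ⊥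
  two : ∀ x : G, (cz x).index.primeFactors.card ≤ 2

theorem mem_pf {H : Subgroup G} {s : ℕ} (hs : s.Prime) : s ∈ H.index.primeFactors ↔ s ∣ H.index :=
  ⟨Nat.dvd_of_mem_primeFactors, fun h => Nat.mem_primeFactors.2 ⟨hs, h, index_ne_zero_of_finite⟩⟩

namespace S2

variable (h : S2 G) {x y w g : G} {s t : ℕ}
include h

theorem ns : ¬ Group.IsSolvable G := have := h.nt; not_solv_of_fit h.fit

theorem cen : center G = ⊥ := center_bot_of_fit h.fit

theorem two_le (hx : x ≠ 1) : 2 ≤ (cz x).index.primeFactors.card := by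
  have h0 : (cz x).index ≠ 0 := index_ne_zero_of_finite
  have h1 : (cz x).index ≠ 1 := fun e => hx (eq_one_of_index h.fit Nat.prime_two (k := 0) e)
  rcases pow_or_two (n := (cz x).index) (by omega) with ⟨q, j, hq, -, e⟩ | ⟨q, r, hq, hr, e, h2, h3⟩
  · exact absurd (eq_one_of_index h.fit hq e) hx
  · exact Finset.one_lt_card.2 ⟨q, (mem_pf hq).2 h2, r, (mem_pf hr).2 h3, e⟩

theorem dvd_of_dvd {m : ℕ} (h2 : 2 ≤ m.primeFactors.card) (e : m ∣ (cz g).index) (hs : s.Prime)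
    (h1 : s ∣ (cz g).index) : s ∣ m :=
  Nat.dvd_of_mem_primeFactors (Finset.eq_of_subset_of_card_le (Nat.primeFactors_mono e
    index_ne_zero_of_finite) ((h.two g).trans h2) ▸ (mem_pf hs).2 h1)

theorem up (hy : y ≠ 1) (e : cz g ≤ cz y) (hs : s.Prime) (h1 : ¬ s ∣ (cz y).index) :
    ¬ s ∣ (cz g).index := fun h2 => h1 (h.dvd_of_dvd (h.two_le hy) (index_dvd_of_le e) hs h2)

theorem sub (K : Subgroup G) [K.Normal] (hK : K ≠ ⊥) : S2 K :=
  ⟨(nontrivial_iff_ne_bot K).2 hK, by rw [fitting_eq_subgroupOf, h.fit, bot_subgroupOf], fun x =>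
    (Finset.card_le_card (Nat.primeFactors_mono (FGS.index_centralizer_normal_dvd K x)
      index_ne_zero_of_finite)).trans (h.two x)⟩

theorem no_compl (hs : s.Prime) (h1 : s ∣ Nat.card G) : ¬ HasNormalPComplement s G := by
  have := Fact.mk hs
  rintro ⟨P, K, hK, hc⟩
  have h2 : ∀ x ∈ K, ∃ Q : Sylow s G, (Q : Subgroup G) ≤ cz x := fun x hx => by
    by_cases e : x = 1
    · exact ⟨P, fun y _ => by simp [e, mem_cz]⟩
    have hK' : K ≠ ⊥ := fun e' => e (mem_bot.1 (e' ▸ hx))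
    refine FGS.exists_sylow_le_of_not_dvd_index fun e' => P.not_dvd_index ?_
    rw [hc.index_eq_card]
    exact (h.dvd_of_dvd ((h.sub K hK').two_le (x := ⟨x, hx⟩) (by simpa using e))
      (FGS.index_centralizer_normal_dvd K ⟨x, hx⟩) hs e').trans (index_dvd_card _)
  have h3 : (centralizer ((P : Subgroup G) : Set G)).subgroupOf K = ⊤ :=
    FGS.eq_top_of_forall_conj_mem _ fun x => by
      obtain ⟨Q, hQ⟩ := h2 x x.2
      obtain ⟨g, rfl⟩ := MulAction.exists_smul_eq G P Q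
      obtain ⟨⟨k, v⟩, rfl, -⟩ := hc.existsUnique g
      refine ⟨k⁻¹, fun y hy => ?_⟩
      have h4 := mem_cz.1 (hQ (smul_mem_pointwise_smul _ (MulAut.conj ((k : G) * v)) _
        (mul_mem (mul_mem (inv_mem v.2) hy) v.2)))
      change (k : G) * v * ((v : G)⁻¹ * y * v) * ((k : G) * v)⁻¹ * x =
        x * ((k : G) * v * ((v : G)⁻¹ * y * v) * ((k : G) * v)⁻¹) at h4
      change y * ((k : G)⁻¹ * x * (k : G)⁻¹⁻¹) = (k : G)⁻¹ * x * (k : G)⁻¹⁻¹ * y
      calc _ = (k : G)⁻¹ * ((k : G) * v * ((v : G)⁻¹ * y * v) * ((k : G) * v)⁻¹ * x) * k := by group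
        _ = _ := by rw [h4]; group
  have h4 : (P : Subgroup G).Normal := normalizer_eq_top_iff.1 (eq_top_iff.2 (hc.sup_eq_top ▸
    sup_le ((subgroupOf_eq_top.1 h3).trans (centralizer_le_normalizer _)) le_normalizer))
  have h5 := P.dvd_card_of_dvd_card h1
  rw [eq_bot_iff.2 (((le_pCore h4 P.isPGroup').trans (pCore_le_fitting s)).trans_eq h.fit),
    card_bot] at h5
  exact hs.not_dvd_one h5

theorem two_le_aut' (hs : s.Prime) (h1 : s ∣ Nat.card G) (P : Sylow s G) :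
    2 ≤ aut (P : Subgroup G) := by
  have := Fact.mk hs
  have := Fintype.ofFinite G
  exact two_le_aut P (h.no_compl hs h1)

omit h in
theorem card_Er' [Fintype G] (hs : s.Prime) (P : Sylow s G) :
    aut (P : Subgroup G) * ((Er G s).card + 1) ≤ Nat.card G := by
  have := Fact.mk hs
  exact (Nat.mul_le_mul_left _ (Nat.add_le_add_left (Nat.pos_of_ne_zero index_ne_zero_of_finite)
    _)).trans (card_Er P)

theorem pi_le : (Nat.card G).primeFactors.card ≤ 3 := by
  have := Fintype.ofFinite G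
  have h1 := sum_Er _ (fun r hr => Nat.prime_of_mem_primeFactors (n := Nat.card G) hr) h.two
  have h2 : ∑ r ∈ (Nat.card G).primeFactors, 2 * ((Er G r).card + 1) ≤
      ∑ r ∈ (Nat.card G).primeFactors, Nat.card G := Finset.sum_le_sum fun r hr => by
    obtain ⟨P⟩ : Nonempty (Sylow r G) := inferInstance
    have hr' := Nat.prime_of_mem_primeFactors hr
    exact (Nat.mul_le_mul_right _ (h.two_le_aut' hr' (Nat.dvd_of_mem_primeFactors hr) P)).trans
      (card_Er' hr' P)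
  rw [← Finset.mul_sum, Finset.sum_add_distrib, Finset.sum_const, Finset.sum_const, smul_eq_mul,
    smul_eq_mul] at h2
  obtain ⟨m, hm⟩ : ∃ m, Nat.card G = m + 1 := Nat.exists_eq_succ_of_ne_zero Nat.card_pos.ne'
  generalize (Nat.card G).primeFactors.card = k at *
  rw [hm] at h1 h2
  simp only [Nat.add_sub_cancel] at h1
  by_contra! e
  nlinarith

theorem l1 (hx : x ≠ 1) (hs : s.Prime) (ht : t.Prime) (e : s ≠ t) (h1 : s ∣ Nat.card G)
    (h2 : t ∣ Nat.card G) (h3 : ¬ s ∣ (cz x).index) : t ∣ (cz x).index := by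
  by_contra h4
  have h0 : Nat.card G ≠ 0 := Nat.card_pos.ne'
  have h5 : (cz x).index.primeFactors ⊆ ((Nat.card G).primeFactors.erase s).erase t := fun r hr => by
    simp only [Finset.mem_erase]
    exact ⟨fun e => h4 (e ▸ Nat.dvd_of_mem_primeFactors hr),
      fun e => h3 (e ▸ Nat.dvd_of_mem_primeFactors hr),
      Nat.primeFactors_mono (index_dvd_card _) h0 hr⟩
  have h6 := (h.two_le hx).trans (Finset.card_le_card h5)
  rw [Finset.card_erase_of_mem (Finset.mem_erase.2 ⟨e.symm, Nat.mem_primeFactors.2 ⟨ht, h2, h0⟩⟩),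
    Finset.card_erase_of_mem (Nat.mem_primeFactors.2 ⟨hs, h1, h0⟩)] at h6
  have := h.pi_le
  omega

theorem no_comm (hy : y ≠ 1) (hw : w ∈ cz y) (hs : s.Prime) (ht : t.Prime) (e : s ≠ t)
    (h1 : PE s y) (h2 : orderOf w = t) (h3 : ¬ s ∣ (cz y).index) (h4 : ¬ t ∣ (cz w).index) :
    False := by
  have w1 := FGS.ne_one_of_orderOf_prime ht h2
  have h5 := PE.coprime hs ht e h1 (pe_of_ord h2)
  have h6 := cz_mul hw h5
  refine h.up w1 (h6 ▸ inf_le_right) ht h4 (h.l1 (fun e1 => ?_) hs ht e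
    (card_top (G := G) ▸ h1.dvd hy (mem_top y)) (h2 ▸ orderOf_dvd_natCard w)
    (h.up hy (h6 ▸ inf_le_left) hs h3))
  rw [eq_inv_of_mul_eq_one_left e1, orderOf_inv, Nat.coprime_self, orderOf_eq_one_iff] at h5
  exact w1 h5

theorem exists_pi : ∃ q r : ℕ, q.Prime ∧ r.Prime ∧ q ≠ r ∧ q ≠ 2 ∧ r ≠ 2 ∧ q ∣ Nat.card G ∧
    r ∣ Nat.card G ∧ ∀ t : ℕ, t.Prime → t ∣ Nat.card G → t = 2 ∨ t = q ∨ t = r := by
  have := h.nt
  have h0 : Nat.card G ≠ 0 := Nat.card_pos.ne'
  obtain ⟨q, hq, q2, -, h1⟩ := exists_third h.ns Nat.prime_two Nat.prime_two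
  obtain ⟨r, hr, r2, e, h2⟩ := exists_third h.ns Nat.prime_two hq
  obtain ⟨x, hx⟩ := h1.dvd hq
  obtain ⟨y, hy⟩ := h2.dvd hr
  have h3 := hx.trans (index_dvd_card _)
  have h4 := hy.trans (index_dvd_card _)
  refine ⟨q, r, hq, hr, e.symm, q2, r2, h3, h4, fun t ht h5 => ?_⟩
  have h6 : ({2, q, r} : Finset ℕ) = (Nat.card G).primeFactors :=
    Finset.eq_of_subset_of_card_le (by
      simp [Finset.subset_iff, hq, hr, h3, h4, h0, Nat.prime_two, (even_card h.fit).two_dvd])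
      (h.pi_le.trans_eq (Finset.card_eq_three.2 ⟨2, q, r, q2.symm, r2.symm, e.symm, rfl⟩).symm)
  have h7 := Nat.mem_primeFactors.2 ⟨ht, h5, h0⟩
  rw [← h6] at h7
  simpa using h7

theorem ineq {q r : ℕ} (hq : q.Prime) (hr : r.Prime) (e : q ≠ r) (q2 : q ≠ 2) (r2 : r ≠ 2)
    (S : Sylow 2 G) (Q : Sylow q G) (R : Sylow r G) :
    aut (S : Subgroup G) * aut (Q : Subgroup G) * aut (R : Subgroup G) <
      aut (Q : Subgroup G) * aut (R : Subgroup G) + aut (S : Subgroup G) * aut (R : Subgroup G) +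
        aut (S : Subgroup G) * aut (Q : Subgroup G) := by
  have := Fintype.ofFinite G
  have h1 := sum_Er (G := G) {2, q, r} (by simp [hq, hr, Nat.prime_two]) h.two
  rw [Finset.card_eq_three.2 ⟨2, q, r, q2.symm, r2.symm, e, rfl⟩,
    Finset.sum_insert (by simp [q2.symm, r2.symm]), Finset.sum_pair e] at h1
  have h2 := card_Er' Nat.prime_two S
  have h3 := card_Er' hq Q
  have h4 := card_Er' hr R
  have a0 : 0 < aut (S : Subgroup G) * aut (Q : Subgroup G) * aut (R : Subgroup G) :=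
    Nat.mul_pos (Nat.mul_pos (Nat.pos_of_ne_zero index_ne_zero_of_finite)
      (Nat.pos_of_ne_zero index_ne_zero_of_finite)) (Nat.pos_of_ne_zero index_ne_zero_of_finite)
  generalize aut (S : Subgroup G) = a at *
  generalize aut (Q : Subgroup G) = b at *
  generalize aut (R : Subgroup G) = c at *
  have h5 : Nat.card G + 1 ≤ (Er G 2).card + 1 + ((Er G q).card + 1) + ((Er G r).card + 1) := by omega
  have h6 := Nat.mul_le_mul_left (a * b * c) h5
  have h7 := Nat.mul_le_mul_left (b * c) h2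
  have h8 := Nat.mul_le_mul_left (a * c) h3
  have h9 := Nat.mul_le_mul_left (a * b) h4
  refine Nat.lt_of_mul_lt_mul_right (a := Nat.card G) ?_
  nlinarith

theorem ts (hs : s.Prime) (h1 : s ∣ Nat.card G) (ab : ∀ P : Sylow s G, ∀ a ∈ P, ∀ b ∈ P, a * b = b * a) :
    TS G s := by
  have := Fact.mk hs
  refine ⟨hs, h1, ab, fun y g y1 ⟨k, hk⟩ e => h.up y1 e hs ?_⟩
  obtain ⟨P, hP⟩ := FGS.exists_sylow_mem hk
  exact FGS.not_dvd_index_of_sylow_le P fun a ha => mem_cz.2 (ab P a ha y hP)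

theorem three_le (S : Sylow 2 G) : 3 ≤ aut (S : Subgroup G) := by
  have := h.nt
  have h1 := h.two_le_aut' Nat.prime_two (even_card h.fit).two_dvd S
  by_cases e : ∀ a ∈ S, ∀ b ∈ S, a * b = b * a
  · have := not_dvd_aut S e
    omega
  · push Not at e
    obtain ⟨a, ha, b, hb, e⟩ := e
    have := (sq_dvd_relIndex S.isPGroup' ha hb e).1.trans (relIndex_dvd_aut _)
    omega

theorem ts_odd {q r : ℕ} (hq : q.Prime) (hr : r.Prime) (e : q ≠ r) (q2 : q ≠ 2) (r2 : r ≠ 2)
    (h1 : q ∣ Nat.card G) (h2 : r ∣ Nat.card G) : TS G q := by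
  refine h.ts hq h1 fun Q a ha b hb => by_contra fun e1 => ?_
  have := Fact.mk hq
  obtain ⟨S⟩ : Nonempty (Sylow 2 G) := inferInstance
  obtain ⟨R⟩ : Nonempty (Sylow r G) := inferInstance
  have h3 := h.ineq hq hr e q2 r2 S Q R
  have h4 := h.three_le S
  have h5 := h.two_le_aut' hr h2 R
  have h6 := Nat.le_of_dvd (Nat.pos_of_ne_zero index_ne_zero_of_finite)
    ((sq_dvd_relIndex Q.isPGroup' ha hb e1).1.trans (relIndex_dvd_aut _))
  have h7 : 3 ≤ q := by have := hq.two_le; omega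
  have h8 : 9 ≤ aut (Q : Subgroup G) := le_trans (by nlinarith) h6
  obtain ⟨a, ha⟩ := Nat.exists_eq_add_of_le h4
  obtain ⟨b, hb⟩ := Nat.exists_eq_add_of_le h8
  obtain ⟨c, hc⟩ := Nat.exists_eq_add_of_le h5
  rw [ha, hb, hc] at h3
  nlinarith [Nat.zero_le (a * b * c), Nat.zero_le (a * b), Nat.zero_le (a * c), Nat.zero_le (b * c)]

theorem nor (hT : TS G s) (K : Subgroup G) [hK : K.Normal] (h1 : s ∣ Nat.card K) (hy : PE s y) :
    y ∈ K := by
  have := Fact.mk hT.pr
  have := Fintype.ofFinite G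
  obtain ⟨P'⟩ : Nonempty (Sylow s K) := inferInstance
  have h2 := (h.sub K fun e => hT.pr.not_dvd_one (by rwa [e, card_bot] at h1)).two_le_aut' hT.pr h1 P'
  obtain ⟨x, hx, h3⟩ : ∃ x ∈ normalizer ((P' : Subgroup K) : Set K),
      x ∉ centralizer ((P' : Subgroup K) : Set K) :=
    SetLike.not_le_iff_exists.1 fun e => (h2.trans_eq (relIndex_eq_one.2 e)).not_gt one_lt_two
  obtain ⟨P, hP⟩ := (P'.isPGroup'.map K.subtype).exists_le_sylow
  obtain ⟨v, hv, h4⟩ : ∃ v ∈ P', v * x ≠ x * v := by simpa [mem_centralizer_iff] using h3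
  have h5 : (x : G) ∈ normalizer ((P : Subgroup G) : Set G) :=
    hT.ti P (hP ⟨v, hv, rfl⟩) (fun e => h4 (by rw [show v = 1 from Subtype.ext e]; simp))
      fun b hb => hT.ab P b hb _ (hP ⟨x * v * x⁻¹, (mem_normalizer_iff.1 hx v).1 hv, rfl⟩)
  have h6 : (P : Subgroup G) ≤ K := fun w hw => by
    obtain ⟨u, -, rfl⟩ := hT.fpf P h5 (fun e => h4 (Subtype.ext (e _ (hP ⟨v, hv, rfl⟩)))) hw
    exact mul_mem (hK.conj_mem _ x.2 u) (inv_mem x.2)
  obtain ⟨g, hg⟩ := exists_conj_pe hT.pr (FGS.not_dvd_index_of_sylow_le P h6) hy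
  simpa [mul_assoc] using hK.conj_mem _ hg g⁻¹

theorem exists_t3 : ∃ q r, T3 G q r := by
  have := Fintype.ofFinite G
  obtain ⟨q, r, hq, hr, e, q2, r2, h1, h2, h3⟩ := h.exists_pi
  have tq := h.ts_odd hq hr e q2 r2 h1 h2
  have tr := h.ts_odd hr hq e.symm r2 q2 h2 h1
  refine ⟨q, r, tq, tr, e, q2, r2, h3, h.cen, fun e1 => h.ns ⟨1, by simpa using e1⟩,
    fun K hK K0 y hy => ?_, fun g a b => ?_⟩
  · obtain ⟨q', r', a1, a2, a3, a4, a5, a6, a7, -⟩ := (h.sub K K0).exists_pi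
    have b1 := h3 q' a1 (a6.trans (card_subgroup_dvd_card K))
    have b2 := h3 r' a2 (a7.trans (card_subgroup_dvd_card K))
    have : q ∣ Nat.card K ∧ r ∣ Nat.card K := by
      rcases b1 with e | e | e <;> rcases b2 with e' | e' | e' <;> subst_vars <;> simp_all
    exact hy.elim (h.nor tq K this.1) (h.nor tr K this.2)
  · obtain ⟨i, hi⟩ := FGS.exists_pow_orderOf_eq a
    obtain ⟨j, hj⟩ := FGS.exists_pow_orderOf_eq b
    exact h.no_comm (FGS.ne_one_of_orderOf_prime hq hi) (mem_cz.2 (Commute.pow_pow_self g j i).eq)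
      hq hr e (pe_of_ord hi) hj (tq.sing hi.symm.dvd) (tr.sing hj.symm.dvd)

theorem inv_odd {u : G} (hu : orderOf u = 2) : ¬ 2 ∣ (cz u).index := by
  have := Fintype.ofFinite G
  obtain ⟨q, r, hT⟩ := h.exists_t3
  have hq := hT.hq.pr
  have hr := hT.hr.pr
  obtain ⟨S, hS⟩ := FGS.exists_sylow_mem (p := 2) (k := 1) hu
  by_cases e : ∀ a ∈ S, ∀ b ∈ S, a * b = b * a
  · exact FGS.not_dvd_index_of_sylow_le S fun a ha => mem_cz.2 (e a ha u hS)
  push Not at e
  obtain ⟨a, ha, b, hb, e⟩ := e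
  obtain ⟨h1, h2⟩ := sq_dvd_relIndex S.isPGroup' ha hb e
  have h3 := relIndex_dvd_aut (S : Subgroup G)
  by_cases h4 : aut (S : Subgroup G) = 4
  · have h5 := h2 (Nat.dvd_antisymm (h3.trans h4.dvd) h1)
    have h6 : ∀ c ∈ S, c * c = 1 ∨ c ∈ centralizer ((S : Subgroup G) : Set G) := fun c hc => by
      refine or_iff_not_imp_left.2 fun e1 => ?_
      rw [← sq] at e1
      have h7 : (S : Subgroup G) ≤ cz (c ^ 2) := fun d hd => mem_cz.2 (h5 c hc d hd)
      have h8 := FGS.not_dvd_index_of_sylow_le S h7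
      have h9 : IsPGroup 2 (cz (c ^ 2)) := IsPGroup.of_card (Nat.eq_prime_pow_of_unique_prime_dvd
        Nat.card_pos.ne' fun {t} ht e2 => by
          by_contra t2
          obtain ⟨w, hw, e3⟩ := FGS.exists_prime_orderOf_mem ht e2
          refine h.no_comm e1 hw Nat.prime_two ht (Ne.symm t2) (pe_of_mem S.isPGroup' (pow_mem hc 2))
            e3 h8 ?_
          rcases hT.pr t ht (e3 ▸ orderOf_dvd_natCard w) with e4 | e4 | e4
          exacts [absurd e4 t2, e4 ▸ hT.hq.sing (e3.trans e4).symm.dvd,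
            e4 ▸ hT.hr.sing (e3.trans e4).symm.dvd])
      have c1 := cz_le_zp (npow_mem_zpowers c 2)
      obtain ⟨P, hP⟩ := FGS.exists_sylow_le_of_not_dvd_index (h.up e1 c1 Nat.prime_two h8)
      rw [← P.is_maximal' S.isPGroup' ((hP.trans c1).trans_eq (S.is_maximal' h9 h7))] at hP
      exact fun d hd => mem_cz.1 (hP hd)
    have k1 := (h6 a ha).resolve_right fun e1 => e (e1 b hb).symm
    have k2 := (h6 b hb).resolve_right fun e1 => e (e1 a ha)
    have k3 := (h6 _ (mul_mem ha hb)).resolve_right fun e1 => e (mul_left_cancel (a := a)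
      ((e1 a ha).trans (mul_assoc _ _ _)))
    exact absurd (by rw [← inv_eq_of_mul_eq_one_right k3, mul_inv_rev, inv_eq_of_mul_eq_one_right k1,
      inv_eq_of_mul_eq_one_right k2]) e
  obtain ⟨Q⟩ : Nonempty (Sylow q G) := inferInstance
  obtain ⟨R⟩ : Nonempty (Sylow r G) := inferInstance
  have h5 := h.ineq hq hr hT.ne hT.q2 hT.r2 S Q R
  have h6 := h.three_le S
  have h7 := h1.trans h3
  obtain ⟨a, ha⟩ := Nat.exists_eq_add_of_le (show 8 ≤ aut (S : Subgroup G) by omega)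
  obtain ⟨b, hb⟩ := Nat.exists_eq_add_of_le (h.two_le_aut' hq hT.hq.dvd Q)
  obtain ⟨c, hc⟩ := Nat.exists_eq_add_of_le (h.two_le_aut' hr hT.hr.dvd R)
  rw [ha, hb, hc] at h5
  have h8 : b + c = 0 := by
    by_contra e
    nlinarith [Nat.zero_le (a * b * c), Nat.zero_le (a * b), Nat.zero_le (a * c), Nat.zero_le (b * c),
      Nat.pos_of_ne_zero e, Nat.mul_le_mul_left a (Nat.pos_of_ne_zero e)]
  obtain ⟨k1, k2⟩ := hT.inv_dvd Q (by omega) R (by omega) hu
  intro k3
  have := (Finset.card_le_card (s := {2, q, r}) (by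
    simp [Finset.subset_iff, hq, hr, k1, k2, k3, Nat.prime_two, index_ne_zero_of_finite])).trans (h.two u)
  rw [Finset.card_eq_three.2 ⟨2, q, r, hT.q2.symm, hT.r2.symm, hT.ne, rfl⟩] at this
  omega

theorem prime_ind (hs : s.Prime) (hy : orderOf y = s) : ¬ s ∣ (cz y).index := by
  have := Fintype.ofFinite G
  obtain ⟨q, r, hT⟩ := h.exists_t3
  rcases hT.pr s hs (hy ▸ orderOf_dvd_natCard y) with e | e | e
  exacts [e ▸ h.inv_odd (hy.trans e), e ▸ hT.hq.sing (hy.trans e).symm.dvd,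
    e ▸ hT.hr.sing (hy.trans e).symm.dvd]

theorem fg : FG G := fun x y hy e => by
  have y1 : y ≠ 1 := fun e => hy (e ▸ one_mem _)
  refine le_antisymm e (relIndex_eq_one.1 (by_contra fun e1 => ?_))
  obtain ⟨t, ht, h1⟩ := Nat.exists_prime_and_dvd e1
  obtain ⟨u, hu, h2⟩ := Nat.exists_prime_and_dvd (mt orderOf_eq_one_iff.1 y1)
  obtain ⟨j, hj⟩ := FGS.exists_pow_orderOf_eq h2
  obtain ⟨w, hw, h3⟩ := FGS.exists_prime_orderOf_mem ht (h1.trans (relIndex_dvd_card _ _))
  have h4 := cz_le_zp (npow_mem_zpowers y j)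
  have h5 := FGS.ne_one_of_orderOf_prime hu hj
  refine h.no_comm h5 (h4 hw) hu ht (fun e2 => ?_) (pe_of_ord hj) h3 (h.prime_ind hu hj)
    (h.prime_ind ht h3)
  exact h.up h5 (e.trans h4) hu (h.prime_ind hu hj) (e2 ▸ h1.trans (relIndex_dvd_index_of_le e))

theorem psl : ∃ (F : Type) (_ : Field F) (_ : Fintype F), (Fintype.card F = 4 ∨ Fintype.card F = 8) ∧
    Nonempty (G ≃* Matrix.ProjectiveSpecialLinearGroup (Fin 2) F) := by
  obtain ⟨F, _, _, ⟨n, hn, hF⟩, ⟨e⟩⟩ := h.fg.ps h.cen h.ns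
  refine ⟨F, inferInstance, inferInstance, ?_, ⟨e⟩⟩
  obtain ⟨q, r, -, -, -, -, -, -, -, h1⟩ := h.exists_pi
  rw [Nat.card_congr e.toEquiv, CIT.F.card_psl2_even (by omega) hF] at h1
  obtain ⟨n, rfl⟩ := Nat.exists_eq_add_of_le hn
  obtain ⟨m, hm⟩ : ∃ m, 2 ^ (2 + n) = m + 1 := Nat.exists_eq_succ_of_ne_zero (by positivity)
  have h2 : m + 1 = 4 * 2 ^ n := by rw [← hm, pow_add]; rfl
  have h0 : 0 < 2 ^ n := by positivity
  rw [hm, show (m + 1) ^ 2 - 1 = m * (m + 2) from Nat.sub_eq_of_eq_add (by ring)] at h1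
  have k1 : ∀ s : ℕ, s.Prime → s ∣ m ∨ s ∣ m + 2 → s = q ∨ s = r := fun s hs e =>
    (h1 s hs (Dvd.dvd.mul_left (e.elim (·.mul_right _) (·.mul_left _)) _)).resolve_left
      (by rintro rfl; omega)
  have k2 : ∀ s : ℕ, s.Prime → s ∣ m → ¬ s ∣ m + 2 := fun s hs e e' => by
    have := (Nat.prime_dvd_prime_iff_eq hs Nat.prime_two).1 ((Nat.dvd_add_right e).1 e')
    subst this
    omega
  obtain ⟨s, hs, s1⟩ := Nat.exists_prime_and_dvd (n := m) (by omega)
  obtain ⟨t, ht, t1⟩ := Nat.exists_prime_and_dvd (n := m + 2) (by omega)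
  have k3 : ∀ k, ∃ j, 3 ^ k = 8 * j + 1 ∨ 3 ^ k = 8 * j + 3 := fun k => by
    induction k with
    | zero => exact ⟨0, by simp⟩
    | succ k ih =>
      obtain ⟨j, e | e⟩ := ih
      exacts [⟨3 * j, by rw [pow_succ, e]; omega⟩, ⟨3 * j + 1, by rw [pow_succ, e]; omega⟩]
  have h3 : ¬ 3 ∣ m + 1 := fun e => by
    have := Nat.prime_three.dvd_of_dvd_pow (hm ▸ e)
    omega
  rw [hF, hm]
  by_cases e3 : 3 ∣ m
  · have e4 : m = 3 ^ _ := Nat.eq_prime_pow_of_unique_prime_dvd (by omega) fun {v} hv e => by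
      have := k1 3 Nat.prime_three (Or.inl e3)
      have := k1 v hv (Or.inl e)
      have := k1 t ht (Or.inr t1)
      have : v ≠ t := fun e' => k2 v hv e (e' ▸ t1)
      have : 3 ≠ t := fun e' => k2 3 Nat.prime_three e3 (e' ▸ t1)
      omega
    obtain ⟨j, hj⟩ := k3 m.primeFactorsList.length
    rw [← e4] at hj
    rcases n with _ | n
    · omega
    · rw [pow_succ] at h2; omega
  · have e5 : 3 ∣ m + 2 := by clear * - e3 h3; omega
    have e4 : m + 2 = 3 ^ _ := Nat.eq_prime_pow_of_unique_prime_dvd (by omega) fun {v} hv e => by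
      have := k1 3 Nat.prime_three (Or.inr e5)
      have := k1 v hv (Or.inr e)
      have := k1 s hs (Or.inl s1)
      have : v ≠ s := fun e' => k2 s hs s1 (e' ▸ e)
      have : 3 ≠ s := fun e' => k2 s hs s1 (e' ▸ e5)
      omega
    generalize (m + 2).primeFactorsList.length = k at e4
    obtain ⟨i, rfl | rfl⟩ := Nat.even_or_odd' k
    · obtain ⟨c, hc⟩ : ∃ c, 3 ^ i = c + 1 := Nat.exists_eq_succ_of_ne_zero (by positivity)
      rw [mul_comm, pow_mul, hc] at e4
      have e6 : c * (c + 2) = 2 ^ (2 + n) := by rw [hm]; nlinarith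
      obtain ⟨a, -, ha⟩ := (Nat.dvd_prime_pow Nat.prime_two).1 (Dvd.intro _ e6)
      obtain ⟨b, -, hb⟩ := (Nat.dvd_prime_pow Nat.prime_two).1 (Dvd.intro_left _ e6)
      have : c = 2 := by
        rcases a with _ | _ | a
        · rw [ha, hm] at e6; clear * - e6 h2; omega
        · simpa using ha
        · rcases b with _ | _ | b
          · clear * - hb; omega
          · rw [pow_succ] at ha; clear * - ha hb; have := Nat.two_pow_pos (a + 1); omega
          · rw [pow_succ, pow_succ] at ha hb; clear * - ha hb; omega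
      subst this
      omega
    · obtain ⟨j, hj⟩ := k3 i
      rw [pow_succ, mul_comm 2, pow_mul] at e4
      rcases hj with hj | hj <;> rw [hj] at e4 <;> ring_nf at e4 <;> omega

end S2

end Cfsg.Agent.Part
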