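import Mathlib
import Cfsg.Agent.Part.Sg3
import Cfsg.Agent.FGS.Radical

set_option autoImplicit false
set_option linter.unusedSectionVars false

/-! Casolo's theorem on groups whose class sizes have at most two prime divisors. -/

namespace Cfsg.Agent.Part

open Subgroup Core GW
open scoped Pointwise

variable {G : Type*} [Group G] [Finite G]

theorem index_eq_relIndex_of_sup {H R : Subgroup G} [R.Normal] (h : H ⊔ R = ⊤) :
    H.index = H.relIndex R := by
  have h1 := relIndex_mul_index (inf_le_left : H ⊓ R ≤ H)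
  rw [← relIndex_mul_index (inf_le_right : H ⊓ R ≤ R), inf_relIndex_left, inf_relIndex_right,
    ← relIndex_sup_right H R, h, relIndex_top_right, mul_comm] at h1
  exact Nat.eq_of_mul_eq_mul_right (Nat.pos_of_ne_zero index_ne_zero_of_finite) h1

theorem map_comm_top {Q : Type*} [Group Q] [IsSimpleGroup Q] (hQ : center Q = ⊥) (f : G →* Q)
    {M N : Subgroup G} (hM : M.map f = ⊤) (hN : N.map f = ⊤) : ⁅M, N⁆.map f = ⊤ := by
  rw [map_commutator, hM, hN]
  refine (Normal.eq_bot_or_eq_top inferInstance).resolve_left fun e => ?_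
  rw [commutator_eq_bot_iff_le_centralizer, coe_top, centralizer_univ, hQ] at e
  exact top_ne_bot (top_le_iff.1 e).symm

/-- If for each prime `t` every coset in some non-trivial coset of the solvable normal subgroup `R`
with simple quotient has class sizes prime to `t`, then `R` is central. -/
theorem le_center_of_cosets (R : Subgroup G) [R.Normal] (hR : Group.IsSolvable R)
    [IsSimpleGroup (G ⧸ R)] (hQ : center (G ⧸ R) = ⊥)
    (h : ∀ t : ℕ, t.Prime → ∃ y : G ⧸ R, y ≠ 1 ∧ ∀ x : G, (x : G ⧸ R) = y → ¬ t ∣ (cz x).index) :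
    R ≤ center G := by
  obtain ⟨X, ⟨hX, h1⟩, h2⟩ := exists_minimal_of_wellFoundedLT
    (fun X : Subgroup G => X.Normal ∧ X.map (QuotientGroup.mk' R) = ⊤)
    ⟨⊤, inferInstance, map_top_of_surjective _ (QuotientGroup.mk'_surjective R)⟩
  have h3 : ∀ N : Subgroup G, N.Normal → N.map (QuotientGroup.mk' R) = ⊤ → X ≤ ⁅X, N⁆ :=
    fun N _ e => h2 ⟨inferInstance, map_comm_top hQ _ h1 e⟩ (commutator_le_left X N)
  have h4 : fittingSubgroup G ≤ centralizer (X : Set G) := by
    rw [fitting_eq_iSup_pCore]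
    refine iSup_le fun t => le_centralizer_iff.1 ((h3 _ inferInstance ?_).trans
      (commutator_le_right _ _))
    have := Fact.mk t.2
    obtain ⟨y, y1, hy⟩ := h t t.2
    obtain ⟨x, rfl⟩ := QuotientGroup.mk_surjective y
    refine (Normal.eq_bot_or_eq_top (Normal.map inferInstance _
      (QuotientGroup.mk'_surjective R))).resolve_left fun e => y1 (mem_bot.1 (e ▸ ⟨x, ?_, rfl⟩))
    exact fun a ha => mem_cz.1 (pCore_le_of_not_dvd_index (hy x rfl) ha)
  have h5 : ⁅⁅X, R⁆, X⁆ = ⊥ := commutator_eq_bot_iff_le_centralizer.2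
    ((le_fitting_of_solvable_of_le_centralizer _ (solvable_of_solvable_injective
      (inclusion_injective (commutator_le_right X R)))
      ((commutator_le_left X R).trans (le_centralizer_iff.1 h4))).trans h4)
  have h6 : X ≤ centralizer (R : Set G) := (h3 X hX h1).trans (commutator_eq_bot_iff_le_centralizer.1
    (commutator_commutator_eq_bot_of_rotate h5 (by rwa [commutator_comm R X])))
  intro ρ hρ
  refine FGS.index_centralizer_eq_one_iff.1 (by_contra fun e => ?_)
  obtain ⟨t, ht, e1⟩ := Nat.exists_prime_and_dvd e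
  have := Fact.mk ht
  obtain ⟨y, -, hy⟩ := h t ht
  obtain ⟨x, hx, rfl⟩ : y ∈ X.map (QuotientGroup.mk' R) := h1 ▸ mem_top y
  obtain ⟨P, hP⟩ := FGS.exists_sylow_le_of_not_dvd_index (hy (x * ρ) (by
    rw [QuotientGroup.mk_mul, (QuotientGroup.eq_one_iff ρ).2 hρ, mul_one]; rfl))
  have h7 : cz ρ ⊔ R = ⊤ := eq_top_iff.2 (by
    rw [← comap_top (QuotientGroup.mk' R), ← h1, comap_map_eq, QuotientGroup.ker_mk']
    exact sup_le_sup_right (fun a ha => mem_cz.2 (h6 ha ρ hρ).symm) R)
  refine FGS.not_dvd_relIndex_sylow_normal P R (e1.trans ?_)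
  rw [index_eq_relIndex_of_sup h7, ← inf_relIndex_right (P : Subgroup G)]
  refine relIndex_dvd_of_le_left R fun a ha => mem_cz.2 (mul_left_cancel (a := x) ?_)
  rw [← mul_assoc, ← h6 hx a ha.2, mul_assoc, mem_cz.1 (hP ha.1), mul_assoc]

theorem S2.exists_ndvd (h : S2 G) {t : ℕ} (ht : t.Prime) : ∃ y : G, y ≠ 1 ∧ ¬ t ∣ (cz y).index := by
  by_cases e : t ∣ Nat.card G
  · obtain ⟨y, hy⟩ := exists_prime_orderOf_dvd_card' (hp := ⟨ht⟩) t e
    exact ⟨y, FGS.ne_one_of_orderOf_prime ht hy, h.prime_ind ht hy⟩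
  · have := h.nt
    obtain ⟨y, hy⟩ := exists_ne (1 : G)
    exact ⟨y, hy, fun e1 => e (e1.trans (index_dvd_card _))⟩

theorem s2_quot (h : ∀ x : G, (cz x).index.primeFactors.card ≤ 2) (hs : ¬ Group.IsSolvable G)
    (R : Subgroup G) [R.Normal] (hR : R = solvableRadical G) : S2 (G ⧸ R) ∧
      ∀ (x : G) (t : ℕ), (x : G ⧸ R) ≠ 1 → t.Prime → t ∣ (cz x).index →
        t ∣ (cz (x : G ⧸ R)).index := by
  subst hR
  have k := fun x : G => Nat.primeFactors_mono (FGS.index_centralizer_map_dvd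
    (QuotientGroup.mk'_surjective (solvableRadical G)) x) index_ne_zero_of_finite
  have h1 : S2 (G ⧸ solvableRadical G) := ⟨QuotientGroup.nontrivial_iff.2
    (mt FGS.solvableRadical_eq_top_iff.1 hs), eq_bot_iff.2 ((FGS.le_solvableRadical
      fitting_solvable).trans_eq FGS.solvableRadical_quotient), fun y => by
    obtain ⟨x, rfl⟩ := QuotientGroup.mk'_surjective _ y
    exact (Finset.card_le_card (k x)).trans (h x)⟩
  exact ⟨h1, fun x t hx ht e => Nat.dvd_of_mem_primeFactors (Finset.eq_of_subset_of_card_le (k x)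
    ((h x).trans (h1.two_le hx)) ▸ (mem_pf ht).2 e)⟩

theorem casolo (h : ∀ x : G, (cz x).index.primeFactors.card ≤ 2) (hs : ¬ Group.IsSolvable G) :
    ∃ (F : Type) (_ : Field F) (_ : Fintype F), (Fintype.card F = 4 ∨ Fintype.card F = 8) ∧
      ∃ N : Subgroup G, N.Normal ∧ center G ⊓ N = ⊥ ∧ center G ⊔ N = ⊤ ∧
        Nonempty (N ≃* Matrix.ProjectiveSpecialLinearGroup (Fin 2) F) := by
  have hZ : center G = solvableRadical G := by
    have := FGS.solvableRadical_normal (G := G)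
    obtain ⟨h1, h2⟩ := s2_quot h hs _ rfl
    obtain ⟨F, _, _, hF, ⟨e⟩⟩ := h1.psl
    have := Matrix.ProjectiveSpecialLinearGroup.rank_two_simple (F := F) (by
      rw [Nat.card_eq_fintype_card]; omega)
    have := e.isSimpleGroup
    refine le_antisymm (FGS.le_solvableRadical solvable_of_isMulCommutative)
      (le_center_of_cosets _ FGS.solvableRadical_solvable h1.cen fun t ht => ?_)
    obtain ⟨y, y1, hy⟩ := h1.exists_ndvd ht
    exact ⟨y, y1, fun x e e1 => hy (e ▸ h2 x t (e ▸ y1) ht e1)⟩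
  obtain ⟨h1, h2⟩ := s2_quot h hs _ hZ
  obtain ⟨F, _, _, hF, ⟨e⟩⟩ := h1.psl
  have : CharP F 2 := hF.elim (fun e => charP_of_card_eq_prime_pow (p := 2) (f := 2) e)
    fun e => charP_of_card_eq_prime_pow (p := 2) (f := 3) e
  obtain ⟨N, A, hN, hA, -, h3, ⟨f⟩⟩ := direct (p := 2) (by rw [Nat.card_eq_fintype_card]; omega) e h1.cen
    (fun x hx => by
      by_cases e1 : (x : G ⧸ center G) = 1
      · exact le_top.trans_eq (not_not.1 (mt cz_ne_top.1
          (not_not.2 ((QuotientGroup.eq_one_iff x).1 e1)))).symm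
      refine relIndex_eq_one.1 (by_contra fun e2 => ?_)
      obtain ⟨t, ht, e3⟩ := Nat.exists_prime_and_dvd e2
      have h4 := orderOf_eq_prime hx e1
      obtain rfl := (Nat.prime_dvd_prime_iff_eq ht Nat.prime_two).1 (h4 ▸ dvd_of_dvd_cq ht e3)
      exact h1.prime_ind ht h4 (h2 x 2 e1 ht (cq_mul x ▸ e3.mul_right _)))
    fun t ht => by
      obtain ⟨y, y1, hy⟩ := h1.exists_ndvd ht
      obtain ⟨x, rfl⟩ := QuotientGroup.mk_surjective y
      exact ⟨x, mt (QuotientGroup.eq_one_iff x).2 y1, fun e1 => hy (h2 x t y1 ht e1)⟩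
  refine ⟨F, inferInstance, inferInstance, hF, N, hN, eq_bot_iff.2 fun x hx => ?_,
    eq_top_iff.2 (h3 ▸ sup_le le_sup_right (hA.trans le_sup_left)), ⟨f⟩⟩
  have h4 : (f.trans e.symm) ⟨x, hx.2⟩ ∈ center (G ⧸ center G) := mem_center_iff.2 fun y => by
    obtain ⟨y, rfl⟩ := (f.trans e.symm).surjective y
    rw [← map_mul, ← map_mul]
    exact congrArg _ (Subtype.ext (mem_center_iff.1 hx.1 y))
  rw [h1.cen, mem_bot, map_eq_one_iff _ (f.trans e.symm).injective] at h4
  exact congrArg Subtype.val h4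

end Cfsg.Agent.Part
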