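import Mathlib
import Cfsg.Agent.Part.Sg4
import Cfsg.Agent.Core.CoprimeGen
import Cfsg.Agent.Core.Coprime2

set_option autoImplicit false
set_option linter.unusedSectionVars false

/-! Groups with class sizes `1, m, m n` for coprime `m, n`: general lemmas. -/

namespace Cfsg.Agent.Part

open Subgroup Core GW
open scoped Pointwise

variable {G : Type*} [Group G] [Finite G]

local notation "𝐙" => center G
local notation "zi" x:max => Subgroup.relIndex (center G) (cz x)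

/-- In a solvable group in which `p`-elements have class size prime to `p`, the `p`-subgroups
are abelian. -/
theorem comm_of_pe_index [Group.IsSolvable G] {p : ℕ} [hp : Fact p.Prime]
    (h : ∀ v : G, PE p v → ¬ p ∣ (cz v).index) {R : Subgroup G} (hR : IsPGroup p R) {a b : G}
    (ha : a ∈ R) (hb : b ∈ R) : a * b = b * a := by
  have k : ∀ v ∈ R, pCore p (G ⧸ pPrimeCore p G) ≤ cz (QuotientGroup.mk' _ v) := fun v hv =>
    pCore_le_of_not_dvd_index fun e => h v (pe_of_mem hR hv)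
      (e.trans (FGS.index_centralizer_map_dvd (QuotientGroup.mk'_surjective _) v))
  have h1 := mem_cz.1 (k b hb (centralizer_pCore_le p (pPrimeCore_quotient_pPrimeCore p)
    (le_cz_iff.1 (k a ha))))
  rw [← map_mul, ← map_mul, QuotientGroup.mk'_apply, QuotientGroup.mk'_apply, QuotientGroup.eq] at h1
  exact inv_mul_eq_one.1 (mem_bot.1 ((disjoint_pPrimeCore_of_isPGroup hR).le_bot
    ⟨R.mul_mem (R.inv_mem (R.mul_mem ha hb)) (R.mul_mem hb ha), h1⟩))

theorem cz_eq_zpowers (w : G) : cz w = centralizer (zpowers w : Set G) := by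
  rw [zpowers_eq_closure, centralizer_closure]

theorem pow_dvd_relIndex {p k : ℕ} [hp : Fact p.Prime] {H : Subgroup G} (P : Sylow p G)
    (h : p ^ k ∣ H.index) : p ^ k ∣ H.relIndex P := by
  have h1 := h.trans (index_dvd_of_le (inf_le_left : H ⊓ P ≤ H))
  rw [← relIndex_mul_index (inf_le_right : H ⊓ P ≤ P), inf_relIndex_right] at h1
  exact ((hp.out.coprime_iff_not_dvd.2 P.not_dvd_index).pow_left k).dvd_of_dvd_mul_right h1

theorem conj_mem_of_index {B : Subgroup G} {p : ℕ} (hp : p.Prime) (hB : B.index = p) {g : G}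
    (hg : g ∈ B) (h1 : PE p g) (x : G) : x * g * x⁻¹ ∈ B := by
  classical
  have := Fintype.ofFinite (G ⧸ B)
  have h2 : MulAction.toPermHom G (G ⧸ B) g = 1 := by
    by_contra e
    obtain ⟨n, hn⟩ := Multiset.exists_mem_of_ne_zero (mt Equiv.Perm.cycleType_eq_zero.1 e)
    obtain ⟨k, hk⟩ := h1
    obtain ⟨j, -, rfl⟩ := (Nat.dvd_prime_pow hp).1 ((Equiv.Perm.dvd_of_mem_cycleType hn).trans
      (hk ▸ orderOf_map_dvd _ g))
    have h3 := Equiv.Perm.two_le_of_mem_cycleType hn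
    have h4 := Equiv.Perm.le_card_support_of_mem_cycleType hn
    have h5 : (MulAction.toPermHom G (G ⧸ B) g).support.card < p := by
      rw [← hB, index_eq_card, Nat.card_eq_fintype_card]
      refine Finset.card_lt_univ_of_notMem (x := ((1 : G) : G ⧸ B)) (Equiv.Perm.notMem_support.2 ?_)
      exact QuotientGroup.eq.2 (by simpa using hg)
    have h6 : p ≤ p ^ j := Nat.le_self_pow (by rintro rfl; simp at h3) p
    omega
  have h3 : g ∈ B.normalCore := by rw [normalCore_eq_ker]; exact h2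
  exact h3 x

theorem pow_mem_fixed {W : Type*} [i : Group W] (hW : IsMulCommutative W) (α β : Monoid.End W)
    (hc : Commute α β) {q : ℕ} (hα : α ^ q = 1) (hβ : β ^ q = 1) (T : Subgroup W)
    (h1 : ∀ i < q, ∀ w, (α * β ^ i) w = w → w ∈ T)
    (h2 : ∀ j, 0 < j → j < q → ∀ w, (β ^ j) w = w → w ∈ T) (w : W) : w ^ q ∈ T :=
  @pow_mem_of_fixed_le W { i with mul_comm := hW.is_comm.comm } α β hc q hα hβ T h1 h2 w

/-- Conjugation on a subgroup as endomorphisms. -/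
def conjEnd (K : Subgroup G) : normalizer (K : Set G) →* Monoid.End K where
  toFun c := (K.normalizerMonoidHom c).toMonoidHom
  map_one' := by rw [map_one]; rfl
  map_mul' c d := by rw [map_mul]; rfl

theorem conjEnd_apply (K : Subgroup G) (c : normalizer (K : Set G)) (v : K) :
    (conjEnd K c v : G) = c * v * (c : G)⁻¹ := rfl

theorem conjEnd_eq_one {K : Subgroup G} (c : normalizer (K : Set G))
    (hc : (c : G) ∈ centralizer (K : Set G)) : conjEnd K c = 1 :=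
  MonoidHom.ext fun v => Subtype.ext ((conjEnd_apply K c v).trans (by
    rw [← hc v v.2, mul_inv_cancel_right]; rfl))

theorem le_of_two {K T : Subgroup G} (hK : IsMulCommutative K) {q : ℕ} (hq : q.Coprime (Nat.card K))
    {a b : G} (ha : a ∈ normalizer (K : Set G)) (hb : b ∈ normalizer (K : Set G))
    (hab : (a * b)⁻¹ * (b * a) ∈ centralizer (K : Set G)) (haq : a ^ q ∈ centralizer (K : Set G))
    (hbq : b ^ q ∈ centralizer (K : Set G)) (h1 : ∀ i < q, K ⊓ cz (a * b ^ i) ≤ T)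
    (h2 : ∀ j, 0 < j → j < q → K ⊓ cz (b ^ j) ≤ T) : K ≤ T := by
  intro w hw
  have k2 : ∀ (c : normalizer (K : Set G)) (v : K), K ⊓ cz (c : G) ≤ T → conjEnd K c v = v →
      v ∈ T.subgroupOf K := fun c v h e =>
    h ⟨v.2, mem_cz_of_conj' ((conjEnd_apply K c v).symm.trans (congrArg Subtype.val e))⟩
  obtain ⟨a', rfl⟩ : ∃ a' : normalizer (K : Set G), a' = a := ⟨⟨a, ha⟩, rfl⟩
  obtain ⟨b', rfl⟩ : ∃ b' : normalizer (K : Set G), b' = b := ⟨⟨b, hb⟩, rfl⟩
  have e1 : Commute (conjEnd K a') (conjEnd K b') := by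
    have := conjEnd_eq_one ((a' * b')⁻¹ * (b' * a')) hab
    have e : b' * a' = a' * b' * ((a' * b')⁻¹ * (b' * a')) := by group
    rw [Commute, SemiconjBy, ← map_mul, ← map_mul, e, map_mul _ (a' * b'), this, mul_one]
  have h3 := pow_mem_fixed hK _ _ e1 (q := q) (by rw [← map_pow]; exact conjEnd_eq_one _ haq)
    (by rw [← map_pow]; exact conjEnd_eq_one _ hbq) (T.subgroupOf K)
    (fun i hi v e => k2 (a' * b' ^ i) v (h1 i hi) (by rwa [map_mul, map_pow]))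
    (fun j h0 hj v e => k2 (b' ^ j) v (h2 j h0 hj) (by rwa [map_pow])) ⟨w, hw⟩
  obtain ⟨k, hk⟩ := exists_pow_eq_self_of_coprime (x := w)
    (hq.coprime_dvd_right (K.orderOf_dvd_natCard hw))
  have h4 : w ^ q ∈ T := h3
  exact hk ▸ pow_mem h4 k

theorem exists_second_center {p : ℕ} [hp : Fact p.Prime] {P X : Subgroup G} (hP : IsPGroup p P)
    [hX : X.Normal] (h : ¬ X ⊓ P ≤ 𝐙) :
    ∃ u ∈ X ⊓ P, u ∉ 𝐙 ∧ u ^ p ∈ 𝐙 ∧ ∀ g ∈ P, g * u * g⁻¹ * u⁻¹ ∈ 𝐙 := by
  have h0 : P ≤ normalizer ((X ⊓ P : Subgroup G) : Set G) := fun g hg =>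
    mem_normalizer_fintype fun y hy =>
      ⟨hX.conj_mem y hy.1 g, P.mul_mem (P.mul_mem hg hy.2) (P.inv_mem hg)⟩
  obtain ⟨_, ⟨v, hv, rfl⟩, v1, v2⟩ := exists_mem_comm_of_normalizer
    ((hP.to_le (inf_le_right : X ⊓ P ≤ P)).map (QuotientGroup.mk' 𝐙))
    (mt (Subgroup.map_eq_bot_iff _).1 (by rwa [QuotientGroup.ker_mk'])) (hP.map (QuotientGroup.mk' 𝐙))
    ((map_mono h0).trans (le_normalizer_map _))
  obtain ⟨j, hj⟩ := FGS.exists_pow_orderOf_eq (q := p) (Nat.card_zpowers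
    (QuotientGroup.mk' 𝐙 v) ▸ (pe_of_mem (hP.map _) ⟨v, hv.2, rfl⟩).dvd v1 (mem_zpowers _))
  rw [← map_pow] at hj
  refine ⟨v ^ j, pow_mem hv j, fun e => FGS.ne_one_of_orderOf_prime hp.out hj
    ((QuotientGroup.eq_one_iff _).2 e), (QuotientGroup.eq_one_iff _).1 ?_,
    fun g hg => (QuotientGroup.eq_one_iff _).1 ?_⟩
  · rw [← QuotientGroup.mk'_apply, map_pow, ← hj, pow_orderOf_eq_one]
  · have : Commute (QuotientGroup.mk' 𝐙 g) (QuotientGroup.mk' 𝐙 (v ^ j)) := by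
      rw [map_pow]; exact Commute.pow_right (v2 _ ⟨g, hg, rfl⟩) j
    rw [← QuotientGroup.mk'_apply, map_mul, map_mul, map_mul, this.eq, map_inv, map_inv]
    group

/-- A second-centre element `u` whose centraliser is acted on semiregularly modulo the centre. -/
theorem not_sq_dvd {p q : ℕ} [hp : Fact p.Prime] (hq : q.Prime) (hpq : p ≠ q) {P : Subgroup G}
    {u w : G} (h1 : u ^ p ∈ 𝐙) (h2 : ∀ g ∈ P, g * u * g⁻¹ * u⁻¹ ∈ 𝐙) (hw : w ∈ zp q (cz u))
    (hw' : w ∉ 𝐙) (h3 : ∀ t ∈ P, t ∉ cz u → zp q (cz u) ⊓ cz t ≤ 𝐙) :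
    ¬ p ^ 2 ∣ (cz u).relIndex P := fun hd => by
  have := Fact.mk hq
  let φ : P →* center G := MonoidHom.mk' (fun g => ⟨g * u * (g : G)⁻¹ * u⁻¹, h2 g g.2⟩) fun a b =>
    Subtype.ext (by
      have := mem_center_iff.1 (h2 b b.2) a
      change (a : G) * b * u * ((a : G) * b)⁻¹ * u⁻¹ = a * u * (a : G)⁻¹ * u⁻¹ * (b * u * (b : G)⁻¹ * u⁻¹)
      rw [mem_center_iff.1 (h2 b b.2)]
      calc _ = (a : G) * (b * u * (b : G)⁻¹ * u⁻¹) * (u * (a : G)⁻¹ * u⁻¹) := by group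
        _ = _ := by rw [this]; group)
  have k1 : ∀ g : P, φ g = 1 ↔ (g : G) ∈ cz u := fun g => by
    rw [Subtype.ext_iff, mem_cz]
    change (g : G) * u * (g : G)⁻¹ * u⁻¹ = 1 ↔ _
    rw [mul_inv_eq_one, mul_inv_eq_iff_eq_mul]
  have k2 : ∀ g : P, φ g ^ p = 1 := fun g => Subtype.ext (by
    have h4 : Commute ((g : G) * u * (g : G)⁻¹ * u⁻¹) u := (mem_center_iff.1 (h2 g g.2) u).symm
    have h5 := h4.mul_pow p
    rw [inv_mul_cancel_right, conj_pow, mem_center_iff.1 h1, mul_inv_cancel_right] at h5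
    exact mul_eq_right.1 h5.symm)
  have k3 : (cz u).relIndex P = Nat.card φ.range := by
    rw [← index_ker, relIndex]
    congr 1
    ext g
    exact (k1 g).symm
  have k4 : ∀ b : P, ∃ a : P, φ a ∉ zpowers (φ b) := fun b => by
    by_contra! e
    have := (k3 ▸ hd).trans ((card_dvd_of_le (show φ.range ≤ zpowers (φ b) by
      rintro _ ⟨a, rfl⟩; exact e a)).trans (Nat.card_zpowers (φ b) ▸ orderOf_dvd_of_pow_eq_one (k2 b)))
    have := Nat.le_of_dvd hp.out.pos this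
    nlinarith [hp.out.two_le]
  obtain ⟨b, hb⟩ := k4 1
  obtain ⟨a, ha⟩ := k4 b
  have hb1 : φ b ≠ 1 := fun e => hb (e ▸ one_mem _)
  have k5 : P ≤ normalizer (zp q (cz u) : Set G) := fun g hg => norm_zp q _
    (mem_normalizer_fintype fun y hy => by
      have e : cz (g * u * g⁻¹) = cz u := cz_eq_of_mk (QuotientGroup.eq.2 (by
        have := mem_center_iff.1 (h2 g hg) u⁻¹
        rw [show (g * u * g⁻¹)⁻¹ * u = (u⁻¹ * (g * u * g⁻¹ * u⁻¹) * u)⁻¹ by group, this,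
          inv_mul_cancel_right]
        exact inv_mem (h2 g hg)))
      exact e ▸ conj_mem_cz hy)
  have k6 : ∀ g : P, φ g = 1 → (g : G) ∈ centralizer (zp q (cz u) : Set G) := fun g e v hv =>
    (hv.2.1 g ((k1 g).1 e)).symm
  obtain ⟨k, hk⟩ := (zp_pg q (cz u)).exists_card_eq
  refine hw' (le_of_two (zp_comm q _) (hk ▸ ((Nat.coprime_primes hp.out hq).2 hpq).pow_right k)
    (k5 a.2) (k5 b.2) (k6 ((a * b)⁻¹ * (b * a)) ?_) (k6 (a ^ p) (by rw [map_pow, k2]))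
    (k6 (b ^ p) (by rw [map_pow, k2])) (fun i _ => h3 _ (a * b ^ i).2 fun e => ha ?_)
    (fun j h0 hj => h3 _ (b ^ j).2 fun e => ?_) hw)
  · rw [map_mul, map_inv, map_mul, map_mul, inv_mul_eq_one]
    exact Subtype.ext (mem_center_iff.1 (φ b).2 _)
  · have := (k1 (a * b ^ i)).2 e
    rw [map_mul, map_pow] at this
    exact eq_inv_of_mul_eq_one_left this ▸ inv_mem (npow_mem_zpowers _ i)
  · have := (k1 (b ^ j)).2 e
    rw [map_pow, ← orderOf_dvd_iff_pow_eq_one, orderOf_eq_prime (k2 b) hb1] at this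
    exact absurd (Nat.le_of_dvd h0 this) (by omega)

/-- The class sizes are `1, m, m n` with `m, n` coprime. -/
structure C3 (G : Type*) [Group G] (m n : ℕ) : Prop where
  m1 : 1 < m
  n1 : 1 < n
  cop : m.Coprime n
  cls : ∀ x : G, x ∉ center G → (cz x).index = m ∨ (cz x).index = m * n
  exm : ∃ x : G, (cz x).index = m
  exn : ∃ x : G, (cz x).index = m * n

namespace C3

variable {m n : ℕ} (h : C3 G m n) {x y w u v : G} {p q s : ℕ}
include h

theorem r2 : R2 G (m * n) m := ⟨by nlinarith [h.m1, h.n1], h.cls⟩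

theorem solv : Group.IsSolvable G := by
  obtain ⟨x, hx⟩ := h.exn
  obtain ⟨y, hy⟩ := h.exm
  exact h.r2.solvable (nc_of_index hx (by nlinarith [h.m1, h.n1])) (nc_of_index hy h.m1.ne') hx hy

theorem nd (hp : p.Prime) (hm : p ∣ m) : ¬ p ∣ n := fun e =>
  hp.ne_one (Nat.eq_one_of_dvd_coprimes h.cop hm e)

theorem dvd_idx (hx : x ∉ 𝐙) : m ∣ (cz x).index :=
  (h.cls x hx).elim (·.symm.dvd) fun e => Dvd.intro _ e.symm

theorem idx_dvd (x : G) : (cz x).index ∣ m * n := by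
  by_cases hx : x ∈ 𝐙
  · rw [FGS.index_centralizer_eq_one_iff.2 hx]; exact one_dvd _
  · exact (h.cls x hx).elim (fun e => e ▸ Dvd.intro _ rfl) (·.dvd)

theorem rel (hp : p.Prime) (hm : p ∣ m) (hy : y ∉ 𝐙) (e : cz x ≤ cz y) :
    ¬ p ∣ (cz x).relIndex (cz y) := fun hd => by
  have h1 := h.idx_dvd x
  rw [← relIndex_mul_index e, mul_comm] at h1
  exact h.nd hp hm (hd.trans (Nat.dvd_of_mul_dvd_mul_left (by have := h.m1; omega)
    ((mul_dvd_mul_right (h.dvd_idx hy) _).trans h1)))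

theorem ex_p (hp : p.Prime) (hm : p ∣ m) (hx : x ∉ 𝐙) : ∃ u ∈ cz x, PE p u ∧ u ∉ 𝐙 := by
  obtain ⟨u, h1, h2⟩ := nc_of_dvd hp (center_le_cz x) (hm.trans (h.dvd_idx hx))
  have h3 := dvd_zi hp (self_mem_cz u) h1 h2
  have h4 := (zi_mul x).trans (zi_mul u).symm
  have h0 : 0 < m := by have := h.m1; omega
  refine (dvd_relIndex_iff (center_le_cz x) hp).1 ?_
  rcases h.cls x hx with e | e <;> rcases h.cls u h2 with e' | e'
  · exact zi_eq (e'.trans e.symm) ▸ h3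
  · rw [e, e', mul_comm m, ← mul_assoc] at h4
    exact Nat.eq_of_mul_eq_mul_right h0 h4 ▸ h3.mul_right _
  · rw [e, e', mul_comm m, ← mul_assoc] at h4
    exact ((Nat.Prime.dvd_mul hp).1 (Nat.eq_of_mul_eq_mul_right h0 h4 ▸ h3)).resolve_right (h.nd hp hm)
  · exact zi_eq (e'.trans e.symm) ▸ h3

theorem ex_q (hq : q.Prime) (hn : q ∣ n) (hx : (cz x).index = m) : ∃ w ∈ cz x, PE q w ∧ w ∉ 𝐙 := by
  obtain ⟨y, hy⟩ := h.exn
  have h1 := (hn.mul_left m).trans (hy ▸ index_dvd_of_le (center_le_cz y))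
  rw [← zi_mul x, hx] at h1
  exact (dvd_relIndex_iff (center_le_cz x) hq).1
    (((Nat.Prime.dvd_mul hq).1 h1).resolve_right fun e => h.nd hq e hn)

theorem g1 (hp : p.Prime) (hm : p ∣ m) (hs : s.Prime) (hsp : s ≠ p) (hw : PE s w) (hw' : w ∉ 𝐙)
    {R : Subgroup G} (hR : IsPGroup p R) (hRw : R ≤ cz w) {a b : G} (ha : a ∈ R) (hb : b ∈ R) :
    a * b = b * a := by
  have := Fact.mk hp
  have := h.solv
  refine congrArg Subtype.val (comm_of_pe_index (G := cz w) (fun v hv => ?_) hR.comap_subtype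
    (a := ⟨a, hRw ha⟩) (b := ⟨b, hRw hb⟩) ha hb)
  have e := cz_mul v.2 (hw.coprime hs hp hsp (PE.coe.2 hv))
  rw [FGS.index_centralizer_subgroup, ← inf_relIndex_left, ← e]
  exact h.rel hp hm hw' (e ▸ inf_le_left)

theorem g2 (hp : p.Prime) (hm : p ∣ m) (hs : s.Prime) (hsp : s ≠ p) (hw : PE s w) :
    pCore p G ≤ cz w := by
  have := Fact.mk hp
  by_cases hw' : w ∈ 𝐙
  · exact fun a _ => mem_cz.2 (mem_center_iff.1 hw' a)
  obtain ⟨u, hu, hu1, hu2⟩ := h.ex_p hp hm hw'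
  obtain ⟨P, hP, huP⟩ := exists_isSylowOf_ge hu1.pg (Subgroup.zpowers_le.2 hu)
  have e := cz_mul hu (hw.coprime hs hp hsp hu1)
  have h1 : P ≤ cz u := fun a ha => mem_cz.2 (h.g1 hp hm hs hsp hw hw' hP.isPGroup hP.le ha
    (huP (mem_zpowers u)))
  have h2 := (hP.of_le (e ▸ le_inf hP.le h1) (e ▸ inf_le_left)).trans (e ▸ inf_le_right)
    (h.rel hp hm hu2 (e ▸ inf_le_right))
  obtain ⟨k, hk⟩ := hw
  have h3 := cz_eq_zpowers w
  refine le_cz_iff.2 (p_times_q (Q := zpowers w) hP.isPGroup (by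
    rw [Nat.card_zpowers, hk]; exact ((Nat.coprime_primes hs hp).2 hsp).pow_left k) (pCore_isPGroup p)
    (h3 ▸ hP.le) le_normalizer_of_normal
    le_normalizer_of_normal (fun a ha => h3 ▸ hP.le ?_) (mem_zpowers w))
  exact mem_of_pe hp h1 h2.not_dvd (mem_cz.2 (ha.2 u (huP (mem_zpowers u))).symm)
    (centralizer_le_normalizer _ ha.2) (pe_of_mem (pCore_isPGroup p) ha.1)

theorem g2' (hp : p.Prime) (hm : p ∣ m) (hs : s.Prime) (hsp : s ≠ p) (hw : PE s w) (hw' : w ∉ 𝐙)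
    (hx : w ∈ cz x) : pCore p G ≤ cz x := by
  have := Fact.mk hp
  refine le_cz_iff.2 (by_contra fun e => ?_)
  obtain ⟨t, ht, c, hc, h1, h2⟩ := exists_pe e
  refine h2 (le_cz_iff.1 ?_)
  by_cases e1 : t = p
  · subst e1
    exact fun a ha => mem_cz.2 (h.g1 hp hm hs hsp hw hw' (h1.pg.to_sup_of_normal_right
      (pCore_isPGroup t)) (sup_le (Subgroup.zpowers_le.2 (cz_symm (cz_le_zp hc hx)))
      (h.g2 hp hm hs hsp hw)) (mem_sup_right ha) (mem_sup_left (mem_zpowers c)))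
  · exact h.g2 hp hm ht e1 h1

theorem g3 (hy : (cz y).index = m) : y ∈ centralizer (fittingSubgroup G : Set G) := by
  rw [← le_cz_iff, fitting_eq_iSup_pCore]
  refine iSup_le fun ⟨s, hs⟩ => ?_
  have := Fact.mk hs
  by_cases e : s ∣ m
  · obtain ⟨q, hq, hn⟩ := Nat.exists_prime_and_dvd h.n1.ne'
    obtain ⟨w, hw, h1, h2⟩ := h.ex_q hq hn hy
    exact h.g2' hs e hq (fun e1 : q = s => h.nd hs e (e1 ▸ hn)) h1 h2 hw
  · exact pCore_le_of_not_dvd_index (hy ▸ e)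

theorem cf_le (hx : x ∈ centralizer (fittingSubgroup G : Set G)) :
    centralizer (fittingSubgroup G : Set G) ≤ cz x := fun a ha =>
  have := h.solv
  mem_cz.2 (hx a (centralizer_fitting_le ha))

theorem mem_pCore (hs : s.Prime) (hy : (cz y).index = m) (h1 : PE s y) : y ∈ pCore s G :=
  have := h.solv
  have := Fact.mk hs
  le_pCore_of_le_fitting h1.pg (Subgroup.zpowers_le.2 (centralizer_fitting_le (h.g3 hy)))
    (mem_zpowers y)

theorem not_sq (hp : p.Prime) (hm : p ∣ m) (hq : q.Prime) (hpq : p ≠ q) (P : Sylow p G)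
    (X : Subgroup G) [X.Normal] (h1 : ¬ X ⊓ P ≤ 𝐙) (h2 : ∀ u ∈ X ⊓ P, u ∉ 𝐙 →
      ∃ w ∈ zp q (cz u), w ∉ 𝐙) : ¬ p ^ 2 ∣ m := fun hd => by
  have := Fact.mk hp
  obtain ⟨u, hu, u1, u2, u3⟩ := exists_second_center P.isPGroup' h1
  obtain ⟨w, hw, w1⟩ := h2 u hu u1
  refine not_sq_dvd hq hpq u2 u3 hw w1 (fun t ht t1 v hv => by_contra fun v1 => t1 ?_)
    (pow_dvd_relIndex P (hd.trans (h.dvd_idx u1)))
  exact mem_cz.2 (h.g1 hp hm hq hpq.symm ((mem_zp hq).1 hv.1).2.2 v1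
    (P.isPGroup'.to_le (inf_le_left : (P : Subgroup G) ⊓ cz v ≤ P)) inf_le_right
    ⟨ht, cz_symm hv.2⟩ ⟨hu.2, cz_symm hv.1.1⟩)

end C3

end Cfsg.Agent.Part
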