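import Mathlib
import Cfsg.Agent.Part.Cm1
import Cfsg.Agent.PGrp.IndexP
import Cfsg.Agent.Transfer.SylowConj

set_option autoImplicit false
set_option linter.unusedSectionVars false

/-! Groups with class sizes `1, m, m n` for coprime `m, n`: the structure theorem. -/

namespace Cfsg.Agent.Part

open Subgroup Core GW
open scoped Pointwise

variable {G : Type*} [Group G] [Finite G]

local notation "𝐙" => center G
local notation "𝐀" => centralizer (fittingSubgroup G : Set G)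
local notation "zi" x:max => Subgroup.relIndex (center G) (cz x)

theorem PE.mul {s : ℕ} (hs : s.Prime) {a b : G} (ha : PE s a) (hb : PE s b) (e : Commute a b) :
    PE s (a * b) := by
  obtain ⟨i, hi⟩ := ha.pow_eq
  obtain ⟨j, hj⟩ := hb.pow_eq
  refine pe_of_pow hs (k := i + j) ?_
  rw [e.mul_pow, pow_add, pow_mul, hi, one_pow, mul_comm, pow_mul, hj, one_pow, mul_one]

namespace C3

variable {m n : ℕ} (h : C3 G m n) {x y w u v : G} {p q s : ℕ}
include h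

section Two

variable (h0 : ∀ p : ℕ, p.Prime → p ∣ m → pCore p G ≤ center G)
include h0

theorem large (hp : p.Prime) (hm : p ∣ m) (h1 : PE p u) (h2 : u ∉ 𝐙) : (cz u).index = m * n :=
  (h.cls u h2).resolve_left fun e => h2 (h0 p hp hm (h.mem_pCore hp e h1))

theorem exists_small : ∃ (q : ℕ) (y : G), q.Prime ∧ ¬ q ∣ m ∧ PE q y ∧ (cz y).index = m ∧
    ∀ x, x ∉ 𝐙 → ∃ w ∈ cz x, PE q w ∧ w ∉ 𝐙 := by
  obtain ⟨y0, hy0⟩ := h.exm
  obtain ⟨q, hq, y, hy, h1, h2⟩ := exists_pe (nc_of_index hy0 h.m1.ne')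
  rw [h.r2.big_max hy0 h2 (cz_le_zp hy)] at hy0
  have h3 : ¬ q ∣ m := fun e => h.r2.lt.ne (hy0.symm.trans (h.large h0 hq e h1 h2))
  refine ⟨q, y, hq, h3, h1, hy0, fun x hx => (dvd_relIndex_iff (center_le_cz x) hq).1 ?_⟩
  rcases h.cls x hx with e | e
  · exact zi_eq (hy0.trans e.symm) ▸ dvd_zi hq (self_mem_cz y) h1 h2
  · obtain ⟨p, hp, hm⟩ := Nat.exists_prime_and_dvd h.m1.ne'
    obtain ⟨u, hu, u1, u2⟩ := h.ex_p hp hm h2
    exact zi_eq ((h.large h0 hp hm u1 u2).trans e.symm) ▸ dvd_zi hq (cz_symm hu) h1 h2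

theorem comm (hp : p.Prime) (hm : p ∣ m) (h1 : PE p u) (h2 : u ∉ 𝐙) : IsMulCommutative (cz u) := by
  obtain ⟨q, -, hq, h3, -, -, h4⟩ := h.exists_small h0
  obtain ⟨w, hw, w1, w2⟩ := h4 u h2
  have k : ∀ s : ℕ, s.Prime → s ≠ p → ∀ a ∈ cz u, PE s a → cz u ≤ cz a := fun s hs e a ha a1 =>
    h.r2.sm_cent (h.large h0 hp hm h1 h2) h2 ha (h1.coprime hp hs e.symm a1)
  have e : q ≠ p := fun e => h3 (e ▸ hm)
  refine comm_of_pe fun s hs x hx x1 => le_cz_iff.1 ?_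
  by_cases e1 : s ≠ p
  · exact k s hs e1 x hx x1
  obtain rfl := not_not.1 e1
  refine relIndex_eq_one.1 (by_contra fun e2 => ?_)
  obtain ⟨t, ht, e3⟩ := Nat.exists_prime_and_dvd e2
  have := Fact.mk ht
  by_cases e4 : t = s
  · subst e4
    obtain ⟨R, hR, h5⟩ := exists_isSylowOf_ge x1.pg (Subgroup.zpowers_le.2 hx)
    exact hR.not_dvd (e3.trans (relIndex_dvd_of_le_left _ fun a ha => mem_cz.2 (h.g1 ht hm hq e w1 w2
      hR.isPGroup (hR.le.trans (k q hq e w hw w1)) ha (h5 (mem_zpowers x)))))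
  · exact not_dvd_relIndex_of_forall_isPGroup_le ht (fun P h5 hP a ha =>
      cz_symm (k t ht e4 a (h5 ha) (pe_of_mem hP ha) hx)) e3

theorem same_prime (hp : p.Prime) (hm : p ∣ m) (hs : s.Prime) (hm' : s ∣ m) : p = s := by
  by_contra e
  obtain ⟨y, hy⟩ := h.exm
  obtain ⟨u, -, u1, u2⟩ := h.ex_p hp hm (nc_of_index hy h.m1.ne')
  obtain ⟨b, hb, b1, b2⟩ := h.ex_p hs hm' u2
  have h1 := h.comm h0 hp hm u1 u2
  refine wx2 le_top hp hs e (self_mem_cz u) u2 u1 hb b2 b1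
    (fun x hx _ z hz => comm_of_isMulCommutative h1 hz hx) (fun v hv v1 v2 x _ e1 => ?_)
    (relIndex_top_right (cz u) ▸ hm.trans (h.dvd_idx u2))
    (relIndex_top_right (cz u) ▸ hm'.trans (h.dvd_idx u2))
  rw [h.r2.small_min (v2.elim (h.large h0 hp hm · v1) (h.large h0 hs hm' · v1)) v1
    (FGS.le_centralizer_of_comm h1 hv)]
  exact mem_cz.2 e1

theorem prime : m.Prime := by
  obtain ⟨p, hp, hm⟩ := Nat.exists_prime_and_dvd h.m1.ne'
  have := Fact.mk hp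
  obtain ⟨q, y, hq, h3, -, hy, h4⟩ := h.exists_small h0
  obtain ⟨P⟩ : Nonempty (Sylow p G) := inferInstance
  have h1 := h.not_sq hp hm hq (fun e => h3 (e ▸ hm)) P ⊤ (fun e => FGS.not_dvd_index_of_sylow_le P
    ((le_inf le_top le_rfl).trans (e.trans (center_le_cz y))) (hy ▸ hm)) fun u hu u1 => by
      obtain ⟨w, hw, w1, w2⟩ := h4 u u1
      exact ⟨w, (mem_zp hq).2 ⟨hw, fun z hz => comm_of_isMulCommutative
        (h.comm h0 hp hm (pe_of_mem P.isPGroup' hu.2) u1) hz hw, w1⟩, w2⟩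
  have h2 := Nat.eq_prime_pow_of_unique_prime_dvd (by have := h.m1; omega)
    fun {s} hs e => (h.same_prime h0 hp hm hs e).symm
  generalize m.primeFactorsList.length = k at h2
  rcases k with _ | _ | k
  · exact absurd h2 h.m1.ne'
  · rwa [h2, zero_add, pow_one]
  · exact absurd (h2 ▸ pow_dvd_pow p (by omega)) h1

theorem false2 : False := by
  have hp := h.prime h0
  have := Fact.mk hp
  obtain ⟨q, y, hq, h3, y1, hy, h4⟩ := h.exists_small h0
  have := Fact.mk hq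
  have e : q ≠ m := fun e => h3 e.dvd
  obtain ⟨P⟩ : Nonempty (Sylow m G) := inferInstance
  obtain ⟨t, ht, t1⟩ := SetLike.not_le_iff_exists.1 fun e =>
    FGS.not_dvd_index_of_sylow_le (H := cz y) P e hy.symm.dvd
  have t2 : t ∉ 𝐙 := fun e => t1 (center_le_cz y e)
  have t3 := pe_of_mem P.isPGroup' ht
  obtain ⟨w, hw, w1, w2⟩ := h4 t t2
  have w3 : (cz w).index = m := (h.cls w w2).resolve_right fun e1 => by
    have e2 := h.r2.small_min e1 w2 (FGS.le_centralizer_of_comm (h.comm h0 hp dvd_rfl t3 t2) hw)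
    obtain ⟨k, hk⟩ := t3
    refine t1 (mem_cz.2 (p_times_q (P := zpowers w) (Q := zpowers t) w1.pg (by
      rw [Nat.card_zpowers, hk]; exact ((Nat.coprime_primes hp hq).2 e.symm).pow_left k)
      (pCore_isPGroup q) (Subgroup.zpowers_le.2 (cz_eq_zpowers t ▸ hw)) le_normalizer_of_normal
      le_normalizer_of_normal (by rw [← cz_eq_zpowers, ← cz_eq_zpowers, e2]; exact inf_le_right)
      (mem_zpowers t) y (h.mem_pCore hq hy y1)).symm)
  have hc : w ∈ cz y := h.cf_le (h.g3 hy) (h.g3 w3)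
  have h5 : y * w ∉ 𝐙 := fun e1 => t1 (cz_symm (by
    simpa using (cz t).mul_mem (center_le_cz t e1) ((cz t).inv_mem hw)))
  have h6 : ∀ g ∈ cz (y * w), PE m g → g ∈ cz y := fun g hg g1 => by
    have k : ∀ {a v : G}, (cz a).index = m → v ∈ cz a → PE m v → v ∈ cz (g * a * g⁻¹) :=
      fun {a v} ha hv v1 => by
        simpa [mul_assoc] using conj_mem_cz (g := g) (conj_mem_of_index hp ha hv v1 g⁻¹)
    have e1 : g * y * g⁻¹ * y⁻¹ = (g * w * g⁻¹)⁻¹ * w := by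
      have e2 : g * (w * y) = w * y * g := by rw [mem_cz.1 hc]; exact mem_cz.1 hg
      calc _ = (g * w * g⁻¹)⁻¹ * (g * (w * y)) * g⁻¹ * y⁻¹ := by group
        _ = _ := by rw [e2]; group
    refine mem_cz.2 (FGS.commute_of_coprime_of_central (g1.coprime hp hq e.symm y1)
      (by_contra fun e2 => ?_))
    have h7 : ((cz y ⊓ P).relIndex P).Prime := by
      have a1 := pow_dvd_relIndex (k := 1) P (H := cz y) (by rw [hy, pow_one])
      have a2 := relIndex_le_of_le_right (H := cz y) (le_top : (P : Subgroup G) ≤ ⊤)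
        index_ne_zero_of_finite
      rw [relIndex_top_right, hy] at a2
      rw [pow_one] at a1
      rw [inf_relIndex_right, le_antisymm a2 (Nat.le_of_dvd
        (Nat.pos_of_ne_zero index_ne_zero_of_finite) a1)]
      exact hp
    rcases eq_or_eq_of_relIndex_prime (M := cz (g * y * g⁻¹ * y⁻¹) ⊓ P) h7 (fun v hv =>
      ⟨cz_symm ((cz v).mul_mem (cz_symm (k hy hv.1 (pe_of_mem P.isPGroup' hv.2)))
        ((cz v).inv_mem (cz_symm hv.1))), hv.2⟩) inf_le_right with e3 | e3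
    · refine t1 (e3.le ⟨cz_symm ?_, ht⟩).1
      rw [e1]
      exact (cz t).mul_mem ((cz t).inv_mem (cz_symm (k w3 (cz_symm hw) t3))) hw
    · exact FGS.not_dvd_index_of_sylow_le P (e3.ge.trans inf_le_left) (h.dvd_idx e2)
  obtain ⟨R, hR⟩ := exists_isSylowOf m (cz (y * w))
  have h7 : R ≤ cz y := fun g hg => h6 g (hR.le hg) (pe_of_mem hR.isPGroup hg)
  have h8 : R ≤ cz w := fun g hg => mem_cz_of_mul (h7 hg) (hR.le hg)
  have h9 : IsSylowOf m R (cz w) := ⟨h8, hR.isPGroup, fun e1 => by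
    have a1 := (mul_dvd_mul_right e1 (cz w).index).trans (relIndex_mul_index h8).dvd
    rw [w3, ← relIndex_mul_index hR.le] at a1
    have a2 := a1.trans (mul_dvd_mul_left _ (h.idx_dvd _))
    rw [mul_left_comm] at a2
    exact ((Nat.Prime.dvd_mul hp).1 (Nat.dvd_of_mul_dvd_mul_left hp.pos a2)).elim hR.not_dvd
      (h.nd hp dvd_rfl)⟩
  obtain ⟨k, -, hk⟩ := h9.exists_conj_le t3.pg (Subgroup.zpowers_le.2 (cz_symm hw))
  have a1 : k * t * k⁻¹ ∈ cz y := h7 (hk (smul_mem_pointwise_smul t (MulAut.conj k) _ (mem_zpowers t)))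
  exact t1 (by simpa [mul_assoc] using conj_mem_of_index hp hy a1 (t3.conj k) k⁻¹)

end Two

section One

variable (hp : p.Prime) (hm : p ∣ m) (hu : u ∈ pCore p G) (hu' : u ∉ center G)
include hp hm hu hu'

theorem i1 (hs : s.Prime) (e : s ≠ p) : ¬ s ∣ (cz u).index := by
  have := Fact.mk hs
  obtain ⟨S⟩ : Nonempty (Sylow s G) := inferInstance
  exact FGS.not_dvd_index_of_sylow_le S fun a ha =>
    cz_symm (h.g2 hp hm hs e (pe_of_mem S.isPGroup' ha) hu)

theorem i1' : (cz u).index = m := (h.cls u hu').resolve_right fun e => by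
  obtain ⟨q, hq, hn⟩ := Nat.exists_prime_and_dvd h.n1.ne'
  exact h.i1 hp hm hu hu' hq (fun e1 => h.nd hp hm (e1 ▸ hn)) (e ▸ hn.mul_left m)

theorem i2 (hs : s.Prime) (e : s ≠ p) (h1 : PE s w) (h2 : w ∉ 𝐙) (hw : w ∈ cz x) (hx : x ∉ 𝐙) :
    (cz x).index = m := (h.cls x hx).resolve_right fun e1 => by
  have := Fact.mk hp
  obtain ⟨P⟩ : Nonempty (Sylow p G) := inferInstance
  obtain ⟨t, -, t1⟩ := SetLike.not_le_iff_exists.1 fun e =>
    FGS.not_dvd_index_of_sylow_le (H := cz u) P e (hm.trans (h.dvd_idx hu'))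
  have e2 := (h.cls t fun e => t1 (center_le_cz u e)).resolve_left fun e =>
    t1 (h.cf_le (h.g3 (h.i1' hp hm hu hu')) (h.g3 e))
  obtain ⟨v, hv, v1, v2⟩ := (dvd_relIndex_iff (center_le_cz t) hs).1
    (zi_eq (e1.trans e2.symm) ▸ dvd_zi hs hw h1 h2)
  exact t1 (cz_symm (h.g2' hp hm hs e v1 v2 hv hu))

theorem i3 (hs : s.Prime) (e : s ≠ p) (h1 : PE s w) (h2 : w ∉ 𝐙) : cz w = 𝐀 :=
  le_antisymm (fun x hx => by
    by_cases e1 : x ∈ 𝐙
    · exact center_le_centralizer _ e1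
    · exact h.g3 (h.i2 hp hm hu hu' hs e h1 h2 (cz_symm hx) e1))
    (h.cf_le (h.g3 (h.i2 hp hm hu hu' hs e h1 h2 (self_mem_cz w) h2)))

theorem i4 : (𝐀).index = m ∧ ∃ (q : ℕ) (w : G), q.Prime ∧ q ≠ p ∧ PE q w ∧ w ∉ 𝐙 ∧ w ∈ 𝐀 := by
  obtain ⟨q, hq, hn⟩ := Nat.exists_prime_and_dvd h.n1.ne'
  obtain ⟨w, -, w1, w2⟩ := h.ex_q hq hn (h.i1' hp hm hu hu')
  have e : q ≠ p := fun e1 => h.nd hp hm (e1 ▸ hn)
  rw [← h.i3 hp hm hu hu' hq e w1 w2]
  exact ⟨h.i2 hp hm hu hu' hq e w1 w2 (self_mem_cz w) w2, q, w, hq, e, w1, w2, self_mem_cz w⟩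

theorem i5 (hx : x ∈ 𝐀) (hx' : x ∉ 𝐙) : cz x = 𝐀 :=
  (eq_of_le_of_index (h.cf_le hx) ((h.i4 hp hm hu hu').1.trans_le
    (Nat.le_of_dvd (Nat.pos_of_ne_zero index_ne_zero_of_finite) (h.dvd_idx hx')))).symm

theorem i6 : m = p := by
  have := Fact.mk hp
  obtain ⟨-, q, w, hq, e, w1, w2, hw⟩ := h.i4 hp hm hu hu'
  obtain ⟨P⟩ : Nonempty (Sylow p G) := inferInstance
  have h1 := h.not_sq hp hm hq e.symm P 𝐀 (fun e => hu' (e ⟨h.g3 (h.i1' hp hm hu hu'),
    pCore_le_sylow P hu⟩)) fun v hv v1 => ⟨w, (mem_zp hq).2 (by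
      rw [h.i5 hp hm hu hu' hv.1 v1]
      exact ⟨hw, le_cz_iff.1 (h.cf_le hw), w1⟩), w2⟩
  have h2 := Nat.eq_prime_pow_of_unique_prime_dvd (n := m) (by have := h.m1; omega)
    fun {s} hs e => by_contra fun e1 => h.i1 hp hm hu hu' hs e1 (e.trans (h.dvd_idx hu'))
  generalize m.primeFactorsList.length = k at h2
  rcases k with _ | _ | k
  · exact absurd h2 h.m1.ne'
  · rwa [zero_add, pow_one] at h2
  · exact absurd (h2 ▸ pow_dvd_pow p (by omega)) h1

end One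

theorem main : m.Prime ∧ m ∣ n - 1 ∧ (∃ M : Subgroup G, M.Normal ∧
    (M : Set G) = {x : G | (cz x).index = 1 ∨ (cz x).index = m} ∧ M.index = m ∧ IsMulCommutative M) ∧
    (∃ N : Subgroup G, N.Normal ∧ (Nat.card N).Coprime m ∧ ∃ a : ℕ, N.index = m ^ a) ∧
    ∀ P : Sylow m G, Nat.card (_root_.commutator (P : Subgroup G)) = m := by
  obtain ⟨p, hp, hm, e⟩ : ∃ p : ℕ, p.Prime ∧ p ∣ m ∧ ¬ pCore p G ≤ 𝐙 := by
    by_contra! e
    exact h.false2 e
  obtain ⟨u, hu, hu'⟩ := SetLike.not_le_iff_exists.1 e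
  obtain rfl := h.i6 hp hm hu hu'
  have := Fact.mk hp
  have hA := (h.i4 hp hm hu hu').1
  have hc : IsMulCommutative 𝐀 := isMulCommutative_of_forall fun a ha b hb => mem_cz.1 (h.cf_le hb ha)
  have h1 : ∀ t, t ∉ 𝐀 → cz t ⊓ 𝐀 ≤ 𝐙 := fun t ht x hx => by_contra fun e =>
    ht (h.i5 hp hm hu hu' hx.2 e ▸ cz_symm hx.1)
  have h2 : ∀ P : Sylow m G, ∃ t ∈ P, t ∉ 𝐀 := fun P => SetLike.not_le_iff_exists.1 fun e =>
    FGS.not_dvd_index_of_sylow_le P e hA.symm.dvd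
  have h3 : ∀ H : Subgroup G, ¬ H ≤ 𝐀 → (𝐀).relIndex H = m := fun H hH => by
    rw [← relIndex_sup_left, FGS.sup_eq_top_of_isCoatom (FGS.isCoatom_of_index_prime (hA ▸ hp)) hH,
      relIndex_top_right, hA]
  obtain ⟨P₀⟩ : Nonempty (Sylow m G) := inferInstance
  obtain ⟨t, ht, t1⟩ := h2 P₀
  have h4 : (𝐙).index = m * (m * n) := by
    have t2 : t ∉ 𝐙 := fun e => t1 (center_le_centralizer _ e)
    rw [← zi_mul t, (h.cls t t2).resolve_left fun e => t1 (h.g3 e), ← h3 (cz t) fun e =>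
      t1 (e (self_mem_cz t)), ← inf_relIndex_left (cz t) 𝐀, le_antisymm (h1 t t1)
      (le_inf (center_le_cz t) (center_le_centralizer _))]
  obtain ⟨a, ha⟩ : ∃ a, (pPrimeCore m G).index = m ^ a := ⟨_, Nat.eq_prime_pow_of_unique_prime_dvd
    index_ne_zero_of_finite fun {s} hs e => by_contra fun e1 => by
      have := Fact.mk hs
      obtain ⟨S, hS⟩ := FGS.exists_sylow_le_of_not_dvd_index (H := 𝐀)
        (fun e2 => e1 ((Nat.prime_dvd_prime_iff_eq hs hp).1 (hA ▸ e2)))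
      obtain ⟨k, hk⟩ := (zp_pg s 𝐀).exists_card_eq
      exact FGS.not_dvd_index_of_sylow_le S (le_trans (fun x hx => (mem_zp hs).2 ⟨hS hx,
        le_cz_iff.1 (h.cf_le (hS hx)), pe_of_mem S.isPGroup' hx⟩) (le_pPrimeCore (zp_normal s 𝐀)
          (hk ▸ ((Nat.coprime_primes hs hp).2 e1).pow_left k))) e⟩
  refine ⟨hp, ?_, ⟨𝐀, inferInstance, Set.ext fun x => ⟨fun hx => ?_, fun hx => hx.elim
    (fun e => center_le_centralizer _ (FGS.index_centralizer_eq_one_iff.1 e)) h.g3⟩, hA, hc⟩,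
    ⟨_, inferInstance, pPrimeCore_coprime m, a, ha⟩, fun P => ?_⟩
  · have k0 := pPrimeCore_coprime (G := G) m
    have k1 : pPrimeCore m G ≤ 𝐀 := pPrimeCore_le_of_index_eq_pow (hA.trans (pow_one m).symm)
    have k2 := Transfer.card_modEq_card_inf_centralizer (Q := pPrimeCore m G)
      (pe_of_mem P₀.isPGroup' ht).pg le_normalizer_of_normal
    have k3 : pPrimeCore m G ⊓ cz t = 𝐙 ⊓ pPrimeCore m G := le_antisymm
      (fun x hx => ⟨h1 t t1 ⟨hx.2, k1 hx.1⟩, hx.1⟩) fun x hx => ⟨hx.2, center_le_cz t hx.1⟩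
    have k4 : (𝐙).relIndex (pPrimeCore m G) = n := by
      have a1 := (k0.coprime_dvd_left (relIndex_dvd_card 𝐙 (pPrimeCore m G)))
      refine Nat.dvd_antisymm (a1.dvd_of_dvd_mul_left (a1.dvd_of_dvd_mul_left
        (h4 ▸ relIndex_dvd_index_of_normal _ _))) ?_
      have a2 : n ∣ (𝐙).index := h4 ▸ (Dvd.intro_left _ rfl).mul_left m
      rw [← relIndex_mul_index (le_sup_left : 𝐙 ≤ 𝐙 ⊔ pPrimeCore m G), relIndex_sup_left] at a2
      exact ((h.cop.symm.pow_right a).coprime_dvd_right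
        (ha ▸ index_dvd_of_le le_sup_right)).dvd_of_dvd_mul_right a2
    rw [← cz_eq_zpowers, k3, ← card_mul_relIndex (inf_le_right : 𝐙 ⊓ pPrimeCore m G ≤ _),
      inf_relIndex_right, k4] at k2
    have k5 := (k0.coprime_dvd_left (card_dvd_of_le (inf_le_right : 𝐙 ⊓ pPrimeCore m G ≤ _))).symm
    exact (Nat.modEq_iff_dvd' h.n1.le).1 (Nat.ModEq.cancel_left_of_coprime k5 (by rwa [mul_one])).symm
  · by_cases e : x ∈ 𝐙
    · exact Or.inl (FGS.index_centralizer_eq_one_iff.2 e)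
    · exact Or.inr (h.i5 hp hm hu hu' hx e ▸ hA)
  · obtain ⟨t, ht, t1⟩ := h2 P
    have k1 : center (P : Subgroup G) = (𝐙).subgroupOf P := le_antisymm (fun x hx => by_contra
      fun e => FGS.not_dvd_index_of_sylow_le P (fun g hg => mem_cz.2 (congrArg Subtype.val
        (mem_center_iff.1 hx ⟨g, hg⟩))) (h.dvd_idx e))
      fun x hx => mem_center_iff.2 fun g => Subtype.ext (mem_center_iff.1 hx g)
    have k2 := PGrp.index_center_of_abelian_index_prime P.isPGroup' (fun e => t1 ?_)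
      (A := (𝐀).subgroupOf P) (isMulCommutative_of_forall fun a ha b hb =>
        Subtype.ext (comm_of_isMulCommutative hc ha hb)) (h3 P fun e => t1 (e ht))
    · obtain ⟨k, hk⟩ := P.isPGroup'.index (center (P : Subgroup G))
      have k3 : (center (P : Subgroup G)).index ∣ m * (m * n) :=
        k1 ▸ h4 ▸ relIndex_dvd_index_of_normal _ _
      have k4 : m ^ 2 ∣ (center (P : Subgroup G)).index :=
        k1 ▸ pow_dvd_relIndex P (h4 ▸ ⟨n, by ring⟩)
      rw [← mul_assoc, hk] at k3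
      have k5 := Nat.dvd_antisymm (hk ▸ (h.cop.pow_left k).dvd_of_dvd_mul_right k3) (sq m ▸ k4)
      exact Nat.eq_of_mul_eq_mul_left hp.pos (k2.symm.trans k5)
    · exact h.i5 hp hm hu hu' (h.g3 (h.i1' hp hm hu hu')) hu' ▸
        FGS.le_centralizer_of_comm e (pCore_le_sylow P hu) ht

end C3

end Cfsg.Agent.Part
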