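import Mathlib
import Cfsg.Agent.Part.Cm2
import Cfsg.Agent.S4035
import Cfsg.Agent.Transfer.Abelian

set_option autoImplicit false
set_option linter.unusedSectionVars false

/-! Class sizes: elements of maximal `p`-part, normal subgroups with two class sizes. -/

namespace Cfsg.Agent.Part

open Subgroup Core GW
open scoped Pointwise commutatorElement

variable {G : Type*} [Group G] [Finite G]

local notation "𝐙" => center G
local notation "zi" x:max => Subgroup.relIndex (center G) (cz x)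

theorem PE.cop {s p : ℕ} (hs : s.Prime) (hp : p.Prime) (e : s ≠ p) {x : G} (h : PE s x) :
    (orderOf x).Coprime p :=
  h.elim fun k hk => hk ▸ coprime_pow hs hp e k

theorem mem_of_cop {p : ℕ} (hp : p.Prime) {K : Subgroup G} {g : G} (hg : (orderOf g).Coprime p)
    (h : ∀ s : ℕ, s.Prime → s ≠ p → ∀ a ∈ zpowers g, PE s a → a ∈ K) : g ∈ K := by
  by_contra e
  obtain ⟨s, hs, a, ha, h1, h2⟩ := exists_pe e
  refine h2 (h s hs ?_ a ha h1)
  rintro rfl
  have h3 : a ≠ 1 := fun e' => h2 (e' ▸ K.one_mem)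
  have h4 := h1.dvd h3 ha
  rw [Nat.card_zpowers] at h4
  exact (Nat.Prime.coprime_iff_not_dvd hs).1 hg.symm h4

theorem nilp_of_cent {p : ℕ} (hp : p.Prime)
    (h : ∀ s : ℕ, s.Prime → s ≠ p → ∀ x : G, PE s x → x ∈ 𝐙) : Group.IsNilpotent G := by
  have := Fact.mk hp
  have hQ : IsPGroup p (G ⧸ center G) := fun x => by
    obtain ⟨x, rfl⟩ := QuotientGroup.mk_surjective x
    obtain ⟨a, b, -, -, rfl, hab, ⟨k, hk⟩, hb⟩ := FGS.exists_pPart p x
    refine ⟨k, (QuotientGroup.eq_one_iff _).2 ?_⟩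
    beta_reduce
    rw [hab.mul_pow, ← hk, pow_orderOf_eq_one, one_mul]
    exact pow_mem (mem_of_cop hp hb fun s hs e a _ => h s hs e a) _
  have := hQ.isNilpotent
  exact Subgroup.isNilpotent_of_ker_le_center (QuotientGroup.mk' 𝐙) (by rw [QuotientGroup.ker_mk'])

/-- If the `p`-regular elements of `B` have `p'`-index, a Sylow `p`-subgroup is a direct factor. -/
theorem reg_direct {p : ℕ} [hp : Fact p.Prime] {B : Subgroup G}
    (h : ∀ g ∈ B, (orderOf g).Coprime p → ¬ p ∣ (cz g).relIndex B) :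
    HasNormalPComplement p B ∧
      ∀ g ∈ B, (orderOf g).Coprime p → ∀ v ∈ B, PE p v → v ∈ cz g := by
  have h' : ∀ g : B, (orderOf g).Coprime p → ¬ p ∣ (cz g).index := fun g hg =>
    FGS.index_centralizer_subgroup B g ▸ h g g.2 (orderOf_coe g ▸ hg)
  obtain ⟨P⟩ := (inferInstance : Nonempty (Sylow p B))
  obtain ⟨h1, H, h2, h3, h4, h5⟩ := S4035.result (fun g hg => FGS.ncard_carrier g ▸ h' g hg) P
  refine ⟨⟨P, H, h2, (isComplement'_of_disjoint_and_mul_eq_univ (disjoint_iff.2 h4) ?_).symm⟩,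
    fun g hg hc v hv hv1 => ?_⟩
  · rw [← normal_mul, h5, coe_top]
  · obtain ⟨R, hR⟩ := FGS.exists_sylow_le_of_not_dvd_index (h' ⟨g, hg⟩ (by simpa using hc))
    have : Unique (Sylow p B) := Sylow.unique_of_normal P h1
    obtain ⟨R', hR'⟩ := ((PE.coe (x := (⟨v, hv⟩ : B))).1 hv1).pg.exists_le_sylow
    exact mem_cz.2 (congrArg Subtype.val
      (mem_cz.1 (hR (Subsingleton.elim R' R ▸ hR' (mem_zpowers _)))))

/-- Camina: a `p`-element whose class size is the largest `p`-part. -/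
theorem np_of_max {p a : ℕ} [hp : Fact p.Prime] (hmax : ∀ y : G, ¬ p ^ (a + 1) ∣ (cz y).index)
    {x : G} (hx : PE p x) (h : (cz x).index = p ^ a) : HasNormalPComplement p G := by
  obtain ⟨h1, h2⟩ := reg_direct (p := p) (B := cz x) fun g hg hc e => hmax (x * g) (by
    rw [cz_mul hg (hx.elim fun k hk => hk ▸ hc.symm.pow_left k),
      ← relIndex_mul_index inf_le_left, inf_relIndex_left, h, pow_succ']
    exact mul_dvd_mul_right e _)
  have h3 : ∀ g ∈ cz x, (orderOf g).Coprime p → g ∈ centralizer (pCore p G : Set G) :=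
    fun g hg hc => p_times_q hx.pg (Nat.card_zpowers g ▸ hc) (pCore_isPGroup p)
      (by rw [← cz_eq_zpowers]; exact zpowers_le.2 (cz_symm hg)) le_normalizer_of_normal
      le_normalizer_of_normal (by
        rw [← cz_eq_zpowers, ← cz_eq_zpowers]
        exact fun v hv => h2 g hg hc v hv.2 (pe_of_mem (pCore_isPGroup p) hv.1)) (mem_zpowers g)
  have h4 : ∀ g : G, (orderOf g).Coprime p → g ∈ cz x := fun g hg => by
    refine mem_cz.2 (mem_centralizer_iff.1 (mem_of_cop (K := centralizer (pCore p G : Set G))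
      hp.out hg fun s hs e b _ hb => ?_) x (mem_pCore_of_index hx h)).symm
    obtain ⟨c, hc⟩ := exists_conj_pe (B := cz x) hs
      (fun e' => e ((Nat.prime_dvd_prime_iff_eq hs hp.out).1 (hs.dvd_of_dvd_pow (h ▸ e')))) hb
    simpa [mul_assoc] using (inferInstance : (centralizer (pCore p G : Set G)).Normal).conj_mem _
      (h3 _ hc ((hb.conj c).cop hs hp.out e)) c⁻¹
  rw [Transfer.hasNormalPComplement_iff_mul] at h1 ⊢
  intro u v hu hv
  simpa using h1 ⟨u, h4 u hu⟩ ⟨v, h4 v hv⟩ (by simpa using hu) (by simpa using hv)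

theorem isSylowOf_zp {s : ℕ} (hs : s.Prime) {A : Subgroup G}
    (h : ∀ v ∈ A, PE s v → v ∈ centralizer (A : Set G)) : IsSylowOf s (zp s A) A := by
  have := Fact.mk hs
  obtain ⟨P, hP⟩ := exists_isSylowOf s A
  rwa [hP.eq_of_le (zp_pg s A) (fun v hv => hv.1) fun v hv =>
    (mem_zp hs).2 ⟨hP.le hv, h v (hP.le hv) (pe_of_mem hP.isPGroup hv), pe_of_mem hP.isPGroup hv⟩]
    at hP

/-- An abelian Sylow subgroup of a normal subgroup `N`, not central in its normaliser, contains a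
non-central element of `s'`-index. -/
theorem exists_ndvd_of_ab {s : ℕ} (hs : s.Prime) {Q N : Subgroup G} [N.Normal]
    (hQ : IsSylowOf s Q N) (hab : IsMulCommutative Q) {y ρ : G} (hy : y ∈ Q) (h1 : ρ ∈ N)
    (h2 : ρ ∈ normalizer (Q : Set G)) (h3 : ρ ∉ cz y) :
    ∃ v ∈ Q, v ∉ 𝐙 ∧ ¬ s ∣ (cz v).index := by
  have := Fact.mk hs
  obtain ⟨T, hT⟩ := hQ.isPGroup.exists_le_sylow
  have e : Q = (T : Subgroup G) ⊓ N := hQ.eq_of_le (T.2.to_le inf_le_left) inf_le_right (le_inf hT hQ.le)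
  obtain ⟨v, hv, v1, v2⟩ := exists_mem_comm_of_normalizer (V := (T : Subgroup G) ⊓ ⁅N, N⁆)
    (T.2.to_le inf_le_left) (fun e' => h3 (by
      have : ⁅ρ, y⁆ ∈ (T : Subgroup G) ⊓ ⁅N, N⁆ := ⟨hT (Q.mul_mem
        ((mem_normalizer_iff.1 h2 y).1 hy) (Q.inv_mem hy)), commutator_mem_commutator h1 (hQ.le hy)⟩
      rw [e', mem_bot, commutatorElement_eq_one_iff_mul_comm] at this
      exact mem_cz.2 this)) T.2
    ((le_inf le_normalizer le_normalizer_of_normal).trans inf_normalizer_le_normalizer_inf)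
  have v3 : v ∈ N := commutator_le_self N hv.2
  have v4 : v ∈ Q := e ▸ ⟨hv.1, v3⟩
  refine ⟨v, v4, fun hz => v1 ?_, FGS.not_dvd_index_of_sylow_le T fun g hg => mem_cz.2 (v2 g hg)⟩
  have h4 := Transfer.inf_commutator_inf_center_eq_bot (H := Q.subgroupOf N) (by
    rw [Nat.card_congr (subgroupOfEquivOfLe hQ.le).toEquiv]; exact hQ.coprime_relIndex)
  have h5 := hv.2
  rw [← map_subtype_commutator] at h5
  obtain ⟨w, hw, rfl⟩ := h5
  exact congrArg Subtype.val (mem_bot.1 (h4 ▸ ⟨⟨v4, hw⟩,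
    mem_center_iff.2 fun g => Subtype.ext (mem_center_iff.1 hz g)⟩))

theorem two_nilp {r : ℕ} [hr : Fact r.Prime] (R : Sylow r G) (hR : ¬ (R : Subgroup G) ≤ 𝐙)
    (N : Subgroup G) [N.Normal] (hRN : (R : Subgroup G) ≤ N) {m : ℕ}
    (h : ∀ x ∈ N, x ∉ 𝐙 → (cz x).index = m) : Group.IsNilpotent N := by
  have r1 := FGS.not_dvd_index_of_sylow_le R hRN
  have eq : ∀ a ∈ N, ∀ b ∈ N, b ∉ 𝐙 → cz a ≤ cz b → cz a = cz b := fun a ha b hb b1 e =>
    eq_of_le_of_index e (by rw [h a ha (nc_of_le e b1), h b hb b1])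
  have le : ∀ a ∈ N, a ∉ 𝐙 → ∀ b ∈ N, b ∈ cz a → (orderOf a).Coprime (orderOf b) → cz a ≤ cz b :=
    fun a ha a1 b hb e hc => by
      have e1 := cz_mul e hc
      rw [← eq _ (N.mul_mem ha hb) a ha a1 (e1 ▸ inf_le_left), e1]
      exact inf_le_right
  have cen : ∀ t : ℕ, t.Prime → ¬ t ∣ m → ∀ v ∈ N, PE t v → N ≤ cz v := fun t ht e v hv =>
    R3.cent_of ht (fun g hg e' => by
      have e2 := e'.trans (FGS.relIndex_dvd_index_of_normal_right N (cz g))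
      by_cases g1 : g ∈ 𝐙
      · rw [FGS.index_centralizer_eq_one_iff.2 g1] at e2
        exact ht.one_lt.ne' (Nat.dvd_one.1 e2)
      · exact e (h g hg g1 ▸ e2)) hv
  refine nilp_of_cent hr.out fun s hs e y y1 => ?_
  obtain ⟨y, y0⟩ := y
  replace y1 : PE s y := PE.coe.2 y1
  by_contra y2
  have y3 : ¬ N ≤ cz y := fun e' => y2 (mem_center_iff.2 fun g => Subtype.ext (mem_cz.1 (e' g.2)))
  have y4 : y ∉ 𝐙 := fun e' => y3 fun g _ => mem_cz.2 (mem_center_iff.1 e' g)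
  obtain ⟨u, u1, u2⟩ := SetLike.not_le_iff_exists.1 hR
  obtain ⟨x, x1, x2, x3⟩ := (dvd_relIndex_iff (center_le_cz y) hr.out).1
    (zi_eq ((h u (hRN u1) u2).trans (h y y0 y4).symm) ▸
      dvd_zi hr.out (self_mem_cz u) (pe_of_mem R.2 u1) u2)
  have x0 : x ∈ N := mem_of_pe hr.out le_top (by rwa [relIndex_top_right]) (mem_top x)
    (le_normalizer_of_normal (mem_top x)) x2
  have e1 := eq y y0 x x0 x3 (le y y0 y4 x x0 x1 (y1.coprime hs hr.out e x2))
  have k1 : ∀ t : ℕ, t.Prime → ∀ v ∈ cz y ⊓ N, PE t v → cz y ≤ cz v := fun t ht v hv v1 => by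
    by_cases e' : t = s
    · exact e1 ▸ le x x0 x3 v hv.2 (e1 ▸ hv.1) (x2.coprime hr.out ht (e' ▸ e.symm) v1)
    · exact le y y0 y4 v hv.2 hv.1 (y1.coprime hs ht (Ne.symm e') v1)
  have k2 : ∀ t : ℕ, t.Prime → ∀ v ∈ cz y ⊓ N, PE t v → v ∈ centralizer (↑(cz y ⊓ N) : Set G) :=
    fun t ht v hv v1 g hg => mem_cz.1 (k1 t ht v hv v1 hg.1)
  have k3 : ∀ t : ℕ, t.Prime → ∀ v ∈ cz y ⊓ N, v ∉ 𝐙 → PE t v → ∀ g ∈ N, g * v = v * g →
      g ∈ cz y ⊓ N := fun t ht v hv v0 v1 g hg e' =>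
    ⟨eq y y0 v hv.2 v0 (k1 t ht v hv v1) ▸ mem_cz.2 e', hg⟩
  have r2 : r ∣ (cz y ⊓ N).relIndex N := by
    by_contra e'
    refine y3 (e1 ▸ cen r hr.out (fun e2 => ?_) x x0 x2)
    have e3 := (h y y0 y4 ▸ e2).trans (index_dvd_of_le (inf_le_left : cz y ⊓ N ≤ _))
    rw [← relIndex_mul_index inf_le_right] at e3
    exact ((Nat.Prime.dvd_mul hr.out).1 e3).elim e' r1
  have yA : y ∈ cz y ⊓ N := ⟨self_mem_cz y, y0⟩
  have s1 : ¬ s ∣ (cz y ⊓ N).relIndex N := fun e' => wx2 inf_le_right hs hr.out e yA y4 y1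
    ⟨x1, x0⟩ x3 x2 (fun v hv v1 => v1.elim (k2 s hs v hv) (k2 r hr.out v hv))
    (fun v hv v0 v1 => v1.elim (k3 s hs v hv v0) (k3 r hr.out v hv v0)) e' r2
  obtain ⟨ρ, -, ⟨p1, p2⟩, p3⟩ := exists_norm inf_le_right hr.out (k2 r hr.out)
    ((mem_zp hr.out).2 ⟨⟨x1, x0⟩, k2 r hr.out x ⟨x1, x0⟩ x2, x2⟩) x3
    (fun v hv v0 => k3 r hr.out v hv.1 v0 ((mem_zp hr.out).1 hv).2.2) r2
  have := Fact.mk hs
  obtain ⟨v, hv, v0, v1⟩ := exists_ndvd_of_ab hs
    ((isSylowOf_zp hs (k2 s hs)).trans inf_le_right s1) (zp_comm _ _)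
    ((mem_zp hs).2 ⟨yA, k2 s hs y yA y1, y1⟩) p1 (norm_zp _ _ p2) fun e' => p3 ⟨e', p1⟩
  exact y3 (cen s hs (h v hv.1.2 v0 ▸ v1) y y0 y1)

theorem PE.map {H : Type*} [Group H] {s : ℕ} (hs : s.Prime) (f : G →* H) {x : G} (h : PE s x) :
    PE s (f x) := h.elim fun _ hk =>
  ((Nat.dvd_prime_pow hs).1 (hk ▸ orderOf_map_dvd f x)).imp fun _ e => e.2

theorem solv_of_pq {p q : ℕ} (hp : p.Prime) (hq : q.Prime) (hqp : q ≠ p)
    (h : ∀ s : ℕ, s.Prime → s ≠ p → ∀ x : G, PE s x → ∀ t : ℕ, t.Prime → t ∣ (cz x).index →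
      t = p ∨ t = q) : Group.IsSolvable G := by
  by_contra hs
  have := FGS.solvableRadical_normal (G := G)
  have := Fact.mk hq
  let π := QuotientGroup.mk' (solvableRadical G)
  have hF : fittingSubgroup (G ⧸ solvableRadical G) = ⊥ := eq_bot_iff.2 ((FGS.le_solvableRadical
      fitting_solvable).trans_eq FGS.solvableRadical_quotient)
  have k : ∀ s : ℕ, s.Prime → s ≠ p → ∀ x : G, PE s x → ¬ q ∣ (cz (π x)).index → π x = 1 :=
    fun s hs e x hx e' => eq_one_of_index hF hp (Nat.eq_prime_pow_of_unique_prime_dvd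
      index_ne_zero_of_finite fun {t} ht e1 => (h s hs e x hx t ht (e1.trans
        (FGS.index_centralizer_map_dvd (QuotientGroup.mk'_surjective _) x))).resolve_right
          fun e2 => e' (e2 ▸ e1))
  obtain ⟨r, hr, h1, -, v, h2, h3⟩ := exists_third_rad hs hp hq
  refine h3 ((QuotientGroup.eq_one_iff v).1 (k r hr h1 v h2 fun e => ?_))
  obtain ⟨y, -, y1, y2⟩ := exists_pc' (B := ⊤) hq
    (card_top (G := G ⧸ solvableRadical G) ▸ e.trans (index_dvd_card _))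
  obtain ⟨x, rfl⟩ := QuotientGroup.mk'_surjective _ y
  obtain ⟨a, -, a1, a2⟩ := FGS.exists_pElement_lift π x (y1.trans (pow_one q).symm)
  rw [relIndex_top_right] at y2
  exact FGS.ne_one_of_orderOf_prime hq y1 (a1 ▸ k q hq hqp a a2 (a1 ▸ y2))

theorem norm_cz_of_comm {g u : G} (h : g * u * g⁻¹ * u⁻¹ ∈ 𝐙) : g ∈ normalizer (cz u : Set G) :=
  mem_normalizer_fintype fun y hy => by
    have e : cz (g * u * g⁻¹) = cz u := cz_eq_of_mk (QuotientGroup.eq.2 (by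
      have := mem_center_iff.1 h u⁻¹
      rw [show (g * u * g⁻¹)⁻¹ * u = (u⁻¹ * (g * u * g⁻¹ * u⁻¹) * u)⁻¹ by group, this,
        inv_mul_cancel_right]
      exact inv_mem h))
    exact e ▸ conj_mem_cz hy

/-- The non-central `p`-regular elements all have class size `m`. -/
structure RG (G : Type*) [Group G] (p m : ℕ) : Prop where
  hp : p.Prime
  idx : ∀ x : G, (orderOf x).Coprime p → x ∉ center G → (cz x).index = m

namespace RG

variable {p m : ℕ} (h : RG G p m) {a b w v : G} {q r s t : ℕ}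
include h

theorem eq (ha : (orderOf a).Coprime p) (hb : (orderOf b).Coprime p) (b1 : b ∉ 𝐙)
    (e : cz a ≤ cz b) : cz a = cz b :=
  eq_of_le_of_index e (by rw [h.idx a ha (nc_of_le e b1), h.idx b hb b1])

theorem le (hs : s.Prime) (ht : t.Prime) (e1 : s ≠ p) (e2 : t ≠ p) (e3 : s ≠ t) (ha : PE s a)
    (hb : PE t b) (a1 : a ∉ 𝐙) (e : b ∈ cz a) : cz a ≤ cz b := by
  have e4 := cz_mul e (ha.coprime hs ht e3 hb)
  have e5 : Commute a b := (mem_cz.1 e).symm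
  rw [← h.eq (((ha.cop hs h.hp e1).mul_left (hb.cop ht h.hp e2)).coprime_dvd_left
    e5.orderOf_mul_dvd_mul_orderOf) (ha.cop hs h.hp e1) a1 (e4 ▸ inf_le_left), e4]
  exact inf_le_right

theorem ex (hs : s.Prime) (hr : r.Prime) (e1 : s ≠ p) (e2 : r ≠ p) (hN : NC G r) (hw : PE s w)
    (w1 : w ∉ 𝐙) : ∃ b ∈ cz w, PE r b ∧ b ∉ 𝐙 := by
  obtain ⟨u, u1, u2⟩ := hN
  exact (dvd_relIndex_iff (center_le_cz w) hr).1 (zi_eq ((h.idx u (u1.cop hr h.hp e2) u2).trans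
    (h.idx w (hw.cop hs h.hp e1) w1).symm) ▸ dvd_zi hr (self_mem_cz u) u1 u2)

theorem k1 (hq : q.Prime) (hr : r.Prime) (e1 : q ≠ p) (e2 : r ≠ p) (e3 : q ≠ r) (hN : NC G r)
    (hw : PE q w) (w1 : w ∉ 𝐙) (ht : t.Prime) (e4 : t ≠ p) (hv : v ∈ cz w) (v1 : PE t v) :
    cz w ≤ cz v := by
  by_cases e : q = t
  · obtain ⟨b, b1, b2, b3⟩ := h.ex hq hr e1 e2 hN hw w1
    have e5 := h.eq (hw.cop hq h.hp e1) (b2.cop hr h.hp e2) b3 (h.le hq hr e1 e2 e3 hw b2 w1 b1)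
    exact e5 ▸ h.le hr ht e2 e4 (e ▸ e3.symm) b2 v1 b3 (e5 ▸ hv)
  · exact h.le hq ht e1 e4 e hw v1 w1 hv

theorem nd (hq : q.Prime) (hr : r.Prime) (e1 : q ≠ p) (e2 : r ≠ p) (e3 : q ≠ r) (hN : NC G q)
    (hN' : NC G r) (h1 : q ∣ m) : ¬ r ∣ m := fun h2 => by
  obtain ⟨w, hw, w1⟩ := hN
  obtain ⟨b, b1, b2, b3⟩ := h.ex hq hr e1 e2 hN' hw w1
  have k := fun {t v} => h.k1 (t := t) (v := v) hq hr e1 e2 e3 hN' hw w1
  have k' : ∀ v ∈ cz w, PE q v ∨ PE r v → cz w ≤ cz v := fun v hv v1 =>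
    v1.elim (k hq e1 hv) (k hr e2 hv)
  have e := h.idx w (hw.cop hq h.hp e1) w1
  refine wx2 (M := ⊤) le_top hq hr e3 (self_mem_cz w) w1 hw b1 b3 b2
    (fun v hv v1 g hg => mem_cz.1 (k' v hv v1 hg)) (fun v hv v0 v1 g _ e' => ?_)
    (by rwa [relIndex_top_right, e]) (by rwa [relIndex_top_right, e])
  rw [h.eq (hw.cop hq h.hp e1) (v1.elim (·.cop hq h.hp e1) (·.cop hr h.hp e2)) v0 (k' v hv v1)]
  exact mem_cz.2 e'

theorem not_nc [Group.IsSolvable G] (hq : q.Prime) (hr : r.Prime) (e1 : q ≠ p) (e2 : r ≠ p)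
    (e3 : q ≠ r) (hN : NC G q) (h1 : q ∣ m) (h2 : ∀ s : ℕ, s.Prime → s ∣ m → s = p ∨ s = q) :
    ¬ NC G r := fun hN' => by
  have := Fact.mk hq
  have := Fact.mk hr
  have := Fact.mk h.hp
  have r1 : ¬ r ∣ m := fun e => (h2 r hr e).elim e2 e3.symm
  obtain ⟨Q⟩ := (inferInstance : Nonempty (Sylow q G))
  obtain ⟨u, ⟨-, u1⟩, u2, -, u3⟩ := exists_second_center (X := ⊤) Q.2 fun e => by
    obtain ⟨w, hw, w1⟩ := hN
    obtain ⟨g, hg⟩ := exists_conj_pe hq Q.not_dvd_index hw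
    exact w1 (by simpa [mul_assoc] using
      (inferInstance : (center G).Normal).conj_mem _ (e ⟨mem_top _, hg⟩) g⁻¹)
  have u4 := pe_of_mem Q.2 u1
  have i1 := h.idx u (u4.cop hq h.hp e1) u2
  obtain ⟨b, b1, b2, b3⟩ := h.ex hq hr e1 e2 hN' u4 u2
  have b4 := h.k1 hq hr e1 e2 e3 hN' u4 u2 hr e2 b1 b2
  have b5 := h.eq (u4.cop hq h.hp e1) (b2.cop hr h.hp e2) b3 b4
  have b6 : b ∈ zp r (cz u) := (mem_zp hr).2 ⟨b1, fun g hg => mem_cz.1 (b4 hg), b2⟩
  have c1 : ∀ g ∈ Q, PE r ⁅g, b⁆ := fun g hg => pe_of_mem (zp_pg r (cz u)) (mul_mem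
    ((mem_normalizer_iff.1 (norm_zp r _ (norm_cz_of_comm (u3 g hg))) b).1 b6) (inv_mem b6))
  have one : ∀ {H : Type _} [Group H] [Finite H] {s : ℕ} {x : H}, s.Prime → s ≠ r → PE s x →
      PE r x → x = 1 := fun hs e x1 x2 =>
    orderOf_eq_one_iff.1 ((Nat.coprime_self _).1 (x1.coprime hs hr e x2))
  let π := QuotientGroup.mk' (pCore p G)
  have hπ : Function.Surjective π := QuotientGroup.mk'_surjective _
  have d1 : fittingSubgroup (G ⧸ pCore p G) ≤ cz (π b) := by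
    rw [fitting_eq_iSup_pCore]
    refine iSup_le fun ⟨s, hs⟩ => ?_
    have := Fact.mk hs
    by_cases e : s ∣ m
    · rcases h2 s hs e with rfl | rfl
      · exact (pCore_quotient_pCore (G := G) s).trans_le bot_le
      · intro y hy
        obtain ⟨g, hg, rfl⟩ := pCore_le_sylow (Q.mapSurjective hπ) hy
        refine mem_cz.2 (commutatorElement_eq_one_iff_mul_comm.1 (one hs e3
          (pe_of_mem (pCore_isPGroup s) ?_) (map_commutatorElement π g b ▸ (c1 g hg).map hr π)))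
        rw [commutatorElement_def, mul_assoc, mul_assoc, ← mul_assoc (π b)]
        exact mul_mem hy ((pCore_normal s _).conj_mem _ (inv_mem hy) _)
    · exact pCore_le_of_not_dvd_index fun e' => e
        (i1 ▸ b5 ▸ e'.trans (FGS.index_centralizer_map_dvd hπ b))
  have d2 : π b ∈ pCore r (G ⧸ pCore p G) := le_pCore_of_le_fitting (b2.map hr π).pg
    (Subgroup.zpowers_le.2 (centralizer_fitting_le fun g hg => mem_cz.1 (d1 hg))) (mem_zpowers _)
  obtain ⟨t, t1, t2⟩ := SetLike.not_le_iff_exists.1 fun e =>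
    FGS.not_dvd_index_of_sylow_le Q e (i1 ▸ h1)
  have d3 : pCore r (G ⧸ pCore p G) ≤ cz (π t) := pCore_le_of_not_dvd_index fun e => r1
    (h.idx t ((pe_of_mem Q.2 t1).cop hq h.hp e1) (fun e' => t2 (center_le_cz u e')) ▸
      e.trans (FGS.index_centralizer_map_dvd hπ t))
  refine t2 (b5 ▸ mem_cz.2 (commutatorElement_eq_one_iff_mul_comm.1 (one h.hp e2.symm
    (pe_of_mem (pCore_isPGroup p) ((QuotientGroup.eq_one_iff _).1 ?_)) (c1 t t1))))
  exact (map_commutatorElement π t b).trans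
    (commutatorElement_eq_one_iff_mul_comm.2 (mem_cz.1 (d3 d2)).symm)

theorem main (hq : q.Prime) (e1 : q ≠ p) (h1 : q ∣ m) (hw : (cz w).index = m) :
    ∃ (P : Sylow p G) (Q : Sylow q G) (A : Subgroup G),
      A ≤ 𝐙 ∧ Nat.card ↥((P : Subgroup G) ⊔ (Q : Subgroup G)) = Nat.card P * Nat.card Q ∧
      ((P : Subgroup G) ⊔ (Q : Subgroup G)).Normal ∧ ((P : Subgroup G) ⊔ (Q : Subgroup G)) ⊓ A = ⊥ ∧
      ((P : Subgroup G) ⊔ (Q : Subgroup G)) ⊔ A = ⊤ := by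
  have := Fact.mk hq
  have := Fact.mk h.hp
  have n1 : ∀ s : ℕ, s.Prime → s ∣ m → NC G s := fun s hs e =>
    nc_of_dvd hs (center_le_cz w) (hw ▸ e)
  have h2 : ∀ s : ℕ, s.Prime → s ∣ m → s = p ∨ s = q := fun s hs e => by
    by_contra! e'
    exact h.nd hq hs e1 e'.1 e'.2.symm (n1 q hq h1) (n1 s hs e) h1 e
  have := solv_of_pq h.hp hq e1 fun s hs e x hx t ht e' => by
    by_cases x1 : x ∈ 𝐙
    · rw [FGS.index_centralizer_eq_one_iff.2 x1] at e'
      exact absurd (Nat.dvd_one.1 e') ht.one_lt.ne'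
    · exact h2 t ht (h.idx x (hx.cop hs h.hp e) x1 ▸ e')
  obtain ⟨H, hH⟩ := exists_isPiHall (G := G) {p, q}
  obtain ⟨A, hA⟩ := exists_isPiHall (G := G) {p, q}ᶜ
  obtain ⟨P, hP⟩ := FGS.exists_sylow_le_of_not_dvd_index (hH.2 p h.hp (by simp))
  obtain ⟨Q, hQ⟩ := FGS.exists_sylow_le_of_not_dvd_index (hH.2 q hq (by simp))
  have a1 : A ≤ 𝐙 := fun g hg => by
    by_contra e
    obtain ⟨s, hs, a, ha, a1, a2⟩ := exists_pe e
    have a3 := hA.1 s hs (a1.dvd (fun e' => a2 (e' ▸ one_mem _)) (Subgroup.zpowers_le.2 hg ha))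
    simp only [Set.mem_compl_iff, Set.mem_insert_iff, Set.mem_singleton_iff, not_or] at a3
    exact h.not_nc hq hs e1 a3.1 (Ne.symm a3.2) (n1 q hq h1) h1 h2 ⟨a, a1, a2⟩
  have a2 : (P : Subgroup G) ⊔ (Q : Subgroup G) = H := le_antisymm (sup_le hP hQ)
    (le_of_forall_isSylowOf_le _ _ fun s hs e => by
      rcases hH.1 s hs e with rfl | rfl
      · exact ⟨_, isSylowOf_sylow_of_le P hP, le_sup_left⟩
      · exact ⟨_, isSylowOf_sylow_of_le Q hQ, le_sup_right⟩)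
  have a3 : H ⊔ A = ⊤ := index_eq_one.1 (Nat.eq_one_iff_not_exists_prime_dvd.2 fun s hs e => by
    by_cases e' : s ∈ ({p, q} : Set ℕ)
    · exact hH.2 s hs e' (e.trans (index_dvd_of_le le_sup_left))
    · exact hA.2 s hs e' (e.trans (index_dvd_of_le le_sup_right)))
  refine ⟨P, Q, A, a1, ?_, ?_, ?_, a2 ▸ a3⟩ <;> rw [a2]
  · refine Nat.dvd_antisymm ((Nat.dvd_iff_prime_pow_dvd_dvd _ _).2 fun s k hs e => ?_)
      (Nat.Coprime.mul_dvd_of_dvd_of_dvd (IsPGroup.coprime_card_of_ne p q e1.symm _ _ P.2 Q.2)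
        (card_dvd_of_le hP) (card_dvd_of_le hQ))
    rcases k with _ | k
    · simp
    · rcases hH.1 s hs ((dvd_pow_self s k.succ_ne_zero).trans e) with rfl | rfl
      · exact (P.pow_dvd_card_of_pow_dvd_card (e.trans (card_subgroup_dvd_card H))).mul_right _
      · exact (Q.pow_dvd_card_of_pow_dvd_card (e.trans (card_subgroup_dvd_card H))).mul_left _
  · rw [← normalizer_eq_top_iff, eq_top_iff, ← a3]
    exact sup_le le_normalizer (a1.trans (center_le_normalizer _))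
  · exact inf_eq_bot_of_coprime (Nat.coprime_of_dvd fun s hs e e' => hA.1 s hs e' (hH.1 s hs e))

end RG

end Cfsg.Agent.Part
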