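import Mathlib
import Cfsg.Agent.Part.Cm3
import Cfsg.Agent.FGS.BHM
import Cfsg.Agent.Char.FrobKernel

set_option autoImplicit false
set_option linter.unusedSectionVars false

/-! Groups whose two largest class sizes are coprime. -/

namespace Cfsg.Agent.Part

open Subgroup Core GW
open scoped Pointwise commutatorElement

variable {G : Type*} [Group G] [Finite G]

local notation "𝐙" => center G
local notation "zi" x:max => Subgroup.relIndex (center G) (cz x)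

theorem relIndex_cz_lt {I Y : Subgroup G} (hY : Y ≤ normalizer (I : Set G)) {e : G} (he : e ∈ I)
    (e1 : e ≠ 1) : (cz e).relIndex Y < Nat.card I := by
  let f : Y ⧸ (cz e).subgroupOf Y → I := fun g =>
    ⟨g.out * e * (g.out : G)⁻¹, (mem_normalizer_iff.1 (hY g.out.2) e).1 he⟩
  have h1 : Function.Injective f := fun a b h => by
    have e1 : (a.out : G) * e * (a.out : G)⁻¹ = b.out * e * (b.out : G)⁻¹ := congrArg Subtype.val h
    rw [← a.out_eq, ← b.out_eq]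
    refine QuotientGroup.eq.2 (mem_cz.2 ?_)
    calc _ = (a.out : G)⁻¹ * (b.out * e * (b.out : G)⁻¹) * b.out := by simp [mul_assoc]
      _ = _ := by rw [← e1]; simp [mul_assoc]
  have := Fintype.ofFinite (Y ⧸ (cz e).subgroupOf Y)
  have := Fintype.ofFinite I
  rw [relIndex, index, Nat.card_eq_fintype_card, Nat.card_eq_fintype_card]
  refine Fintype.card_lt_of_injective_of_notMem f h1 (b := 1) ?_
  rintro ⟨g, hg⟩
  exact e1 (by simpa [f, Subtype.ext_iff] using hg)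

theorem card_le_relIndex {I X A : Subgroup G} (hI : I ≤ A) (h : I ⊓ X = ⊥) :
    Nat.card I ≤ X.relIndex A := by
  refine Nat.card_le_card_of_injective (f := fun i : I => ((⟨i, hI i.2⟩ : A) : A ⧸ X.subgroupOf A))
    fun a b e => ?_
  have : (a : G)⁻¹ * b ∈ I ⊓ X := ⟨I.mul_mem (I.inv_mem a.2) b.2,
    (QuotientGroup.eq (s := X.subgroupOf A)).1 e⟩
  rw [h, mem_bot, inv_mul_eq_one] at this
  exact Subtype.ext this

/-- An element acting coprimely and non-trivially on an abelian normal subgroup. -/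
theorem exists_lt_index {V : Subgroup G} [V.Normal] (hV : IsMulCommutative V) {x u : G}
    (hx : x ∈ V) (hc : (orderOf u).Coprime (Nat.card V)) (hu : u ∉ cz x) :
    ∃ c ∈ V, c ∈ cz u ∧ (cz x).index < (cz u ⊓ cz c).index ∧
      ((cz u ⊓ cz c).index.Coprime (cz x).index → cz u ≤ cz c) := by
  rw [← Nat.card_zpowers] at hc
  obtain ⟨e, he, c, ⟨c1, c2⟩, rfl⟩ := exists_commutator_mul_centralizer (zpowers u) V
    le_normalizer_of_normal hc (Or.inl inferInstance) x hx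
  have h1 := centralizer_inf_commutator_eq_bot (zpowers u) V hV le_normalizer_of_normal hc
  have h2 : ⁅V, zpowers u⁆ ≤ V := commutator_le_left _ _
  rw [← cz_eq_zpowers] at h1 c2
  have h3 : cz u ≤ normalizer ((⁅V, zpowers u⁆ : Subgroup G) : Set G) := fun g hg => by
    rw [← conj_smul_eq_iff_mem_normalizer, conj_smul_eq_map, map_commutator, ← conj_smul_eq_map,
      ← conj_smul_eq_map, conj_smul_eq_iff_mem_normalizer.2 (le_normalizer_of_normal (mem_top g)),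
      conj_smul_eq_iff_mem_normalizer.2 (centralizer_le_normalizer _ (cz_eq_zpowers u ▸ hg))]
  refine ⟨c, c1, c2, ?_, fun h g hg => ?_⟩
  · have e1 : e ≠ 1 := by
      rintro rfl
      exact hu (by rw [one_mul]; exact cz_symm c2)
    have h4 := relIndex_cz_lt (Y := cz u ⊓ cz c) (inf_le_left.trans h3) he e1
    have h5 := card_le_relIndex (X := cz u ⊓ cz c ⊓ cz e)
      (h2.trans (FGS.le_centralizer_of_comm hV hx))
      (eq_bot_iff.2 fun v hv => h1 ▸ ⟨⟨h2 hv.1, hv.2.1.1⟩, hv.1⟩)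
    have h6 := relIndex_mul_index (show cz u ⊓ cz c ⊓ cz e ≤ cz (e * c) from fun v hv =>
      cz_inf_le_cz_mul e c ⟨hv.2, hv.1.2⟩)
    rw [← relIndex_mul_index (inf_le_left : cz u ⊓ cz c ⊓ cz e ≤ _), inf_relIndex_left] at h6
    by_contra! h7
    have h8 : 0 < (cz (e * c)).index := Nat.pos_of_ne_zero index_ne_zero_of_finite
    nlinarith [Nat.mul_le_mul_left ((cz e).relIndex (cz u ⊓ cz c)) h7]
  · obtain ⟨b, hb, a, ha, rfl⟩ := exists_mul_of_coprime_index h g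
    have h4 : b * a * c * (b * a)⁻¹ * c⁻¹ = (b * a * e * (b * a)⁻¹)⁻¹ * (b * e * b⁻¹) := by
      calc _ = (b * a * e * (b * a)⁻¹)⁻¹ * (b * (a * (e * c)) * a⁻¹ * b⁻¹ * c⁻¹) := by group
        _ = (b * a * e * (b * a)⁻¹)⁻¹ * (b * e * (b⁻¹ * (b * c) * b⁻¹) * c⁻¹) := by
          rw [mem_cz.1 ha]; group
        _ = _ := by rw [mem_cz.1 hb.2]; group
    have h5 : b * a * c * (b * a)⁻¹ * c⁻¹ ∈ V ⊓ cz u ⊓ ⁅V, zpowers u⁆ :=
      mem_inf.2 ⟨mem_inf.2 ⟨mul_mem (‹V.Normal›.conj_mem c c1 _) (inv_mem c1),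
        mul_mem (mul_mem (mul_mem hg c2) (inv_mem hg)) (inv_mem c2)⟩, h4 ▸ mul_mem
        (inv_mem ((mem_normalizer_iff.1 (h3 hg) e).1 he)) ((mem_normalizer_iff.1 (h3 hb.1) e).1 he)⟩
    rw [h1, mem_bot, mul_inv_eq_one] at h5
    exact mem_cz_of_conj h5

theorem exists_ab_normal {N : Subgroup G} [N.Normal] {x : G} (h1 : ∀ g : G, ⁅g, x⁆ ∈ N)
    (h2 : x ∈ centralizer (N : Set G)) : ∃ V : Subgroup G, V.Normal ∧ IsMulCommutative V ∧ x ∈ V ∧
      ∀ p : ℕ, p.Prime → p ∣ Nat.card V → p ∣ Nat.card N ∨ p ∣ orderOf x := by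
  have h3 : normalClosure {x} ≤ N ⊔ zpowers x := by
    rw [normalClosure, closure_le]
    intro v hv
    obtain ⟨a, rfl, hv'⟩ := Group.mem_conjugatesOfSet_iff.1 hv
    obtain ⟨g, rfl⟩ := isConj_iff.1 hv'
    rw [show g * a * g⁻¹ = ⁅g, a⁆ * a by rw [commutatorElement_def]; group]
    exact mul_mem_sup (h1 g) (mem_zpowers a)
  have h4 : normalClosure {x} ≤ centralizer (N : Set G) :=
    normalClosure_le_normal (Set.singleton_subset_iff.2 h2)
  have h5 : normalClosure {x} ≤ cz x := h3.trans (sup_le (fun n hn => mem_cz.2 (h2 n hn))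
    (Subgroup.zpowers_le.2 (self_mem_cz x)))
  refine ⟨normalClosure {x}, inferInstance, le_centralizer_iff_isMulCommutative.1
    (normalClosure_le_normal (Set.singleton_subset_iff.2 fun v hv => mem_cz.1 (h5 hv))),
    subset_normalClosure rfl, fun p hp e => ?_⟩
  rw [← Nat.card_zpowers, ← hp.dvd_mul]
  exact (e.trans (card_dvd_of_le h3)).trans (card_sup_dvd le_normalizer_of_normal)

/-- The two largest class sizes `m > n > 1` are coprime. -/
structure QF (G : Type*) [Group G] (m n : ℕ) : Prop where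
  lt : n < m
  n1 : 1 < n
  cop : m.Coprime n
  top : ∀ z : G, (cz z).index ≤ m
  sec : ∀ z : G, (cz z).index < m → (cz z).index ≤ n
  exm : ∃ y : G, (cz y).index = m

namespace QF

variable {m n : ℕ} (h : QF G m n) {x y u v w g a b : G} {s t : ℕ}
include h

theorem exN : ∃ N : Subgroup G, N.Normal ∧ Nat.card N ∣ m ∧ ∀ w : G, (cz w).index.Coprime m →
    (∀ g : G, ⁅g, w⁆ ∈ N) ∧ w ∈ centralizer (N : Set G) := by
  obtain ⟨y, rfl⟩ := h.exm
  exact ⟨_, inferInstance, FGS.card_clStab_dvd y, fun w hw => FGS.mem_clStab hw.symm (h.top _)⟩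

theorem nd (hs : s.Prime) (e : s ∣ n) : ¬ s ∣ m := fun e' =>
  hs.one_lt.ne' (Nat.eq_one_of_dvd_coprimes h.cop e' e)

theorem eq_n (e : n ∣ (cz w).index) : (cz w).index = n := by
  refine le_antisymm (h.sec w (lt_of_le_of_ne (h.top w) fun e' => ?_))
    (Nat.le_of_dvd (Nat.pos_of_ne_zero index_ne_zero_of_finite) e)
  exact h.n1.ne' (Nat.eq_one_of_dvd_coprimes h.cop (e' ▸ e) dvd_rfl)

theorem l1 (hs : s.Prime) (e : ¬ s ∣ m) (hw : PE s w) (h1 : (cz w).index.Coprime m) : w ∈ 𝐙 := by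
  obtain ⟨N, _, h2, h3⟩ := h.exN
  obtain ⟨h4, h5⟩ := h3 w h1
  refine mem_center_iff.2 fun g => commutatorElement_eq_one_iff_mul_comm.1 ?_
  by_contra e1
  have h6 : Commute (g * w * g⁻¹) w⁻¹ := by
    have : Commute ⁅g, w⁆ w := h5 _ (h4 g)
    simpa [commutatorElement_def] using (this.mul_left (Commute.refl w)).inv_right
  exact e ((((hw.conj g).mul hs (show PE s w⁻¹ from hw.imp fun k hk => orderOf_inv w ▸ hk)
    h6).dvd e1 (h4 g)).trans h2)

theorem ex_x (hs : s.Prime) (e : ¬ s ∣ m) (hx : (cz x).index = n) :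
    ∃ x', (orderOf x').Coprime s ∧ cz x' = cz x := by
  have := Fact.mk hs
  obtain ⟨a, b, ha, -, e1, -, h1, h2⟩ := FGS.exists_pPart s x
  have h3 := h.l1 hs e h1 (h.cop.symm.coprime_dvd_left (hx ▸ index_dvd_of_le (cz_le_zp ha)))
  refine ⟨b, h2, cz_eq_of_mk ?_⟩
  rw [e1, QuotientGroup.mk_mul, (QuotientGroup.eq_one_iff a).2 h3, one_mul]

theorem l2 (hs : s.Prime) (e : ¬ s ∣ m) (hx : (cz x).index = n) (hw : w ∈ cz x) (h1 : PE s w) :
    w ∈ 𝐙 := by
  obtain ⟨x', h2, h3⟩ := h.ex_x hs e hx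
  have h4 := cz_mul (h3 ▸ hw) (h1.elim fun k hk => hk ▸ h2.pow_right k)
  rw [h3] at h4
  have h5 : cz (x' * w) = cz x := eq_of_le_of_index (h4 ▸ inf_le_left)
    (hx ▸ (h.eq_n (hx ▸ index_dvd_of_le (h4 ▸ inf_le_left))).le)
  exact h.l1 hs e h1 (h.cop.symm.coprime_dvd_left
    (hx ▸ index_dvd_of_le (h5 ▸ h4 ▸ inf_le_right)))

theorem l3 (hx : (cz x).index = n) (hs : s.Prime) (e : ¬ s ∣ m) (hu : PE s u) (u1 : u ∉ 𝐙) :
    (cz u).index = m := by
  obtain ⟨x', h2, h3⟩ := h.ex_x hs e hx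
  obtain ⟨N, _, h4, h5⟩ := h.exN
  obtain ⟨h6, h7⟩ := h5 x' (h3 ▸ hx ▸ h.cop.symm)
  obtain ⟨V, _, v1, v2, v3⟩ := exists_ab_normal h6 h7
  have v4 : s.Coprime (Nat.card V) := (Nat.Prime.coprime_iff_not_dvd hs).2 fun e' =>
    (v3 s hs e').elim (fun e1 => e (e1.trans h4)) ((Nat.Prime.coprime_iff_not_dvd hs).1 h2.symm)
  have v5 : (orderOf u).Coprime (Nat.card V) := hu.elim fun k hk => hk ▸ v4.pow_left k
  obtain ⟨c, c1, c2, c3, c4⟩ := exists_lt_index v1 v2 v5 fun e' => u1 (h.l2 hs e hx (h3 ▸ e') hu)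
  have c5 := cz_mul c2 (v5.coprime_dvd_right (orderOf_dvd_natCard _ c1))
  rw [h3, hx, ← c5] at c3 c4
  have c6 : (cz (u * c)).index = m := le_antisymm (h.top _) (not_lt.1 fun e' => (h.sec _ e').not_gt c3)
  rw [← c6, c5, inf_eq_left.2 (c4 (c6 ▸ h.cop))]

theorem max (hu : (cz u).index = m) (e : cz w ≤ cz u) : cz w = cz u :=
  eq_of_le_of_index e (hu ▸ h.top w)

theorem l4 (hx : (cz x).index = n) (hs : s.Prime) (e : ¬ s ∣ m) (hu : PE s u) (u1 : u ∉ 𝐙)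
    (ht : t.Prime) (e' : t ∣ m) (hw : w ∈ cz u) (h1 : PE t w) : cz u ≤ cz w ∧ w ∈ cz x := by
  have h2 := h.l3 hx hs e hu u1
  have h3 := cz_mul hw (hu.coprime hs ht (fun e1 => e (e1 ▸ e')) h1)
  have h4 : cz u ≤ cz w := h.max h2 (h3 ▸ inf_le_left) ▸ h3 ▸ inf_le_right
  obtain ⟨g, hg⟩ := exists_conj_pe (B := cz x) ht (fun e1 => h.nd ht (hx ▸ e1) e') h1
  obtain ⟨a, ha, b, hb, rfl⟩ := exists_mul_of_coprime_index (H := cz x) (K := cz u)
    (hx ▸ h2 ▸ h.cop.symm) g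
  rw [mul_assoc a, mem_cz.1 (h4 hb)] at hg
  exact ⟨h4, by simpa [mul_assoc] using mul_mem (mul_mem (inv_mem ha) hg) ha⟩

theorem l5 (hx : (cz x).index = n) (w : G) :
    (cz w).index = n ∨ ∃ (s : ℕ) (u : G), s.Prime ∧ ¬ s ∣ m ∧ PE s u ∧ u ∉ 𝐙 ∧ u ∈ cz w := by
  by_contra! e
  refine e.1 (h.eq_n ((Nat.coprime_of_dvd fun s hs e1 e2 => ?_ : n.Coprime (zi w)).dvd_of_dvd_mul_left
    (zi_mul w ▸ hx ▸ index_dvd_of_le (center_le_cz x))))
  obtain ⟨u, u1, u2, u3⟩ := (dvd_relIndex_iff (center_le_cz w) hs).1 e2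
  exact e.2 s u hs (h.nd hs e1) u2 u3 u1

theorem l6 (hx : (cz x).index = n) : (cz x).Normal := by
  refine ⟨fun w hw g => ?_⟩
  suffices w ∈ cz (g⁻¹ * x * g⁻¹⁻¹) by simpa [mul_assoc] using conj_mem_cz (g := g) this
  by_contra e
  obtain ⟨t, ht, a, ha, a1, a2⟩ := exists_pe e
  have a3 : a ∈ cz x := Subgroup.zpowers_le.2 hw ha
  have a4 : t ∣ m := by_contra fun e' => a2 (center_le_cz _ (h.l2 ht e' hx a3 a1))
  rcases h.l5 hx a with e1 | ⟨s, u, hs, e1, u1, u2, u3⟩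
  · obtain ⟨N, _, -, h1⟩ := h.exN
    rw [show g⁻¹ * x * g⁻¹⁻¹ = ⁅g⁻¹, x⁆ * x by rw [commutatorElement_def]; group] at a2
    exact a2 (cz_inf_le_cz_mul _ _ ⟨mem_cz.2 ((h1 a (e1 ▸ h.cop.symm)).2 _
      ((h1 x (hx ▸ h.cop.symm)).1 _)).symm, a3⟩)
  · exact a2 (h.l4 ((index_cz_conj _ x).trans hx) hs e1 u1 u2 ht a4 (cz_symm u3) a1).2

theorem l7 (hx : (cz x).index = n) (hw : (cz w).index = n) : cz x ≤ cz w := by
  have := h.l6 hx
  refine relIndex_eq_one.1 (Nat.eq_one_iff_not_exists_prime_dvd.2 fun s hs e => ?_)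
  obtain ⟨u, u1, u2, u3⟩ := (dvd_relIndex_iff (center_le_cz x) hs).1
    (e.trans (relIndex_dvd_of_le_left _ (center_le_cz w)))
  exact u3 (h.l2 hs (h.nd hs (hw ▸ e.trans (FGS.relIndex_dvd_index_of_normal_right _ _))) hx u1 u2)

theorem l8 (hx : (cz x).index = n) (hs : s.Prime) (e : ¬ s ∣ m) (hu : PE s u) (u1 : u ∉ 𝐙)
    (hw : w ∈ cz u ⊓ cz x) : cz u ≤ cz w := fun b hb => by
  by_contra e1
  obtain ⟨t, ht, a, ha, a1, a2⟩ := exists_pe (mt cz_symm e1)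
  have a3 := Subgroup.zpowers_le.2 hw ha
  exact a2 (cz_symm ((h.l4 hx hs e hu u1 ht
    (by_contra fun e' => a2 (center_le_cz _ (h.l2 ht e' hx a3.2 a1))) a3.1 a1).1 hb))

theorem l10 (hx : (cz x).index = n) (hs : s.Prime) (e : ¬ s ∣ m) (hu : PE s u) (u1 : u ∉ 𝐙) :
    cz u ⊓ cz x ≤ 𝐙 := by
  have := h.l6 hx
  have i1 := h.l3 hx hs e hu u1
  have c1 : (cz u).index.Coprime (cz x).index := hx ▸ i1 ▸ h.cop
  have h1 : (centralizer (↑(cz u ⊓ cz x) : Set G)).subgroupOf (cz x) = ⊤ := by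
    refine FGS.eq_top_of_forall_conj_mem _ fun ⟨w, hw⟩ => ?_
    rcases h.l5 hx w with e1 | ⟨t, v, ht, e1, v1, v2, v3⟩
    · exact ⟨1, fun b hb => by simpa using mem_cz.1 (h.l7 hx e1 hb.2)⟩
    · have i2 := h.l3 hx ht e1 v1 v2
      obtain ⟨g, hg⟩ := exists_conj_pe (B := cz u) ht (i1 ▸ e1) v1
      obtain ⟨b, hb, a, ha, rfl⟩ := exists_mul_of_coprime_index c1 g
      have h2 : a * v * a⁻¹ ∈ cz u := by
        simpa [mul_assoc] using mul_mem (mul_mem (inv_mem hb) hg) hb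
      have h3 : cz u ⊓ cz x = cz (a * v * a⁻¹) ⊓ cz x := eq_of_le_of_index
        (le_inf (fun c hc => cz_symm (h.l8 hx hs e hu u1 hc h2)) inf_le_right) (by
          rw [index_inf_of_coprime c1, index_inf_of_coprime (by rwa [index_cz_conj, i2, ← i1]),
            index_cz_conj, i2, i1])
      have h4 : a * w * a⁻¹ ∈ cz u ⊓ cz x :=
        h3 ▸ ⟨conj_mem_cz (cz_symm v3), this.conj_mem w hw a⟩
      exact ⟨⟨a, ha⟩, fun c hc => mem_cz.1 (h.l8 hx hs e hu u1 h4 hc.1)⟩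
  intro w hw
  refine mem_center_iff.2 fun g => ?_
  obtain ⟨b, hb, a, ha, rfl⟩ := exists_mul_of_coprime_index c1 g
  rw [mul_assoc, ← subgroupOf_eq_top.1 h1 ha w hw, ← mul_assoc, mem_cz.1 (h.l8 hx hs e hu u1 hw hb),
    mul_assoc]

theorem comm_x (hx : (cz x).index = n) : IsMulCommutative (cz x) :=
  le_centralizer_iff_isMulCommutative.1 fun w hw b hb => by
    rcases h.l5 hx w with e1 | ⟨t, v, ht, e1, v1, v2, v3⟩
    · exact mem_cz.1 (h.l7 hx e1 hb)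
    · exact mem_center_iff.1 (h.l10 hx ht e1 v1 v2 ⟨cz_symm v3, hw⟩) b

theorem l11 (hx : (cz x).index = n) (hg : g ∉ cz x) : ∃ (s : ℕ) (u : G), s.Prime ∧ ¬ s ∣ m ∧
    PE s u ∧ u ∉ 𝐙 ∧ u ∈ zpowers g ∧ cz g = cz u := by
  have := h.l6 hx
  obtain ⟨s, hs, u, hu, u1, u2⟩ := exists_pe hg
  have e : ¬ s ∣ m := fun e => u2 (mem_of_pe hs le_top (by
    rw [relIndex_top_right, hx]; exact fun e' => h.nd hs e' e) (mem_top u)
    (le_normalizer_of_normal (mem_top u)) u1)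
  have u3 : u ∉ 𝐙 := fun e' => u2 (center_le_cz x e')
  exact ⟨s, u, hs, e, u1, u3, hu, h.max (h.l3 hx hs e u1 u3) (cz_le_zp hu)⟩

theorem idx (hx : (cz x).index = n) (hg : g ∉ cz x) : (cz g).index = m ∧ cz g ⊓ cz x ≤ 𝐙 := by
  obtain ⟨s, u, hs, e, u1, u2, -, u3⟩ := h.l11 hx hg
  exact u3 ▸ ⟨h.l3 hx hs e u1 u2, h.l10 hx hs e u1 u2⟩

theorem l12 (hx : (cz x).index = n) (hg : g ∉ cz x) (ha : a ∈ cz x)
    (e : (g : G ⧸ 𝐙) ∈ cz (a : G ⧸ 𝐙)) : a ∈ 𝐙 := by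
  obtain ⟨s, u, hs, e1, u1, u2, u3, -⟩ := h.l11 hx hg
  by_contra a1
  obtain ⟨t, ht, c, hc, c1, c2⟩ := exists_pe a1
  have c3 := Subgroup.zpowers_le.2 ha hc
  have c4 : u ∈ cq a := Subgroup.zpowers_le.2 (show g ∈ cq a from e) u3
  have c5 : c ∈ cq u := Subgroup.zpowers_le.2 (show a ∈ cq u from cz_symm c4) hc
  refine c2 (h.l10 hx hs e1 u1 u2 ⟨mem_cz.2 (FGS.commute_of_coprime_of_central
    (c1.coprime ht hs (fun e2 => c2 (h.l2 ht (e2 ▸ e1) hx c3 c1)) u1) ?_), c3⟩)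
  rw [← QuotientGroup.eq_one_iff, ← commutatorElement_def, ← QuotientGroup.mk'_apply,
    map_commutatorElement]
  exact commutatorElement_eq_one_iff_mul_comm.2 (mem_cz.1 c5)

theorem ti (hx : (cz x).index = n) (hy : (cz y).index = m) (hb : b ∈ cz y) (b1 : b ∉ 𝐙)
    (e : g * b * g⁻¹ ∈ cz y) : g ∈ cz y := by
  have := h.l6 hx
  have y1 : y ∉ cz x := fun e' => h.lt.not_ge (hy ▸ hx ▸ Nat.le_of_dvd
    (Nat.pos_of_ne_zero index_ne_zero_of_finite)
    (index_dvd_of_le (FGS.le_centralizer_of_comm (h.comm_x hx) e')))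
  have h1 := (h.idx hx y1).2
  obtain ⟨a, ha, c, hc, rfl⟩ := exists_mul_of_coprime_index (H := cz x) (K := cz y)
    (hx ▸ hy ▸ h.cop.symm) g
  have h2 : c * b * c⁻¹ ∈ cz y := mul_mem (mul_mem hc hb) (inv_mem hc)
  have h3 : ⁅a, c * b * c⁻¹⁆ ∈ 𝐙 := h1 ⟨by
    simpa [commutatorElement_def, mul_assoc] using mul_mem e (inv_mem h2), by
    rw [commutatorElement_def, mul_assoc, mul_assoc, ← mul_assoc _ a⁻¹]
    exact mul_mem ha (this.conj_mem _ (inv_mem ha) _)⟩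
  refine mul_mem (center_le_cz y (h.l12 hx (g := c * b * c⁻¹) (fun e' => b1 ?_) ha ?_)) hc
  · simpa [mul_assoc] using (inferInstance : (center G).Normal).conj_mem _ (h1 ⟨h2, e'⟩) c⁻¹
  · rw [← QuotientGroup.eq_one_iff, ← QuotientGroup.mk'_apply, map_commutatorElement] at h3
    exact mem_cz.2 (commutatorElement_eq_one_iff_mul_comm.1 h3).symm

theorem inf_le (hx : (cz x).index = n) (hy : (cz y).index = m) : cz y ⊓ cz x ≤ 𝐙 :=
  (h.idx hx fun e' => h.lt.not_ge (hy ▸ hx ▸ Nat.le_of_dvd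
    (Nat.pos_of_ne_zero index_ne_zero_of_finite)
    (index_dvd_of_le (FGS.le_centralizer_of_comm (h.comm_x hx) e')))).2

theorem cz_eq (hx : (cz x).index = n) (hy : (cz y).index = m) (hb : b ∈ cz y) (b1 : b ∉ 𝐙) :
    cz b = cz y :=
  h.max hy fun g hg => h.ti hx hy hb b1 (by rwa [mem_cz.1 hg, mul_inv_cancel_right])

theorem main (hx : (cz x).index = n) (hy : (cz y).index = m) :
    IsMulCommutative (cz x) ∧ IsMulCommutative (cz y) ∧
    IsFrobeniusComplement ((cz y).map (QuotientGroup.mk' 𝐙)) ∧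
    frobeniusKernel ((cz y).map (QuotientGroup.mk' 𝐙)) =
      ((cz x).map (QuotientGroup.mk' 𝐙) : Set (G ⧸ 𝐙)) := by
  have := h.l6 hx
  have k : ∀ g w : G, (g : G ⧸ 𝐙) ∈ (cz w).map (QuotientGroup.mk' 𝐙) ↔ g ∈ cz w := fun g w => by
    rw [← QuotientGroup.mk'_apply, ← mem_comap, comap_map_eq, QuotientGroup.ker_mk',
      sup_eq_left.2 (center_le_cz w)]
  have y1 : y ∉ 𝐙 := fun e => by
    exact (h.n1.trans h.lt).ne' (hy ▸ FGS.index_centralizer_eq_one_iff.2 e)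
  refine ⟨h.comm_x hx, le_centralizer_iff_isMulCommutative.1 fun b hb c hc => ?_,
    ⟨fun e => y1 ?_, fun e => y1 (mem_center_iff.2 fun g => mem_cz.1 ((k g y).1 (e ▸ mem_top _))),
      fun g hg => eq_bot_iff.2 fun b hb => ?_⟩, Set.ext fun g => ?_⟩
  · by_cases b1 : b ∈ 𝐙
    · exact mem_center_iff.1 b1 c
    · exact mem_cz.1 (h.cz_eq hx hy hb b1 ▸ hc)
  · exact (QuotientGroup.eq_one_iff y).1 (mem_bot.1 (e ▸ (k y y).2 (self_mem_cz y)))
  · obtain ⟨g, rfl⟩ := QuotientGroup.mk_surjective g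
    obtain ⟨b, rfl⟩ := QuotientGroup.mk_surjective b
    by_contra b1
    exact hg ((k g y).2 ((cz y).inv_mem_iff.1 (h.ti hx hy ((k b y).1 hb.1)
      (mt (QuotientGroup.eq_one_iff b).2 b1)
      ((k _ y).1 (by simpa using mem_conj_smul_iff.1 hb.2)))))
  · obtain ⟨g, rfl⟩ := QuotientGroup.mk_surjective g
    rw [Char.mem_frobeniusKernel_iff, SetLike.mem_coe, k, QuotientGroup.eq_one_iff]
    refine ⟨fun e => e.elim (center_le_cz x ·) fun e => by_contra fun e' => ?_, fun e => ?_⟩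
    · obtain ⟨s, u, hs, e1, u1, u2, -, u3⟩ := h.l11 hx e'
      obtain ⟨a, ha⟩ := exists_conj_pe (B := cz y) hs (hy ▸ e1) u1
      have h1 := conj_mem_cz (g := a) (u3 ▸ self_mem_cz g)
      rw [h.cz_eq hx hy ha fun e2 => u2 (by
        simpa [mul_assoc] using (inferInstance : (center G).Normal).conj_mem _ e2 a⁻¹)] at h1
      exact e (a⁻¹ : G) (by simpa using (k _ y).2 h1)
    · by_contra! e'
      obtain ⟨a, ha⟩ := e'.2
      obtain ⟨a, rfl⟩ := QuotientGroup.mk_surjective a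
      have h1 := h.inf_le hx hy ⟨(k (a⁻¹ * g * a⁻¹⁻¹) y).1 (by simpa using ha), this.conj_mem g e _⟩
      exact e'.1 (by simpa [mul_assoc] using (inferInstance : (center G).Normal).conj_mem _ h1 a)

end QF

end Cfsg.Agent.Part
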