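import Mathlib
import Cfsg.Agent.Part.Rk7
import Cfsg.Agent.S4252
import Cfsg.Agent.S0035
import Cfsg.Agent.S0042

/-!
# Rank 3 groups with a Frobenius suborbit: building the configuration
-/

set_option autoImplicit false

namespace Cfsg.Agent.Part.Rk

open MulAction Subgroup

variable {G X : Type*} [Group G] [Fintype G] [Fintype X] [MulAction G X]

theorem equiv_trivial (hprim : IsPreprimitive G X) (R : X → X → Prop) (hR : Equivalence R)
    (hinv : ∀ (g : G) x y, R x y → R (g • x) (g • y)) (A : X) :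
    (∀ y, R A y → y = A) ∨ ∀ y, R A y := by
  have hB : IsBlock G {y | R A y} := isBlock_iff_smul_eq_of_mem.mpr fun {g a} h1 h2 => by
    have h3 : R A (g • A) := hR.trans h2 (hR.symm (hinv g _ _ h1))
    ext y
    rw [Set.mem_smul_set_iff_inv_smul_mem]
    refine ⟨fun h => hR.trans h3 (by simpa using hinv g _ _ h), fun h => ?_⟩
    simpa using hinv g⁻¹ _ _ (hR.trans (hR.symm h3) h)
  rcases hprim.isTrivialBlock_of_isBlock hB with h | h
  · exact Or.inl fun y hy => h hy (hR.refl A)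
  · exact Or.inr fun y => (h ▸ Set.mem_univ y : y ∈ {y | R A y})

theorem exists_kernel (adj : X → X → Prop) (inv : ∀ (g : G) {x y}, adj x y → adj (g • x) (g • y))
    (v : X) (tr : ∀ {a b}, adj v a → adj v b → ∃ g : G, g • v = v ∧ g • a = b)
    (frob : ∀ {g : G} {a b}, g • v = v → adj v a → adj v b → a ≠ b → g • a = a → g • b = b → g = 1)
    (h2 : ∃ a b, adj v a ∧ adj v b ∧ a ≠ b) (h3 : ∃ g : G, g ≠ 1 ∧ g • v = v ∧ ∃ a, adj v a ∧ g • a = a) :
    ∃ K : Subgroup G, (∀ g, g ∈ K ↔ g • v = v ∧ (g = 1 ∨ ∀ a, adj v a → g • a ≠ a)) ∧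
      Group.IsNilpotent K ∧ ∀ {a b}, adj v a → adj v b → ∃ g ∈ K, g • a = b := by
  classical
  letI : MulAction (stabilizer G v) {a // adj v a} :=
    { smul := fun g a => ⟨(g : G) • a.1, by have := inv g a.2; rwa [g.2] at this⟩
      one_smul := fun a => Subtype.ext (one_smul G a.1)
      mul_smul := fun g h a => Subtype.ext (mul_smul (g : G) h a.1) }
  have hs : ∀ (g : stabilizer G v) (a : {a // adj v a}), (g • a).1 = (g : G) • a.1 := fun _ _ => rfl
  obtain ⟨a, b, ha, hb, hab⟩ := h2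
  obtain ⟨g0, g1, g2, c, hc, g3⟩ := h3
  obtain ⟨h4, h5⟩ := S4252.result (G := stabilizer G v) (Ω := {a // adj v a})
    (Fintype.one_lt_card_iff.mpr ⟨⟨a, ha⟩, ⟨b, hb⟩, fun e => hab (congrArg Subtype.val e)⟩)
    (fun x y => let ⟨g, h1, h2⟩ := tr x.2 y.2; ⟨⟨g, h1⟩, Subtype.ext h2⟩)
    ⟨⟨g0, g2⟩, fun e => g1 (congrArg Subtype.val e), ⟨c, hc⟩, Subtype.ext g3⟩
    (fun g hg x y h1 h2 => by_contra fun e => hg (Subtype.ext (frob g.2 x.2 y.2
      (fun e' => e (Subtype.ext e')) (congrArg Subtype.val h1) (congrArg Subtype.val h2)))) ⟨a, ha⟩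
  obtain ⟨N, n1, -, n2⟩ := S0035.result _ h4
  obtain ⟨N', n3, -, n4⟩ := S0042.result _ h4
  obtain rfl : N = N' := SetLike.coe_injective (n1.trans n3.symm)
  rw [h5] at n1
  have key : ∀ x, adj v x → ∃ n ∈ N, (n : G) • a = x := fun x hx => by
    obtain ⟨g, h1, h2⟩ := tr ha hx
    obtain ⟨⟨n, h⟩, e⟩ := n2.2 ⟨g, h1⟩
    refine ⟨n, n.2, ?_⟩
    have e1 : ((h : stabilizer G v) : G) • a = a := congrArg Subtype.val h.2
    have e2 : ((n : stabilizer G v) : G) * (h : stabilizer G v) = g := congrArg Subtype.val e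
    rw [← h2, ← e2, mul_smul, e1]
  refine ⟨N.map (stabilizer G v).subtype, fun g => ⟨?_, fun ⟨h1, h2⟩ => ⟨⟨g, h1⟩, ?_, rfl⟩⟩,
    Group.nilpotent_of_mulEquiv (N.equivMapOfInjective _ (subtype_injective _)),
    fun {x y} hx hy => ?_⟩
  · rintro ⟨n, hn, rfl⟩
    rw [n1] at hn
    exact ⟨n.2, hn.imp (fun e => congrArg Subtype.val e) fun h a ha e => h ⟨a, ha⟩ (Subtype.ext e)⟩
  · rw [n1]
    exact h2.imp (fun e => Subtype.ext e) fun h a e => h a.1 a.2 (congrArg Subtype.val e)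
  · obtain ⟨n, hn, rfl⟩ := key x hx
    obtain ⟨n', hn', rfl⟩ := key y hy
    exact ⟨n' * (n : G)⁻¹, ⟨n' * n⁻¹, mul_mem hn' (inv_mem hn), rfl⟩, by simp [mul_smul]⟩

theorem exists_St [FaithfulSMul G X] (heven : Even (Nat.card G)) (hprim : IsPreprimitive G X)
    (A : X) (h3 : Nat.card (orbitRel.Quotient ↥(stabilizer G A) X) = 3) (B : X) (hBA : B ≠ A)
    (hfaith : ∀ g ∈ stabilizer G A, (∀ h ∈ stabilizer G A, g • (h • B) = h • B) → g = 1)
    (hfix : ∃ g ∈ stabilizer G A, g ≠ 1 ∧ g • B = B)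
    (hfrob : ∀ g ∈ stabilizer G A, ∀ h ∈ stabilizer G A, g • B = B → g • (h • B) = h • B →
      h • B ≠ B → g = 1) : Nonempty (St G X) := by
  classical
  let adj : X → X → Prop := fun x y => ∃ g : G, g • A = x ∧ g • B = y
  have inv : ∀ (g : G) {x y}, adj x y → adj (g • x) (g • y) := by
    rintro g _ _ ⟨h, rfl, rfl⟩; exact ⟨g * h, mul_smul _ _ _, mul_smul _ _ _⟩
  have irr : ∀ x, ¬ adj x x := by
    rintro x ⟨g, h1, h2⟩; exact hBA (smul_left_cancel g (h2.trans h1.symm))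
  have tr0 : ∀ x y : X, ∃ g : G, g • x = y := hprim.toIsPretransitive.exists_smul_eq
  have tr1 : ∀ {x y x' y'}, adj x y → adj x' y' → ∃ g : G, g • x = x' ∧ g • y = y' := by
    rintro _ _ _ _ ⟨g, rfl, rfl⟩ ⟨h, rfl, rfl⟩; exact ⟨h * g⁻¹, by simp [mul_smul]⟩
  have AB : adj A B := ⟨1, by simp⟩
  obtain ⟨C0, c1, c2, c3⟩ : ∃ C0, A ≠ C0 ∧ ¬ adj A C0 ∧
      ∀ y, A ≠ y → ¬ adj A y → ∃ g : G, g • A = A ∧ g • C0 = y := by
    haveI := Fintype.ofFinite (orbitRel.Quotient ↥(stabilizer G A) X)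
    have eq : ∀ x y : X, (Quotient.mk'' x : orbitRel.Quotient ↥(stabilizer G A) X) =
        Quotient.mk'' y ↔ ∃ g : G, g • A = A ∧ g • y = x := fun x y => by
      rw [Quotient.eq'', orbitRel_apply, mem_orbit_iff]
      exact ⟨fun ⟨g, h⟩ => ⟨g, g.2, h⟩, fun ⟨g, h1, h2⟩ => ⟨⟨g, h1⟩, h2⟩⟩
    have hne : ∀ y, A ≠ y → (Quotient.mk'' y : orbitRel.Quotient ↥(stabilizer G A) X) ≠
        Quotient.mk'' A := fun y hy e => by
      obtain ⟨g, h1, h2⟩ := (eq _ _).mp e
      exact hy (h1.symm.trans h2)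
    obtain ⟨c, hc⟩ := Finset.card_eq_one.mp (show ((Finset.univ.erase (Quotient.mk'' A :
        orbitRel.Quotient ↥(stabilizer G A) X)).erase (Quotient.mk'' B)).card = 1 by
      rw [Finset.card_erase_of_mem (by simpa using hne B hBA.symm),
        Finset.card_erase_of_mem (by simp), Finset.card_univ, ← Nat.card_eq_fintype_card, h3])
    obtain ⟨C0, rfl⟩ := Quotient.mk''_surjective c
    have h1 := hc ▸ Finset.mem_singleton_self (Quotient.mk'' C0 :
      orbitRel.Quotient ↥(stabilizer G A) X)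
    simp only [Finset.mem_erase] at h1
    refine ⟨C0, fun e => h1.2.1 (e ▸ rfl), fun h => h1.1 ((eq _ _).mpr h), fun y h2 h3 => ?_⟩
    rw [← eq, ← Finset.mem_singleton, ← hc]
    simp only [Finset.mem_erase, Finset.mem_univ, and_true]
    exact ⟨fun e => h3 ((eq _ _).mp e), hne y h2⟩
  have tr2 : ∀ {x y x' y'}, x ≠ y → ¬ adj x y → x' ≠ y' → ¬ adj x' y' →
      ∃ g : G, g • x = x' ∧ g • y = y' := by
    have key : ∀ x y, x ≠ y → ¬ adj x y → ∃ g : G, g • A = x ∧ g • C0 = y := fun x y h1 h2 => by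
      obtain ⟨g, rfl⟩ := tr0 A x
      obtain ⟨h, e1, e2⟩ := c3 (g⁻¹ • y) (fun e => h1 (by rw [e]; simp))
        fun e => h2 (by simpa using inv g e)
      exact ⟨g * h, by rw [mul_smul, e1], by rw [mul_smul, e2]; simp⟩
    intro x y x' y' h1 h2 h3 h4
    obtain ⟨g, rfl, rfl⟩ := key x y h1 h2
    obtain ⟨h, rfl, rfl⟩ := key x' y' h3 h4
    exact ⟨h * g⁻¹, by simp [mul_smul]⟩
  have symm : ∀ {x y}, adj x y → adj y x := by
    obtain ⟨τ, hτ⟩ := exists_prime_orderOf_dvd_card' (G := G) 2 heven.two_dvd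
    have t2 : ∀ v : X, τ • τ • v = v := fun v => by
      rw [← mul_smul, ← sq, ← hτ, pow_orderOf_eq_one, one_smul]
    obtain ⟨v, hv⟩ : ∃ v : X, τ • v ≠ v := by
      by_contra hc
      push Not at hc
      have : τ = 1 := eq_of_smul_eq_smul (α := X) (by simpa using hc)
      rw [this] at hτ; simp at hτ
    intro x y h
    by_cases h1 : adj v (τ • v)
    · obtain ⟨g, rfl, rfl⟩ := tr1 h1 h
      have := inv τ h1
      rw [t2] at this
      exact inv g this
    · by_contra h2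
      obtain ⟨g, rfl, rfl⟩ := tr2 hv.symm h1 (show y ≠ x from fun e => irr x (e ▸ h)) h2
      have := inv τ (inv g⁻¹ h)
      simp only [inv_smul_smul, t2] at this
      exact h1 this
  have frob : ∀ {g : G} {v a b}, g • v = v → adj v a → adj v b → a ≠ b → g • a = a → g • b = b →
      g = 1 := by
    rintro g _ _ b h1 ⟨h, rfl, rfl⟩ ⟨h', e, rfl⟩ hne h2 h3
    have := hfrob (h⁻¹ * g * h) (by rw [mem_stabilizer_iff, mul_smul, mul_smul, h1]; simp)
      (h⁻¹ * h') (by rw [mem_stabilizer_iff, mul_smul, e]; simp)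
      (by rw [mul_smul, mul_smul, h2]; simp) (by simp [mul_smul, h3])
      (fun e => hne (by rw [mul_smul, inv_smul_eq_iff] at e; exact e.symm))
    simpa [mul_assoc, inv_mul_eq_one] using this
  obtain ⟨g0, g1, g2, g3⟩ := hfix
  have hK := fun v => exists_kernel adj inv v tr1 frob (by
      obtain ⟨g, rfl⟩ := tr0 A v
      by_contra hc
      push Not at hc
      refine g2 (hfaith g0 g1 fun h hh => ?_)
      rw [smul_left_cancel g (hc _ _ (inv g ⟨h, hh, rfl⟩) (inv g AB)), g3]) (by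
      obtain ⟨g, rfl⟩ := tr0 A v
      exact ⟨g * g0 * g⁻¹, by simpa [mul_inv_eq_one] using g2, (conj_fix _ _ _).mpr g1, _,
        inv g AB, (conj_fix _ _ _).mpr g3⟩)
  choose K k1 k2 k3 using hK
  obtain ⟨C, BC, AC, ACne⟩ : ∃ C, adj B C ∧ ¬ adj A C ∧ A ≠ C := by
    by_contra hc
    push Not at hc
    rcases equiv_trivial hprim (fun x y => x = y ∨ adj x y) ⟨fun _ => Or.inl rfl,
      fun h => h.imp Eq.symm symm, by
        rintro x y z (rfl | h1) (rfl | h2)
        · exact Or.inl rfl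
        · exact Or.inr h2
        · exact Or.inr h1
        · obtain ⟨g, rfl, rfl⟩ := tr1 AB h1
          by_contra h
          push Not at h
          exact h.1 (by
            rw [hc (g⁻¹ • z) (by simpa using inv g⁻¹ h2) fun e => h.2 (by simpa using inv g e)]
            simp)⟩ (fun g x y h => h.imp (congrArg _) (inv g)) A with h | h
    · exact hBA (h B (Or.inr AB))
    · exact (h C0).elim c1 c2
  refine ⟨⟨adj, symm, irr, inv, tr0, tr1, tr2, frob, K, k1, k2, k3 _, A, B, C, AB, BC, AC, ACne,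
    ?_, ⟨g0, g2, g1, g3⟩, heven⟩⟩
  by_contra hc
  push Not at hc
  rcases equiv_trivial hprim (fun x y => ¬ adj x y) ⟨irr, fun h h' => h (symm h'),
    fun {x y z} h1 h2 h3 => by
      obtain ⟨g, rfl, rfl⟩ := tr2 ACne AC (show y ≠ x by rintro rfl; exact h2 h3)
        fun h => h1 (symm h)
      exact hc (g⁻¹ • z) (fun e => h1 (by rw [e]; simpa using h3))
        (fun e => h2 (by simpa using inv g e)) (by simpa using inv g⁻¹ h3)⟩
    (fun g x y h h' => h (by simpa using inv g⁻¹ h')) A with h | h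
  · exact ACne (h C AC).symm
  · exact h B AB

end Cfsg.Agent.Part.Rk
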