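import Mathlib
import Cfsg.Agent.Part.Cm4
import Cfsg.Agent.S3861
import Cfsg.Agent.S3863
import Cfsg.Agent.Inv.Pairs
import Cfsg.Agent.FGS.Solv

set_option autoImplicit false
set_option linter.unusedSectionVars false

/-! Groups in which the number of Sylow 2-subgroups is prime to the class sizes of the real
elements of odd prime power order are solvable. -/

namespace Cfsg.Agent.Part

open Subgroup Core GW
open scoped Pointwise commutatorElement

universe u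

variable {G : Type*} [Group G] [Finite G]

local notation "𝐍" H:max => normalizer ((H : Subgroup G) : Set G)

theorem real_zp {x a : G} (h : IsConj x x⁻¹) (ha : a ∈ zpowers x) : IsConj a a⁻¹ := by
  obtain ⟨g, hg⟩ := isConj_iff.1 h
  obtain ⟨k, rfl⟩ := ha
  exact isConj_iff.2 ⟨g, by beta_reduce; rw [← conj_zpow, hg, inv_zpow]⟩

theorem exists_real_pe {x : G} (x1 : x ≠ 1) (ho : Odd (orderOf x)) :
    ∃ r : ℕ, r.Prime ∧ r ≠ 2 ∧ ∃ a ∈ zpowers x, PE r a ∧ a ≠ 1 := by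
  obtain ⟨r, hr, a, ha, a1, a2⟩ := exists_pe (K := ⊥) (mt mem_bot.1 x1)
  refine ⟨r, hr, ?_, a, ha, a1, mt mem_bot.2 a2⟩
  rintro rfl
  exact ho.not_two_dvd_nat (Nat.card_zpowers x ▸ a1.dvd (mt mem_bot.2 a2) ha)

theorem lift_real_pe {H : Type*} [Group H] [Finite H] {f : G →* H} (hf : Function.Surjective f)
    {r : ℕ} (hr : r.Prime) (r2 : r ≠ 2) {x : H} (hx : PE r x) (h : IsConj x x⁻¹) :
    ∃ y : G, PE r y ∧ IsConj y y⁻¹ ∧ f y = x * x := by
  have := Fact.mk hr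
  obtain ⟨v, hv⟩ := isConj_iff.1 h
  obtain ⟨w, rfl⟩ := hf v
  obtain ⟨R, hR⟩ := exists_isSylowOf r ((zpowers x).comap f)
  obtain ⟨k, hk, k1⟩ := hR.exists_mul_normalizer (g := w) (mem_normalizer_fintype fun y hy => by
    obtain ⟨i, hi⟩ := mem_comap.1 hy
    refine mem_comap.2 ⟨-i, ?_⟩
    beta_reduce at hi ⊢
    rw [map_mul, map_mul, map_inv, ← hi, ← conj_zpow, hv, inv_zpow'])
  have k2 : f (k⁻¹ * w) * x * (f (k⁻¹ * w))⁻¹ = x⁻¹ := by
    obtain ⟨i, hi⟩ := mem_comap.1 hk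
    beta_reduce at hi
    calc _ = (f k)⁻¹ * (f w * x * (f w)⁻¹) * f k := by rw [map_mul, map_inv]; group
      _ = _ := by rw [hv, ← hi]; group
  generalize k⁻¹ * w = n at k1 k2
  obtain ⟨u, b, hu, hb, e, hc, u1, b1⟩ := FGS.exists_pPart 2 n
  have sq : ∀ g : H, g * x * g⁻¹ = x⁻¹ → g * g ∈ cz x := fun g hg => mem_cz_of_conj (by
    calc _ = g * (g * x * g⁻¹) * g⁻¹ := by group
      _ = g * x⁻¹ * g⁻¹ := by rw [hg]
      _ = (g * x * g⁻¹)⁻¹ := by group
      _ = x := by rw [hg, inv_inv])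
  have b2 : f b ∈ cz x := by
    obtain ⟨j, hj⟩ : ∃ j : ℤ, n ^ j = b := hb
    refine mem_of_pow_mem_of_coprime (n := 2) ?_ (b1.symm.coprime_dvd_right (orderOf_map_dvd f b))
    rw [← hj, map_zpow, ← zpow_natCast, ← zpow_mul, mul_comm, zpow_mul, zpow_natCast, pow_two]
    exact zpow_mem (sq _ k2) j
  have u2 : f u * x * (f u)⁻¹ = x⁻¹ := by
    rw [← k2, e, map_mul, mul_assoc (f u) (f b), mem_cz.1 b2]; group
  have u3 : u ∈ 𝐍 R := Subgroup.zpowers_le.2 k1 hu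
  have hm : R.map f = zpowers x := by
    have := hR.map f
    rw [map_comap_eq_self_of_surjective hf] at this
    exact this.eq_of_le hx.pg le_rfl this.le
  obtain ⟨x1, x2, x3⟩ := hm.ge (mem_zpowers x)
  have hA : zpowers (u * u) ≤ 𝐍 R := Subgroup.zpowers_le.2 (mul_mem u3 u3)
  obtain ⟨m, m1, c, ⟨c1, c2⟩, rfl⟩ := exists_eq_mul_centralizer (zpowers (u * u)) R (R ⊓ f.ker)
    inf_le_left ((le_inf hA le_normalizer_of_normal).trans inf_normalizer_le_normalizer_inf)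
    (IsPGroup.coprime_card_of_ne 2 r r2.symm _ _ (PE.mul Nat.prime_two u1 u1 rfl).pg
      (hR.isPGroup.to_le inf_le_left)) (Or.inl inferInstance)
    (le_inf (commutator_le_of_le_normalizer hA) (commutator_le.2 fun a ha b hb => by
      rw [MonoidHom.mem_ker, map_commutatorElement, commutatorElement_eq_one_iff_mul_comm]
      have h1 : zpowers x ≤ cz (f b) := Subgroup.zpowers_le.2 (cz_symm
        (Subgroup.zpowers_le.2 (show u * u ∈ (cz x).comap f by
          rw [mem_comap, map_mul]; exact sq _ u2) hb))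
      exact mem_cz.1 (h1 (hm.le ⟨a, ha, rfl⟩)))) x1 x2
  rw [map_mul, m1.2, one_mul] at x3
  have c3 := c2 _ (mem_zpowers _)
  refine ⟨c * (u * c * u⁻¹)⁻¹, pe_of_mem hR.isPGroup
    (mul_mem c1 (inv_mem ((mem_normalizer_iff.1 u3 c).1 c1))), isConj_iff.2 ⟨u, ?_⟩, ?_⟩
  · calc _ = u * c * u⁻¹ * (u * u * c * (u * u)⁻¹)⁻¹ := by group
      _ = _ := by rw [c3]; group
  · rw [map_mul, map_inv, map_mul, map_mul, map_inv, x3, u2, inv_inv]

theorem card_sylow_normal_dvd (p : ℕ) [Fact p.Prime] (N : Subgroup G) [N.Normal] :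
    Nat.card (Sylow p N) ∣ Nat.card (Sylow p G) := by
  obtain ⟨S⟩ := (inferInstance : Nonempty (Sylow p G))
  have h := isSylowOf_sylow_inf_normal S N
  rw [h.toSylow.card_eq_index_normalizer, S.card_eq_index_normalizer]
  refine Dvd.dvd.trans ?_ ((FGS.relIndex_dvd_index_of_normal_right N (𝐍 ((S : Subgroup G) ⊓ N))).trans
    (index_dvd_of_le ((le_inf le_rfl le_normalizer_of_normal).trans
      inf_normalizer_le_normalizer_inf)))
  refine index_dvd_of_le ?_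
  rw [← Sylow.coe_coe, h.coe_toSylow, subgroupOf_normalizer_eq h.le]

theorem card_sylow_map_dvd (p : ℕ) [Fact p.Prime] {H : Type*} [Group H] [Finite H] {f : G →* H}
    (hf : Function.Surjective f) : Nat.card (Sylow p H) ∣ Nat.card (Sylow p G) := by
  obtain ⟨S⟩ := (inferInstance : Nonempty (Sylow p G))
  rw [(S.mapSurjective hf).card_eq_index_normalizer, S.card_eq_index_normalizer]
  exact (index_dvd_of_le (le_normalizer_map f)).trans (index_map_dvd _ hf)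

theorem norm_closure_inter {X : Set G} (hX : ∀ x ∈ X, ∀ g : G, g * x * g⁻¹ ∈ X) (U : Subgroup G) :
    𝐍 U ≤ 𝐍 (closure (X ∩ U)) := fun g hg => mem_normalizer_fintype fun _ hy =>
  (closure_le ((closure (X ∩ U)).comap (MulAut.conj g).toMonoidHom)).2 (fun x hx =>
    subset_closure ⟨hX x hx.1 g, (mem_normalizer_iff.1 hg x).1 hx.2⟩) hy

/-- Weak closure: a subgroup `P` of a `p`-group `T` generated by elements of a normal set `X`. -/
theorem exists_mem_normalizer_of_lt {T P : Subgroup G} (hT : Group.IsNilpotent T) {X : Set G}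
    (hX : ∀ x ∈ X, ∀ g : G, g * x * g⁻¹ ∈ X) (hP : P ≤ closure (X ∩ P)) (hPT : P ≤ T)
    (h : ∀ x ∈ X, x ∈ T ⊓ 𝐍 P → x ∈ P) : closure (X ∩ T) = P := by
  have h1 : closure (X ∩ ↑(T ⊓ 𝐍 P)) = P := le_antisymm ((closure_le _).2 fun x hx => h x hx.1 hx.2)
    (hP.trans (closure_mono fun x hx => ⟨hx.1, hPT hx.2, le_normalizer hx.2⟩))
  have h2 : T ⊓ 𝐍 P = T := by
    by_contra e
    refine (lt_inf_normalizer_of_nilpotent hT (lt_of_le_of_ne inf_le_left e)).not_ge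
      (le_inf inf_le_left fun g hg => ?_)
    have := norm_closure_inter hX _ hg.2
    rwa [h1] at this
  rw [← h2, h1]

/-- If every element of a normal set lies in a `y`-invariant `p`-subgroup, `y` normalises the weak
closure of the set in some Sylow `p`-subgroup. -/
theorem exists_norm_weak {p : ℕ} [Fact p.Prime] {X : Set G}
    (hX : ∀ x ∈ X, ∀ g : G, g * x * g⁻¹ ∈ X) {y : G}
    (h : ∀ x ∈ X, ∃ V : Subgroup G, IsPGroup p V ∧ y ∈ 𝐍 V ∧ x ∈ V) :
    ∃ T : Sylow p G, y ∈ 𝐍 (closure (X ∩ (T : Subgroup G))) := by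
  obtain ⟨P, ⟨h1, h2, h3⟩, hm⟩ := Set.Finite.exists_maximal (Set.toFinite
    {P : Subgroup G | IsPGroup p P ∧ y ∈ 𝐍 P ∧ P ≤ closure (X ∩ P)})
    ⟨⊥, IsPGroup.of_bot, le_normalizer_of_normal (mem_top y), bot_le⟩
  obtain ⟨T, hT⟩ := h1.exists_le_sylow
  refine ⟨T, exists_mem_normalizer_of_lt T.2.isNilpotent hX h3 hT (fun x hx x1 => ?_) ▸ h2⟩
  obtain ⟨V, v1, v2, v3⟩ := h x hx
  have h4 : IsPGroup p (P ⊔ V ⊓ 𝐍 P : Subgroup G) :=
    h1.to_sup_of_normal_left' (v1.to_le inf_le_left) inf_le_right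
  have h5 : y ∈ 𝐍 (P ⊔ V ⊓ 𝐍 P) := normalizer_inf_normalizer_le_normalizer_sup _ _
    ⟨h2, inf_normalizer_le_normalizer_inf ⟨v2, le_normalizer h2⟩⟩
  have h6 : P ≤ closure (X ∩ ↑(P ⊔ V ⊓ 𝐍 P)) :=
    h3.trans (closure_mono fun a ha => ⟨ha.1, mem_sup_left ha.2⟩)
  exact hm ⟨h4.to_le ((closure_le _).2 Set.inter_subset_right), norm_closure_inter hX _ h5,
    closure_mono fun a ha => ⟨ha.1, subset_closure ha⟩⟩ h6
    (subset_closure ⟨hx, mem_sup_right ⟨v3, x1.2⟩⟩)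

/-- The number of Sylow 2-subgroups is prime to the class sizes of real `r`-elements, `r` odd. -/
def RK (G : Type*) [Group G] : Prop := ∀ r : ℕ, r.Prime → r ≠ 2 → ∀ y : G, PE r y → IsConj y y⁻¹ →
  (Nat.card (Sylow 2 G)).Coprime (cz y).index

namespace RK

variable [IsSimpleGroup G] (h : RK G) {r : ℕ} (hr : r.Prime) (r2 : r ≠ 2) {y : G} (hy : PE r y)
  (y1 : IsConj y y⁻¹) (y2 : y ≠ 1)
include h hr r2 hy y1

theorem fac (S : Sylow 2 G) (g : G) : ∃ a ∈ cz y, ∃ n ∈ 𝐍 S, g = a * n :=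
  exists_mul_of_coprime_index (S.card_eq_index_normalizer ▸ h r hr r2 y hy y1).symm g

include y2

theorem eq_top (S : Sylow 2 G) {H : Subgroup G} (h1 : 𝐍 S ≤ H) (h2 : y ∈ H) : H = ⊤ := by
  have h3 : normalClosure {y} = ⊤ := (IsSimpleGroup.eq_bot_or_eq_top_of_normal _
    inferInstance).resolve_left fun e => y2 (mem_bot.1 (e ▸ subset_normalClosure rfl))
  rw [eq_top_iff, ← h3, normalClosure, closure_le]
  intro v hv
  obtain ⟨a, rfl, hv'⟩ := Group.mem_conjugatesOfSet_iff.1 hv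
  obtain ⟨g, rfl⟩ := isConj_iff.1 hv'
  obtain ⟨b, hb, n, hn, e⟩ := h.fac hr r2 hy y1 S g⁻¹
  rw [← inv_inv g, e, inv_inv, mul_inv_rev, mul_assoc, mul_assoc, ← mul_assoc a, ← mem_cz.1 hb,
    mul_assoc, inv_mul_cancel_left]
  exact mul_mem (inv_mem (h1 hn)) (mul_mem h2 (h1 hn))

theorem conj (S : Sylow 2 G) {z : G} (hz : z ∈ (S : Subgroup G) ⊓ centralizer (S : Set G))
    (g : G) : ∃ a ∈ cz y, ∃ w ∈ (S : Subgroup G) ⊓ centralizer (S : Set G),
      IsConj z w ∧ g * z * g⁻¹ = a * w * a⁻¹ := by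
  obtain ⟨a, ha, n, hn, rfl⟩ := h.fac hr r2 hy y1 S g
  exact ⟨a, ha, n * z * n⁻¹, (mem_normalizer_iff.1 (inf_normalizer_le_normalizer_inf
    ⟨hn, normalizer_le_normalizer_centralizer _ hn⟩) z).1 hz, isConj_iff.2 ⟨n, rfl⟩, by group⟩

theorem caseA (S : Sylow 2 G) (hS : ¬ (S : Subgroup G).Normal) {z : G}
    (hz : z ∈ (S : Subgroup G) ⊓ centralizer (S : Set G)) (z1 : z ≠ 1) {D : Subgroup G}
    (hD : IsPGroup 2 D) (h1 : y ∈ 𝐍 D)
    (h2 : ∀ w ∈ (S : Subgroup G) ⊓ centralizer (S : Set G), IsConj z w → w ∈ D) : False := by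
  have hX : ∀ x ∈ {x | IsConj z x}, ∀ g : G, g * x * g⁻¹ ∈ {x | IsConj z x} :=
    fun x hx g => IsConj.trans hx (isConj_iff.2 ⟨g, rfl⟩)
  obtain ⟨T, hT⟩ := exists_norm_weak (p := 2) (y := y) hX fun x hx => by
    obtain ⟨g, rfl⟩ := isConj_iff.1 hx
    obtain ⟨a, ha, w, w1, w2, e⟩ := h.conj hr r2 hy y1 y2 S hz g
    refine ⟨MulAut.conj a • D, hD.map _, ?_, e ▸ mem_conj_smul_iff.2 (by simpa [mul_assoc] using h2 w w1 w2)⟩
    rw [← conj_smul_eq_iff_mem_normalizer, ← mul_smul, ← map_mul, ← mem_cz.1 ha, map_mul, mul_smul,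
      conj_smul_eq_iff_mem_normalizer.2 h1]
  have h3 := normalizer_eq_top_iff.1 (h.eq_top hr r2 hy y1 y2 T (norm_closure_inter hX _) hT)
  obtain ⟨g, rfl⟩ := MulAction.exists_smul_eq G S T
  have h4 := (IsSimpleGroup.eq_bot_or_eq_top_of_normal _ h3).resolve_left fun e => z1 (by
    have : g * z * g⁻¹ ∈ closure ({x | IsConj z x} ∩ ((g • S : Sylow 2 G) : Subgroup G)) :=
      subset_closure ⟨isConj_iff.2 ⟨g, rfl⟩, Inv.mem_sylow_smul.2 (by simpa [mul_assoc] using hz.1)⟩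
    rwa [e, mem_bot, conj_eq_one_iff] at this)
  have h5 : ((g • S : Sylow 2 G) : Subgroup G) = ⊤ :=
    eq_top_iff.2 (h4 ▸ (closure_le _).2 Set.inter_subset_right)
  exact hS (S.is_maximal' (g • S).2 (h5 ▸ le_top) ▸ h5 ▸ inferInstance)

theorem caseB (S : Sylow 2 G) (hS : ¬ (S : Subgroup G).Normal) {z : G}
    (hz : z ∈ (S : Subgroup G) ⊓ centralizer (S : Set G)) (z1 : z ≠ 1)
    (h2 : ∀ w ∈ (S : Subgroup G) ⊓ centralizer (S : Set G), IsConj z w → w ∈ 𝐍 (zpowers y)) :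
    False := by
  have h3 : normalClosure {z} = ⊤ := (IsSimpleGroup.eq_bot_or_eq_top_of_normal _
    inferInstance).resolve_left fun e => z1 (mem_bot.1 (e ▸ subset_normalClosure rfl))
  have h4 : (zpowers y).Normal := by
    rw [← normalizer_eq_top_iff, eq_top_iff, ← h3, normalClosure, closure_le]
    intro v hv
    obtain ⟨a, rfl, hv'⟩ := Group.mem_conjugatesOfSet_iff.1 hv
    obtain ⟨g, rfl⟩ := isConj_iff.1 hv'
    obtain ⟨b, hb, w, w1, w2, e⟩ := h.conj hr r2 hy y1 y2 S hz g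
    have hb' := centralizer_le_normalizer _ (cz_eq_zpowers y ▸ hb)
    exact e ▸ mul_mem (mul_mem hb' (h2 w w1 w2)) (inv_mem hb')
  have h5 := (IsSimpleGroup.eq_bot_or_eq_top_of_normal _ h4).resolve_left (mt zpowers_eq_bot.1 y2)
  refine hS ⟨fun s hs g => ?_⟩
  have e : g * s = s * g := comm_of_isMulCommutative (inferInstance : IsMulCommutative (zpowers y))
    (h5.ge (mem_top g)) (h5.ge (mem_top s))
  rwa [e, mul_inv_cancel_right]

end RK

/-- Two involutions centralising a maximal Sylow intersection. -/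
theorem max_inter {S T : Sylow 2 G} (hm : ∀ U V : Sylow 2 G,
      (S : Subgroup G) ⊓ T < (U : Subgroup G) ⊓ V → U = V) (hne : S ≠ T) {z t : G}
    (hz : z ∈ (S : Subgroup G) ⊓ centralizer (S : Set G)) (z1 : z * z = 1) (z2 : z ∉ T)
    (ht : t ∈ (T : Subgroup G) ⊓ centralizer (T : Set G)) (t1 : t * t = 1) (t2 : t ∉ S) :
    ∃ y ∈ centralizer (((S : Subgroup G) ⊓ T : Subgroup G) : Set G), y ≠ 1 ∧ Odd (orderOf y) ∧
      z * y * z⁻¹ = y⁻¹ ∧ t * y * t⁻¹ = y⁻¹ ∧ ∃ d ∈ zpowers y, ∃ w ∈ (S : Subgroup G) ⊓ T,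
        d * z * d⁻¹ = t * w := by
  set D := (S : Subgroup G) ⊓ T
  have z3 : z ∈ centralizer (D : Set G) := centralizer_le inf_le_left hz.2
  have t3 : t ∈ centralizer (D : Set G) := centralizer_le inf_le_right ht.2
  obtain ⟨w, y, hw, hy, e, hc, w1, y1⟩ := FGS.exists_pPart 2 (z * t)
  have c1 := Subgroup.zpowers_le.2 (mul_mem z3 t3)
  have i1 := Inv.inverts_mul_left z1 t1
  have i2 := Inv.inverts_mul_right z1 t1
  have k : ∀ (U : Sylow 2 G) (u : G), D ≤ U → u ∈ U → u ∉ D → u * u = 1 →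
      u ∈ centralizer (D : Set G) → u * w * u⁻¹ = w⁻¹ → w ∈ U := fun U u h1 h2 h3 h4 h5 h6 => by
    have h7 : IsPGroup 2 (D ⊔ zpowers w : Subgroup G) := (S.2.to_le inf_le_left).to_sup_of_normal_left'
      (PE.pg w1) (Subgroup.zpowers_le.2 (centralizer_le_normalizer _ (c1 hw)))
    obtain ⟨V, hV⟩ := (h7.to_sup_of_normal_left' (Inv.isPGroup_zpowers_of_mul_self h4)
      (Subgroup.zpowers_le.2 (normalizer_inf_normalizer_le_normalizer_sup _ _
        ⟨centralizer_le_normalizer _ h5, mem_normalizer_fintype fun a ha =>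
          Inv.inverts_of_mem_zpowers h6 ha ▸ inv_mem ha⟩))).exists_le_sylow
    rw [hm U V (lt_of_le_of_ne (le_inf h1 ((le_sup_left.trans le_sup_left).trans hV)) fun e' =>
      h3 (e' ▸ ⟨h2, hV (mem_sup_right (mem_zpowers u))⟩))]
    exact hV (mem_sup_left (mem_sup_right (mem_zpowers w)))
  have w2 : w ∈ D := ⟨k S z inf_le_left hz.1 (fun e' => z2 e'.2) z1 z3
    (Inv.inverts_of_mem_zpowers i1 hw), k T t inf_le_right ht.1 (fun e' => t2 e'.1) t1 t3
    (Inv.inverts_of_mem_zpowers i2 hw)⟩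
  have e1 : z * (t * w⁻¹) = y := by rw [← mul_assoc, e, hc.eq, mul_inv_cancel_right]
  have e2 : t * w⁻¹ * (t * w⁻¹) = 1 := by
    calc _ = (t * w * t⁻¹)⁻¹ * (t * t) * w⁻¹ := by group
      _ = 1 := by rw [Inv.inverts_of_mem_zpowers i2 hw, t1]; group
  have y2 := Nat.coprime_two_right.1 y1
  obtain ⟨d, hd, d1⟩ := Inv.exists_conj_of_odd z1 e2 (e1 ▸ y2)
  refine ⟨y, c1 hy, ?_, y2, Inv.inverts_of_mem_zpowers i1 hy, Inv.inverts_of_mem_zpowers i2 hy,
    d, e1 ▸ hd, w⁻¹, inv_mem w2, d1⟩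
  rintro rfl
  exact t2 (((S : Subgroup G).mul_mem_cancel_left hz.1).1 (by rw [e, mul_one]; exact w2.1))

theorem RK.simple [IsSimpleGroup G] (h : RK G) : Group.IsSolvable G := by
  obtain ⟨S₀⟩ := (inferInstance : Nonempty (Sylow 2 G))
  by_cases h0 : (S₀ : Subgroup G).Normal
  · rcases IsSimpleGroup.eq_bot_or_eq_top_of_normal _ h0 with e | e
    · exact S0205.result (Nat.not_even_iff_odd.1 fun e' => S₀.not_dvd_index
        (by rw [e, index_bot]; exact e'.two_dvd))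
    · have := (IsPGroup.of_equiv (e ▸ S₀.2) topEquiv).isNilpotent
      infer_instance
  exfalso
  have nn : ∀ S : Sylow 2 G, ¬ (S : Subgroup G).Normal := fun S e =>
    have := Sylow.unique_of_normal S e
    h0 (Subsingleton.elim S S₀ ▸ e)
  obtain ⟨⟨S, T⟩, hne, hm⟩ := Set.Finite.exists_maximalFor
    (fun q : Sylow 2 G × Sylow 2 G => (q.1 : Subgroup G) ⊓ q.2) _
    (Set.toFinite {q | q.1 ≠ q.2}) (by
      by_contra e
      have : Subsingleton (Sylow 2 G) := ⟨fun a b => by_contra fun e' => e ⟨(a, b), e'⟩⟩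
      exact h0 S₀.normal_of_subsingleton)
  replace hm : ∀ U V : Sylow 2 G, (S : Subgroup G) ⊓ T < (U : Subgroup G) ⊓ V → U = V :=
    fun U V e => by_contra fun e' => e.not_ge (hm (j := (U, V)) e' e.le)
  change S ≠ T at hne
  have ex : ∀ U : Sylow 2 G, ∃ z ∈ (U : Subgroup G) ⊓ centralizer (U : Set G), orderOf z = 2 :=
    fun U => by
      obtain ⟨z, hz, z1⟩ := FGS.exists_prime_orderOf_mem Nat.prime_two ((IsPGroup.card_eq_or_dvd
        (U.2.to_le (inf_le_left : _ ⊓ centralizer (U : Set G) ≤ _))).resolve_left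
        (mt card_eq_one.1 (inf_centralizer_ne_bot_of_isPGroup U.2 U.2 le_normalizer
          fun e => nn U (e ▸ inferInstance))))
      exact ⟨z, hz, z1⟩
  have sq : ∀ {z w : G}, orderOf z = 2 → IsConj z w → w * w = 1 := fun {z w} e e' => by
    obtain ⟨g, rfl⟩ := isConj_iff.1 e'
    rw [conj_mul, Inv.mul_self_of_two e]; group
  set D := (S : Subgroup G) ⊓ T with hD
  have hA : ∀ U : Sylow 2 G, ∃ z ∈ (U : Subgroup G) ⊓ centralizer (U : Set G), z * z = 1 ∧ z ∉ D :=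
    fun U => by
    by_contra! e
    obtain ⟨z, hz, z1⟩ := ex U
    obtain ⟨P⟩ := (inferInstance : Nonempty (Sylow 2 (𝐍 D)))
    obtain ⟨x, x1, x2, x3⟩ : ∃ x : 𝐍 D, x ≠ 1 ∧ Odd (orderOf x) ∧ IsConj x x⁻¹ := by
      by_contra! e'
      have := (S3861.result P).1 e'
      obtain ⟨V, hV⟩ := (P.2.map (𝐍 D).subtype).exists_le_sylow
      have k : ∀ W : Sylow 2 G, D < W → W = V := fun W hW => hm W V
        ((lt_inf_normalizer_of_nilpotent W.2.isNilpotent hW).trans_le (le_inf inf_le_left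
          fun a ha => hV ⟨⟨a, ha.2⟩, (isSylowOf_top P).le_of_le_normalizer'
            (W.2.comap_subtype (K := 𝐍 D)) le_top le_normalizer_of_normal ha.1, rfl⟩))
      exact hne ((k S (inf_lt_left.2 fun e1 => hne (Sylow.ext (S.is_maximal' T.2 e1).symm))).trans
        (k T (inf_lt_right.2 fun e1 => hne (Sylow.ext (T.is_maximal' S.2 e1)))).symm)
    obtain ⟨r, hr, r2, y, hy, y1, y2⟩ := exists_real_pe x1 x2
    exact h.caseA hr r2 (PE.coe.2 y1) ((𝐍 D).subtype.map_isConj (real_zp x3 hy))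
      (fun e' => y2 (Subtype.ext e')) U (nn U) hz (FGS.ne_one_of_orderOf_prime Nat.prime_two z1)
      (S.2.to_le inf_le_left) y.2 fun w hw e' => e w hw (sq z1 e')
  obtain ⟨z, hz, z1, z2⟩ := hA S
  obtain ⟨t, ht, t1, t2⟩ := hA T
  obtain ⟨y, c1, y1, y2, i1, i2, d, hd, w, hw, e1⟩ := max_inter hm hne hz z1 (fun e => z2 ⟨hz.1, e⟩)
    ht t1 fun e => t2 ⟨e, ht.1⟩
  by_cases hB : ∀ v ∈ (S : Subgroup G) ⊓ centralizer (S : Set G), v * v = 1 → v ∉ D → v * z⁻¹ ∈ D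
  · obtain ⟨r, hr, r2, a, ha, a1, a2⟩ := exists_real_pe y1 y2
    obtain ⟨z₀, hz₀, z₁⟩ := ex S
    have c2 : D ≤ 𝐍 (zpowers a) := fun v hv => centralizer_le_normalizer _ (cz_eq_zpowers a ▸
      mem_cz.2 (Subgroup.zpowers_le.2 c1 ha v hv))
    refine h.caseB hr r2 a1 (real_zp (isConj_iff.2 ⟨z, i1⟩) ha) a2 S (nn S) hz₀
      (FGS.ne_one_of_orderOf_prime Nat.prime_two z₁) fun v hv e => by_cases (c2 ·) fun e' => ?_
    rw [← inv_mul_cancel_right v z]
    exact mul_mem (c2 (hB v hv (sq z₁ e) e')) (mem_normalizer_fintype fun b hb =>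
      Inv.inverts_of_mem_zpowers i1 (Subgroup.zpowers_le.2 ha hb) ▸ inv_mem hb)
  push Not at hB
  obtain ⟨v, hv, v1, v2, v3⟩ := hB
  obtain ⟨y', c2, -, -, -, i3, d', hd', w', hw', e2⟩ := max_inter hm hne hv v1
    (fun e => v2 ⟨hv.1, e⟩) ht t1 fun e => t2 ⟨e, ht.1⟩
  have c3 := Subgroup.zpowers_le.2 c1 hd
  have c4 := Subgroup.zpowers_le.2 c2 hd'
  have e3 : d'⁻¹ * d * z * (d'⁻¹ * d)⁻¹ = v * (w'⁻¹ * w) := by
    calc _ = d'⁻¹ * (d * z * d⁻¹) * d' := by group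
      _ = d'⁻¹ * (t * w') * ((w'⁻¹ * w) * d') := by rw [e1]; group
      _ = _ := by rw [← e2, c4 _ (mul_mem (inv_mem hw') hw)]; group
  have g1 : IsConj (d'⁻¹ * d) (d'⁻¹ * d)⁻¹ := isConj_iff.2 ⟨d⁻¹ * t, by
    calc _ = d⁻¹ * (t * d' * t⁻¹)⁻¹ * (t * d * t⁻¹) * d := by group
      _ = _ := by rw [Inv.inverts_of_mem_zpowers i2 hd, Inv.inverts_of_mem_zpowers i3 hd']; group⟩
  have g2 := mul_mem (inv_mem c4) c3
  generalize d'⁻¹ * d = g at e3 g1 g2
  have w2 : w'⁻¹ * w ∈ D := mul_mem (inv_mem hw') hw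
  have g3 : g ∈ 𝐍 S := Sylow.smul_eq_iff_mem_normalizer.1 (hm S (g • S) (lt_of_le_of_ne
    (le_inf inf_le_left fun b hb => Inv.mem_sylow_smul.2 (by
      rw [mul_assoc, g2 b hb, inv_mul_cancel_left]; exact hb.1)) fun e => v2 ?_)).symm
  · obtain ⟨s, hs, a, ha, a1, a2⟩ := exists_pe (x := g) (K := S) fun e => v3 (by
      rw [hz.2 g e, mul_inv_cancel_right] at e3
      rw [e3]; simpa [mul_assoc] using (mem_normalizer_iff.1 (centralizer_le_normalizer _
        (centralizer_le inf_le_left hv.2)) _).1 (inv_mem w2))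
    have a3 := Subgroup.zpowers_le.2 g3 ha
    refine nn S (normalizer_eq_top_iff.1 (h.eq_top hs ?_ a1 (real_zp g1 ha)
      (fun e => a2 (e ▸ one_mem _)) S le_rfl a3))
    rintro rfl
    exact a2 ((isSylowOf_top S).le_of_le_normalizer' a1.pg le_top (Subgroup.zpowers_le.2 a3)
      (mem_zpowers a))
  · refine (D.mul_mem_cancel_right w2).1 (e ▸ ⟨mul_mem hv.1 w2.1, Inv.mem_sylow_smul.2 ?_⟩)
    rw [← e3]; simpa [mul_assoc] using hz.1

theorem RK.solvable {G : Type u} [Group G] [Finite G] (h : RK G) : Group.IsSolvable G := by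
  refine FGS.solvable_of_simple (P := fun G _ => RK G) (fun G _ _ N _ h r hr r2 y hy y1 => ?_)
    (fun G _ _ N _ h r hr r2 x hx x1 => ?_) (fun G _ _ _ h => h.simple) G h
  · exact ((h r hr r2 y (PE.coe.2 hy) (N.subtype.map_isConj y1)).coprime_dvd_left
      (card_sylow_normal_dvd 2 N)).coprime_dvd_right (FGS.index_centralizer_normal_dvd N y)
  · have hs := QuotientGroup.mk'_surjective N
    obtain ⟨y, y1, y2, y3⟩ := lift_real_pe hs hr r2 hx x1
    refine ((h r hr r2 y y1 y2).coprime_dvd_left (card_sylow_map_dvd 2 hs)).coprime_dvd_right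
      (Dvd.dvd.trans (index_dvd_of_le (cz_le_zp ?_)) (FGS.index_centralizer_map_dvd hs y))
    rw [y3, ← pow_two]
    exact mem_zpowers_pow_iff.2 (hx.cop hr Nat.prime_two r2).symm

end Cfsg.Agent.Part
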