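import Mathlib
import Cfsg.Agent.Part.Rl1

set_option autoImplicit false
set_option linter.unusedSectionVars false

/-! Groups whose prime graph on real class sizes is disconnected. -/

namespace Cfsg.Agent.Part

open Subgroup Core GW
open scoped Pointwise commutatorElement

variable {G : Type*} [Group G] [Finite G]

local notation "𝐙" => center G
local notation "𝐍" H:max => normalizer ((H : Subgroup G) : Set G)

theorem two_dvd_of_real {x : G} (h : IsConj x x⁻¹) (x1 : x ≠ 1) (ho : Odd (orderOf x)) :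
    2 ∣ (cz x).index := by
  by_contra e
  exact x1 (orderOf_eq_one_iff.1 (Nat.eq_one_of_dvd_coprimes (Nat.coprime_two_left.2 ho)
    (orderOf_dvd_of_pow_eq_one ((S3863.result x h).2.1 (Nat.not_even_iff_odd.1 fun e' =>
      e e'.two_dvd))) dvd_rfl))

theorem real_of_sq {t : G} (h : t * t = 1) : IsConj t t⁻¹ := by
  rw [inv_eq_of_mul_eq_one_right h]

theorem solv_of_normal_two (S : Sylow 2 G) (h : (S : Subgroup G).Normal) : Group.IsSolvable G := by
  have := S0205.result (G := G ⧸ (S : Subgroup G))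
    (Nat.not_even_iff_odd.1 fun e => S.not_dvd_index e.two_dvd)
  have := S.2.isNilpotent
  exact solvable_of_ker_le_range (S : Subgroup G).subtype (QuotientGroup.mk' S) (by simp)

theorem sylow_le_pPrimeCore [Group.IsSolvable G] {p q : ℕ} [Fact p.Prime] [Fact q.Prime]
    (e : p ≠ q) (S : Sylow q G) (h : ¬ p ∣ (𝐍 S).index) : (S : Subgroup G) ≤ pPrimeCore p G := by
  let π := QuotientGroup.mk' (pPrimeCore p G)
  have hπ : Function.Surjective π := QuotientGroup.mk'_surjective _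
  have h1 : pCore p (G ⧸ pPrimeCore p G) ≤ normalizer (((S : Subgroup G).map π : Subgroup _) : Set _) :=
    (pCore_le_of_not_dvd_index fun e' => h (e'.trans (index_map_dvd _ hπ))).trans (le_normalizer_map π)
  have h2 := inf_eq_bot_of_coprime (IsPGroup.coprime_card_of_ne p q e _ _
    (pCore_isPGroup (G := G ⧸ pPrimeCore p G) p) (S.2.map π))
  have h3 : (S : Subgroup G).map π ≤ pCore p (G ⧸ pPrimeCore p G) :=
    (le_centralizer_iff_commutator_eq_bot.2 (eq_bot_iff.2 (h2 ▸ le_inf (commutator_le_left _ _)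
      ((commutator_comm_le _ _).trans (commutator_le_of_le_normalizer h1))))).trans
      (centralizer_pCore_le p (pPrimeCore_quotient_pPrimeCore p))
  rw [inf_eq_right.2 h3, Subgroup.map_eq_bot_iff, QuotientGroup.ker_mk'] at h2
  exact h2

/-- The prime graph on the real class sizes is disconnected, with parts `A` and `B`. -/
structure RD (G : Type*) [Group G] (A B : Set ℕ) : Prop where
  n1 : A.Nonempty
  n2 : B.Nonempty
  disj : Disjoint A B
  sub : ∀ q ∈ A ∪ B, q.Prime ∧ ∃ n ∈ {n : ℕ | ∃ x : G, IsConj x x⁻¹ ∧ (cz x).index = n}, q ∣ n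
  cover : ∀ q : ℕ, q.Prime → (∃ n ∈ {n : ℕ | ∃ x : G, IsConj x x⁻¹ ∧ (cz x).index = n}, q ∣ n) →
    q ∈ A ∨ q ∈ B
  noedge : ∀ a ∈ A, ∀ b ∈ B, ∀ n ∈ {n : ℕ | ∃ x : G, IsConj x x⁻¹ ∧ (cz x).index = n},
    ¬ (a ∣ n ∧ b ∣ n)

namespace RD

variable {A B : Set ℕ} (h : RD G A B) {x y t : G} {p q : ℕ}
include h

theorem symm : RD G B A := ⟨h.n2, h.n1, h.disj.symm, fun q hq => h.sub q hq.symm,
  fun q hq e => (h.cover q hq e).symm, fun a ha b hb n hn e => h.noedge b hb a ha n hn e.symm⟩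

theorem mem (hx : IsConj x x⁻¹) (hq : q ∈ B) (e : q ∣ (cz x).index) (hp : p.Prime)
    (e' : p ∣ (cz x).index) : p ∈ B :=
  (h.cover p hp ⟨_, ⟨x, hx, rfl⟩, e'⟩).resolve_left fun e1 => h.noedge p e1 q hq _ ⟨x, hx, rfl⟩ ⟨e', e⟩

theorem cop (hx : IsConj x x⁻¹) (hy : IsConj y y⁻¹) (hp : p ∈ A) (hq : q ∈ B)
    (e : p ∣ (cz x).index) (e' : q ∣ (cz y).index) : (cz x).index.Coprime (cz y).index :=
  Nat.coprime_of_dvd fun s hs e1 e2 =>
    Set.disjoint_left.1 h.disj (h.symm.mem hx hp e hs e1) (h.mem hy hq e' hs e2)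

theorem two_mem (h2 : 2 ∉ B) (hx : IsConj x x⁻¹) (e : 2 ∣ (cz x).index) : 2 ∈ A :=
  (h.cover 2 Nat.prime_two ⟨_, ⟨x, hx, rfl⟩, e⟩).resolve_right h2

theorem exists_inv (h2 : 2 ∉ B) : ∃ (q : ℕ) (t : G) (S : Sylow 2 G), q ∈ B ∧ q ∣ (cz t).index ∧
    t * t = 1 ∧ (S : Subgroup G) ≤ cz t ∧ cz t ≤ 𝐍 S := by
  obtain ⟨q, hq⟩ := h.n2
  obtain ⟨-, _, ⟨t, ht, rfl⟩, e⟩ := h.sub q (Or.inr hq)
  have t1 : ¬ 2 ∣ (cz t).index := fun e' => h2 (h.mem ht hq e Nat.prime_two e')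
  have t2 : t * t = 1 := pow_two t ▸ (S3863.result t ht).2.1
    (Nat.not_even_iff_odd.1 fun e' => t1 e'.two_dvd)
  obtain ⟨S, hS⟩ := FGS.exists_sylow_le_of_not_dvd_index t1
  refine ⟨q, t, S, hq, e, t2, hS, ?_⟩
  have h1 := (S3861.result (isSylowOf_sylow_of_le S hS).toSylow).1 fun x x1 x2 x3 => by
    obtain ⟨c, hc⟩ := isConj_iff.1 x3
    have x4 : Odd (orderOf (x : G)) := orderOf_coe x ▸ x2
    have e1 := cz_mul x.2 ((Nat.coprime_two_left.2 x4).coprime_dvd_left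
      (orderOf_dvd_of_pow_eq_one (pow_two t ▸ t2)))
    have e2 : IsConj (t * x) (t * x)⁻¹ := isConj_iff.2 ⟨c, by
      rw [← mul_assoc, mem_cz.1 c.2, mul_assoc, mul_assoc, ← mul_assoc (c : G),
        show (c : G) * x * (c : G)⁻¹ = (x : G)⁻¹ from congrArg Subtype.val hc, mul_inv_rev,
        inv_eq_of_mul_eq_one_right t2, mem_cz.1 (inv_mem x.2)]⟩
    exact h2 (h.mem e2 hq (e.trans (index_dvd_of_le (e1 ▸ inf_le_left))) Nat.prime_two
      ((two_dvd_of_real ((cz t).subtype.map_isConj x3) (fun e' => x1 (Subtype.ext e')) x4).trans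
        (index_dvd_of_le (e1 ▸ inf_le_right))))
  rw [IsSylowOf.coe_toSylow] at h1
  exact le_normalizer_of_normal_subgroupOf hS

theorem solv' (h2 : 2 ∉ B) : Group.IsSolvable G := by
  obtain ⟨q, t, S, hq, e, t1, -, t2⟩ := h.exists_inv h2
  refine RK.solvable fun r hr r2 y hy y1 => ?_
  by_cases y2 : y = 1
  · rw [FGS.index_centralizer_eq_one_iff.2 (y2 ▸ one_mem _)]
    exact Nat.coprime_one_right _
  have e1 := two_dvd_of_real y1 y2 (Nat.coprime_two_right.1 (hy.cop hr Nat.prime_two r2))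
  exact (h.cop y1 (real_of_sq t1) (h.two_mem h2 y1 e1) hq e1 e).symm.coprime_dvd_left
    (S.card_eq_index_normalizer ▸ index_dvd_of_le t2)

theorem solv : Group.IsSolvable G := by
  by_cases e : 2 ∈ B
  · exact h.symm.solv' fun e' => Set.disjoint_left.1 h.disj e' e
  · exact h.solv' e

theorem not_max (ho : ∀ x : G, IsConj x x⁻¹ → ¬ 2 ∣ (cz x).index) (hx : IsConj x x⁻¹) (hp : p ∈ A)
    (e : p ∣ (cz x).index) : ∃ w : G, IsConj w w⁻¹ ∧ (cz x).index < (cz w).index := by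
  by_contra! hm
  obtain ⟨S⟩ := (inferInstance : Nonempty (Sylow 2 G))
  have := (S3861.result S).1 fun y y1 y2 y3 => ho y y3 (two_dvd_of_real y3 y1 y2)
  have := Sylow.unique_of_normal S this
  have k : ∀ y : G, IsConj y y⁻¹ → y * y = 1 ∧ y ∈ S ∧ (S : Subgroup G) ≤ cz y := fun y hy => by
    have y1 : y * y = 1 := pow_two y ▸ (S3863.result y hy).2.1
      (Nat.not_even_iff_odd.1 fun e' => ho y hy e'.two_dvd)
    obtain ⟨T, hT⟩ := FGS.exists_sylow_le_of_not_dvd_index (ho y hy)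
    obtain ⟨U, hU⟩ := (Inv.isPGroup_zpowers_of_mul_self y1).exists_le_sylow
    exact ⟨y1, Subsingleton.elim U S ▸ hU (mem_zpowers y), Subsingleton.elim T S ▸ hT⟩
  obtain ⟨q, hq⟩ := h.n2
  obtain ⟨q1, _, ⟨y, hy, rfl⟩, e1⟩ := h.sub q (Or.inr hq)
  obtain ⟨x1, x2, -⟩ := k x hx
  obtain ⟨y1, y2, y3⟩ := k y hy
  have h1 := (FGS.mem_clStab (h.cop hx hy hp hq e e1) (hm _ (real_of_sq (by
    rw [mul_assoc, ← mul_assoc y, ← mem_cz.1 (y3 x2), mul_assoc, y1, mul_one, x1])))).1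
  rw [FGS.index_centralizer_eq_one_iff.2 (mem_center_iff.2 fun g => ?_)] at e1
  · exact q1.one_lt.ne' (Nat.dvd_one.1 e1)
  · by_contra e2
    exact ho x hx (((pe_of_mem S.2 (mul_mem (‹(S : Subgroup G).Normal›.conj_mem y y2 g)
      (inv_mem y2))).dvd (mt commutatorElement_eq_one_iff_mul_comm.1 e2) (h1 g)).trans
      (FGS.card_clStab_dvd x))

theorem exists_even : ∃ n ∈ {n : ℕ | ∃ x : G, IsConj x x⁻¹ ∧ (cz x).index = n}, 2 ∣ n := by
  by_contra! e
  have ho : ∀ x : G, IsConj x x⁻¹ → ¬ 2 ∣ (cz x).index := fun x hx => e _ ⟨x, hx, rfl⟩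
  obtain ⟨x, hx, hm⟩ := Set.exists_max_image {x : G | IsConj x x⁻¹} (fun x => (cz x).index)
    (Set.toFinite _) ⟨1, by simp⟩
  obtain ⟨q, hq⟩ := h.n2
  obtain ⟨q1, _, ⟨y, hy, rfl⟩, e1⟩ := h.sub q (Or.inr hq)
  obtain ⟨p, hp, e2⟩ := Nat.exists_prime_and_dvd ((q1.one_lt.trans_le (Nat.le_of_dvd
    (Nat.pos_of_ne_zero index_ne_zero_of_finite) e1)).trans_le (hm y hy)).ne'
  rcases h.cover p hp ⟨_, ⟨x, hx, rfl⟩, e2⟩ with e3 | e3
  · obtain ⟨w, w1, w2⟩ := h.not_max ho hx e3 e2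
    exact w2.not_ge (hm w w1)
  · obtain ⟨w, w1, w2⟩ := h.symm.not_max ho hx e3 e2
    exact w2.not_ge (hm w w1)

theorem str' (h2 : 2 ∉ B) (hS : ¬ ∀ P : Sylow 2 G, (P : Subgroup G).Normal) {K : Subgroup G}
    (hK : K = closure {g : G | ∃ k : ℕ, orderOf g = 2 ^ k}) :
    (∃ A B, RD K A B) ∧ ∀ n ∈ {n : ℕ | ∃ x : K, IsConj x x⁻¹ ∧ (cz x).index = n},
      Odd n ∨ ∃ j : ℕ, n = 2 ^ j := by
  have := h.solv
  obtain ⟨q, t, S, hq, e, t1, t2, t3⟩ := h.exists_inv h2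
  have : K.Normal := hK ▸ ⟨fun n hn g => (mem_normalizer_iff.1 (norm_closure_inter
    (X := {g : G | PE 2 g}) (fun x hx g => hx.conj g) ⊤ (le_normalizer_of_normal (mem_top g))) n).1
      (by simpa [PE] using hn) |> fun e => by simpa [PE] using e⟩
  have k1 : ∀ T : Sylow 2 G, (T : Subgroup G) ≤ K := fun T g hg =>
    hK ▸ subset_closure (pe_of_mem T.2 hg)
  have k2 : ∀ p : ℕ, p.Prime → p ≠ 2 → p ∣ Nat.card K → p ∈ B := fun p hp p2 e1 => by
    have := Fact.mk hp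
    by_contra e2
    refine not_dvd_card_pPrimeCore hp (e1.trans (card_dvd_of_le (hK ▸ (closure_le _).2 fun g hg => ?_)))
    obtain ⟨a, ha⟩ := exists_conj_pe Nat.prime_two S.not_dvd_index hg
    simpa [mul_assoc] using (pPrimeCore_normal p G).conj_mem _ (sylow_le_pPrimeCore p2 S (fun e3 =>
      e2 (h.mem (real_of_sq t1) hq e hp (e3.trans (index_dvd_of_le t3)))) ha) a⁻¹
  have k3 : ∀ x : K, IsConj x x⁻¹ → 2 ∣ (cz x).index → ∀ p : ℕ, p.Prime → p ∣ (cz x).index →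
      p = 2 := fun x hx e1 p hp e2 => by
    by_contra e3
    have e4 := FGS.index_centralizer_normal_dvd K x
    exact h2 (h.mem (K.subtype.map_isConj hx) (k2 p hp e3 (e2.trans (index_dvd_card _)))
      (e2.trans e4) Nat.prime_two (e1.trans e4))
  refine ⟨⟨{2}, {p | p.Prime ∧ p ≠ 2 ∧ ∃ x : K, IsConj x x⁻¹ ∧ p ∣ (cz x).index},
    Set.singleton_nonempty 2, ?_, Set.disjoint_singleton_left.2 fun e => e.2.1 rfl, ?_, ?_, ?_⟩, ?_⟩
  · have t4 : t ∈ K := hK ▸ subset_closure (pe_of_pow Nat.prime_two (k := 1) (by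
      rw [pow_one, pow_two, t1]))
    obtain ⟨p, hp, e1⟩ := Nat.exists_prime_and_dvd (n := (cz (⟨t, t4⟩ : K)).index) fun e1 => by
      have h3 : K ≤ 𝐍 S := fun g hg => t3 (mem_cz.2 (congrArg Subtype.val
        (mem_center_iff.1 (FGS.index_centralizer_eq_one_iff.1 e1) ⟨g, hg⟩)))
      refine hS fun P => ?_
      have h4 : (S : Subgroup G).Normal := by
        rw [← normalizer_eq_top_iff, ← (isSylowOf_sylow_of_le S (k1 S)).frattini_top,
          sup_eq_right.2 h3]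
      have := Sylow.unique_of_normal S h4
      exact Subsingleton.elim S P ▸ h4
    refine ⟨p, hp, ?_, _, real_of_sq (Subtype.ext t1), e1⟩
    rintro rfl
    exact FGS.not_dvd_index_of_sylow_le S t2 (e1.trans (FGS.index_centralizer_normal_dvd K _))
  · rintro p (rfl | ⟨hp, -, x, hx, e1⟩)
    · push Not at hS
      obtain ⟨P, hP⟩ := hS
      obtain ⟨x, x1, x2, x3⟩ : ∃ x : G, x ≠ 1 ∧ Odd (orderOf x) ∧ IsConj x x⁻¹ := by
        by_contra! e'
        exact hP ((S3861.result P).1 e')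
      obtain ⟨x4, x5⟩ := (S3863.result x x3).2.2 K (Nat.not_even_iff_odd.1 fun e' =>
        FGS.not_dvd_index_of_sylow_le S (k1 S) e'.two_dvd)
      exact ⟨Nat.prime_two, _, ⟨_, x5, rfl⟩, two_dvd_of_real x5 (fun e' => x1 (congrArg Subtype.val e'))
        (by simpa using x2)⟩
    · exact ⟨hp, _, ⟨x, hx, rfl⟩, e1⟩
  · rintro p hp ⟨_, ⟨x, hx, rfl⟩, e1⟩
    exact or_iff_not_imp_left.2 fun e2 => ⟨hp, e2, x, hx, e1⟩
  · rintro _ rfl p hp _ ⟨x, hx, rfl⟩ ⟨e1, e2⟩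
    exact hp.2.1 (k3 x hx e1 p hp.1 e2)
  · rintro _ ⟨x, hx, rfl⟩
    exact (Nat.even_or_odd _).symm.imp_right fun e1 => ⟨_, Nat.eq_prime_pow_of_unique_prime_dvd
      index_ne_zero_of_finite fun {p} hp e2 => k3 x hx e1.two_dvd p hp e2⟩

theorem str (hS : ¬ ∀ P : Sylow 2 G, (P : Subgroup G).Normal) {K : Subgroup G}
    (hK : K = closure {g : G | ∃ k : ℕ, orderOf g = 2 ^ k}) :
    (∃ A B, RD K A B) ∧ ∀ n ∈ {n : ℕ | ∃ x : K, IsConj x x⁻¹ ∧ (cz x).index = n},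
      Odd n ∨ ∃ j : ℕ, n = 2 ^ j := by
  by_cases e : 2 ∈ B
  · exact h.symm.str' (fun e' => Set.disjoint_left.1 h.disj e' e) hS hK
  · exact h.str' e hS hK

end RD

end Cfsg.Agent.Part
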