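import Mathlib
import Cfsg.Agent.Core.Cores
import Cfsg.Agent.Core.MinNormal
import Cfsg.Agent.Core.SylowOf
import Cfsg.Agent.Block.Quat
import Cfsg.Agent.Classical.DihRecog
import Cfsg.Agent.S0493
import Cfsg.Agent.S0494
import Cfsg.Agent.S3378

/-!
# Extensions of `A₅` with an element outside the kernel whose centralizer has order four
-/

set_option autoImplicit false

namespace Cfsg.Agent.Part

open Cfsg Cfsg.Agent.Core Subgroup

theorem perfect_quot {G H : Type*} [Group G] [Group H] (f : G →* H) (hf : Function.Surjective f)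
    (h : commutator G = ⊤) : commutator H = ⊤ := by
  have := map_commutator_eq G f
  rw [h, ← MonoidHom.range_eq_map, MonoidHom.range_eq_top.mpr hf] at this
  exact this.symm

theorem not_cyclic_of_perfect {G : Type*} [Group G] [Nontrivial G] (h : commutator G = ⊤) :
    ¬ IsCyclic G := fun _ => by
  have : commutator G = ⊥ := (commutator_eq_bot_iff_center_eq_top G).mpr
    (eq_top_iff.mpr fun x _ => mem_center_iff.mpr fun y => IsCyclic.commGroup.mul_comm y x)
  exact bot_ne_top (this.symm.trans h)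

universe v in
theorem sixty_le_of_perfect (G : Type v) [Group G] [Finite G] :
    commutator G = ⊤ → Nontrivial G → 60 ≤ Nat.card G := by
  refine induction_on_card (P := fun G _ _ => commutator G = ⊤ → Nontrivial G → 60 ≤ Nat.card G)
    (fun G _ _ ih h hn => ?_) G
  by_cases hs : IsSimpleGroup G
  · by_contra hc
    have := S0493.result (not_cyclic_of_perfect h) (by omega)
    omega
  · obtain ⟨N, hN, h1, h2⟩ : ∃ N : Subgroup G, N.Normal ∧ N ≠ ⊥ ∧ N ≠ ⊤ := by
      by_contra hc
      push Not at hc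
      exact hs ⟨fun N hN => or_iff_not_imp_left.mpr (hc N hN)⟩
    have e := N.card_eq_card_quotient_mul_card_subgroup
    have h3 := (one_lt_card_iff_ne_bot N).mpr h1
    have h4 : 0 < Nat.card (G ⧸ N) := Nat.card_pos
    have := ih (G ⧸ N) (by nlinarith) (perfect_quot _ (QuotientGroup.mk'_surjective N) h)
      (QuotientGroup.nontrivial_iff.2 h2)
    nlinarith

theorem equiv_A5_of_perfect {G : Type*} [Group G] [Finite G] (h : commutator G = ⊤)
    (hc : Nat.card G = 60) : Nonempty (G ≃* alternatingGroup (Fin 5)) := by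
  have : Nontrivial G := Finite.one_lt_card_iff_nontrivial.mp (by omega)
  have : IsSimpleGroup G := ⟨fun N hN => or_iff_not_imp_right.mpr fun h2 => by
    have e := N.card_eq_card_quotient_mul_card_subgroup
    have := sixty_le_of_perfect (G ⧸ N) (perfect_quot _ (QuotientGroup.mk'_surjective N) h)
      (QuotientGroup.nontrivial_iff.2 h2)
    have h4 : 0 < Nat.card N := Nat.card_pos
    exact card_eq_one.mp (by nlinarith)⟩
  exact S0494.result hc

theorem a5_card_inv : Nat.card {a : alternatingGroup (Fin 5) | a ≠ 1 ∧ a * a = 1} = 15 := by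
  rw [Nat.card_eq_fintype_card]; decide +kernel

theorem a5_four : ∀ a : alternatingGroup (Fin 5), a ^ 4 = 1 → a * a = 1 := by decide +kernel

theorem a5_card : Nat.card (alternatingGroup (Fin 5)) = 60 := by
  rw [nat_card_alternatingGroup, Nat.card_eq_fintype_card, Fintype.card_fin]; rfl

/-- The configuration. -/
structure Z5 {G : Type*} [Group G] (φ : G →* alternatingGroup (Fin 5)) (u : G) : Prop where
  surj : Function.Surjective φ
  ne : φ u ≠ 1
  card : Nat.card (centralizer ({u} : Set G)) = 4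

theorem three_inv {G : Type*} [Group G] {x y d : G} (h1 : x * d * x⁻¹ = d⁻¹)
    (h2 : y * d * y⁻¹ = d⁻¹) (h3 : x * y * d * (x * y)⁻¹ = d⁻¹) : d * d = 1 := by
  have e : x * y * d * (x * y)⁻¹ = (x * (y * d * y⁻¹)⁻¹ * x⁻¹)⁻¹ := by group
  rw [e, h2, inv_inv, h1, inv_inv] at h3
  exact mul_eq_one_iff_eq_inv.mpr h3

namespace Z5

variable {G : Type*} [Group G] [Finite G] {φ : G →* alternatingGroup (Fin 5)} {u : G}
  (Z : Z5 φ u)
include Z

theorem pow_four : u ^ 4 = 1 := by
  have := pow_card_eq_one' (G := centralizer ({u} : Set G))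
    (x := ⟨u, mem_centralizer_singleton_iff.mpr rfl⟩)
  rw [Z.card] at this
  exact congrArg Subtype.val this

theorem card_eq : Nat.card G = 60 * Nat.card φ.ker := by
  rw [← φ.ker.card_mul_index, index_ker, MonoidHom.range_eq_top.mpr Z.surj, card_top, a5_card,
    mul_comm]

theorem isConj {x : G} (h1 : φ x ≠ 1) (h2 : φ x * φ x = 1) : IsConj u x := by
  have e := QuotientGroup.quotientKerEquivOfSurjective φ Z.surj
  let J : Set (alternatingGroup (Fin 5)) := {a | a ≠ 1 ∧ a * a = 1}
  have c1 : (φ ⁻¹' J).ncard = 15 * Nat.card φ.ker := by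
    have := QuotientGroup.card_preimage_mk φ.ker
      (QuotientGroup.quotientKerEquivOfSurjective φ Z.surj ⁻¹' J)
    rw [Nat.card_preimage_of_injective (MulEquiv.injective _) (by
      rw [(MulEquiv.surjective _).range_eq]; exact Set.subset_univ _), a5_card_inv,
      mul_comm] at this
    exact this
  have c2 : {x | IsConj u x}.ncard = 15 * Nat.card φ.ker := by
    have e1 : Nat.card {x : G // IsConj u x} = (centralizer ({u} : Set G)).index :=
      Char.card_isConj u
    have e2 := (centralizer ({u} : Set G)).card_mul_index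
    rw [Z.card, Z.card_eq, ← e1] at e2
    change Nat.card {x : G // IsConj u x} = _
    omega
  have hu : φ u * φ u = 1 := a5_four _ (by rw [← map_pow, Z.pow_four, map_one])
  have c3 : {x | IsConj u x} = φ ⁻¹' J := Set.eq_of_subset_of_ncard_le (fun x hx => by
    obtain ⟨c, rfl⟩ := isConj_iff.mp hx
    refine ⟨fun e => Z.ne ?_, ?_⟩
    · simpa using e
    · simp only [map_mul, map_inv, conj_mul, hu, mul_one, mul_inv_cancel]) (by rw [c1, c2])
  have : x ∈ φ ⁻¹' J := ⟨h1, h2⟩
  rwa [← c3] at this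

theorem of {x : G} (h1 : φ x ≠ 1) (h2 : φ x * φ x = 1) : Z5 φ x :=
  ⟨Z.surj, h1, (Char.card_centralizer_eq_of_isConj (Z.isConj h1 h2)).symm.trans Z.card⟩

theorem order {x : G} (h1 : φ x ≠ 1) (h2 : φ x * φ x = 1) : orderOf x = orderOf u := by
  obtain ⟨c, rfl⟩ := isConj_iff.mp (Z.isConj h1 h2)
  exact (MulAut.conj c).orderOf_eq u

omit Z in
theorem sq_of_mem (S : Sylow 2 G) {s : G} (hs : s ∈ (S : Subgroup G)) : φ s * φ s = 1 := by
  obtain ⟨k, hk⟩ := S.isPGroup' ⟨s, hs⟩
  have h1 : φ s ^ 2 ^ k = 1 := by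
    rw [← map_pow, show s ^ 2 ^ k = 1 from congrArg Subtype.val hk, map_one]
  have h2 : orderOf (φ s) ∣ 60 := a5_card ▸ orderOf_dvd_natCard _
  obtain ⟨j, -, hj⟩ := (Nat.dvd_prime_pow Nat.prime_two).mp (orderOf_dvd_of_pow_eq_one h1)
  refine a5_four _ (orderOf_dvd_iff_pow_eq_one.mp ?_)
  rw [hj] at h2 ⊢
  exact (Nat.Coprime.pow_left j (by norm_num : Nat.Coprime 2 15)).dvd_of_dvd_mul_right h2

theorem card_map (S : Sylow 2 G) : Nat.card ((S : Subgroup G).map φ) = 4 := by
  have := (S.mapSurjective Z.surj).card_eq_multiplicity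
  rw [a5_card, show (60 : ℕ) = 2 ^ 2 * 15 from rfl, Nat.factorization_mul (by norm_num)
    (by norm_num), Nat.Prime.factorization_pow Nat.prime_two] at this
  simpa [Nat.factorization_eq_zero_of_not_dvd (show ¬ 2 ∣ 15 by norm_num)] using this

theorem exists_xy (S : Sylow 2 G) : ∃ x ∈ (S : Subgroup G), ∃ y ∈ (S : Subgroup G),
    φ x ≠ 1 ∧ φ y ≠ 1 ∧ φ x ≠ φ y ∧ φ (x * y) ≠ 1 := by
  have := Fintype.ofFinite ((S : Subgroup G).map φ)
  have h := Z.card_map S
  rw [Nat.card_eq_fintype_card] at h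
  obtain ⟨a, ha⟩ := Fintype.exists_ne_of_one_lt_card (by omega) (1 : (S : Subgroup G).map φ)
  obtain ⟨b, hb⟩ : ∃ b : (S : Subgroup G).map φ, b ≠ 1 ∧ b ≠ a := by
    classical
    by_contra hc
    push Not at hc
    have := Finset.card_le_card (s := Finset.univ) (t := {1, a}) fun b _ => by
      by_cases e : b = 1
      · simp [e]
      · simp [hc b e]
    have := Finset.card_le_two (a := 1) (b := a)
    rw [Finset.card_univ] at *
    omega
  obtain ⟨a, x, hx, rfl⟩ := a
  obtain ⟨b, y, hy, rfl⟩ := b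
  have n : φ x ≠ φ y := fun e => hb.2 (Subtype.ext e.symm)
  refine ⟨x, hx, y, hy, fun e => ha (Subtype.ext e), fun e => hb.1 (Subtype.ext e), n,
    fun e => n ?_⟩
  rw [map_mul, ← sq_of_mem (φ := φ) S hx] at e
  exact (mul_left_cancel e).symm

theorem core_le : pPrimeCore 2 G ≤ φ.ker := by
  have hN : ((pPrimeCore 2 G).map φ).Normal := Normal.map inferInstance φ Z.surj
  rcases hN.eq_bot_or_eq_top with e | e
  · exact (Subgroup.map_eq_bot_iff _).mp e
  · have := Subgroup.card_map_dvd (pPrimeCore 2 G) φ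
    rw [e, card_top, a5_card] at this
    exact absurd (dvd_trans (by norm_num) this) (not_dvd_card_pPrimeCore Nat.prime_two)

theorem order_cases : orderOf u = 2 ∨ orderOf u = 4 := by
  have h := orderOf_dvd_of_pow_eq_one Z.pow_four
  have h1 : orderOf u ≠ 1 := fun e => Z.ne (by rw [orderOf_eq_one_iff.mp e, map_one])
  have := Nat.le_of_dvd (by norm_num) h
  interval_cases orderOf u <;> simp_all

theorem ker_eq_bot (h : orderOf u = 2) : φ.ker = ⊥ := by
  classical
  obtain ⟨S⟩ : Nonempty (Sylow 2 G) := inferInstance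
  obtain ⟨x, hx, y, hy, a1, a2, a3, a4⟩ := Z.exists_xy S
  have sq : ∀ w, φ w ≠ 1 → φ w * φ w = 1 → w * w = 1 := fun w b c => by
    rw [← pow_two, ← h, ← Z.order b c, pow_orderOf_eq_one]
  refine eq_bot_iff.mpr fun k hk => by_contra fun hk1 => ?_
  have hk' : φ k = 1 := hk
  have inv : ∀ w ∈ (S : Subgroup G), φ w ≠ 1 → w * k * w⁻¹ = k⁻¹ := fun w b c => by
    have e1 := sq w c (sq_of_mem S b)
    have e2 := sq (w * k) (by simpa [hk'] using c) (by simpa [hk'] using sq_of_mem S b)
    rw [← mul_eq_one_iff_eq_inv.mp e1, ← mul_eq_one_iff_eq_inv, ← e2]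
    group
  have k2 := three_inv (inv x hx a1) (inv y hy a2) (inv _ (mul_mem hx hy) a4)
  have x2 := sq x a1 (sq_of_mem S hx)
  have y2 := sq y a2 (sq_of_mem S hy)
  have xy := sq _ a4 (sq_of_mem S (mul_mem hx hy))
  have c1 : y * x = x * y := by
    rw [mul_eq_one_iff_eq_inv.mp xy, mul_inv_rev, ← mul_eq_one_iff_eq_inv.mp x2,
      ← mul_eq_one_iff_eq_inv.mp y2]
  have c2 : k * x = x * k := by
    have := inv x hx a1
    rw [← mul_eq_one_iff_eq_inv.mp k2, mul_inv_eq_iff_eq_mul] at this
    exact this.symm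
  have hc := (Z.of a1 (sq_of_mem S hx)).card
  have hle : ({1, x, y, x * y, k} : Finset G).card ≤ 4 := by
    rw [← hc, ← Set.ncard_coe_finset]
    refine Set.ncard_le_ncard (s := _) (t := (centralizer ({x} : Set G) : Set G)) fun w hw => ?_
    simp only [Finset.coe_insert, Finset.coe_singleton, Set.mem_insert_iff,
      Set.mem_singleton_iff] at hw
    rw [SetLike.mem_coe, mem_centralizer_singleton_iff]
    rcases hw with rfl | rfl | rfl | rfl | rfl
    · simp
    · rfl
    · exact c1
    · rw [mul_assoc, c1]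
    · exact c2
  have ne : ∀ a b : G, φ a ≠ φ b → a ≠ b := fun a b e i => e (by rw [i])
  have n1 : (1 : G) ≠ x := ne _ _ (by simpa using a1.symm)
  have n2 : (1 : G) ≠ y := ne _ _ (by simpa using a2.symm)
  have n3 : (1 : G) ≠ x * y := ne _ _ (by simpa using a4.symm)
  have n4 : (1 : G) ≠ k := fun e => hk1 (e ▸ one_mem _)
  have n5 : x ≠ y := ne _ _ a3
  have n6 : x ≠ x * y := fun e => n2 (by simpa [eq_comm] using e)
  have n7 : x ≠ k := ne _ _ (hk' ▸ a1)
  have n8 : y ≠ x * y := fun e => n1 (by simpa [eq_comm] using e)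
  have n9 : y ≠ k := ne _ _ (hk' ▸ a2)
  have n10 : x * y ≠ k := ne _ _ (hk' ▸ a4)
  rw [Finset.card_insert_of_notMem (by simp only [Finset.mem_insert, Finset.mem_singleton]; tauto),
    Finset.card_insert_of_notMem (by simp only [Finset.mem_insert, Finset.mem_singleton]; tauto),
    Finset.card_insert_of_notMem (by simp only [Finset.mem_insert, Finset.mem_singleton]; tauto),
    Finset.card_pair n10] at hle
  omega

theorem cent_cases (h : orderOf u = 4) {w : G} (hw : w * u = u * w) :
    ((w = 1 ∨ w = u * u) ∧ φ w = 1) ∨ φ w = φ u := by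
  have e : zpowers u = centralizer {u} := eq_of_le_of_card_ge
    (zpowers_le_of_mem (mem_centralizer_singleton_iff.mpr rfl))
    (by rw [Z.card, Nat.card_zpowers, h])
  have hu : φ u * φ u = 1 := a5_four _ (by rw [← map_pow, Z.pow_four, map_one])
  have : w ∈ zpowers u := e ▸ mem_centralizer_singleton_iff.mpr hw
  classical
  rw [mem_zpowers_iff_mem_range_orderOf, h] at this
  obtain ⟨i, hi, rfl⟩ := Finset.mem_image.mp this
  rw [Finset.mem_range] at hi
  interval_cases i
  · simp
  · simp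
  · simp [pow_two, hu]
  · simp [pow_succ, hu]

/-- In the case of order four the squares of the elements of a Sylow subgroup agree. -/
theorem exists_z (h : orderOf u = 4) (S : Sylow 2 G) : ∃ z ∈ (S : Subgroup G), z ≠ 1 ∧
    z * z = 1 ∧ φ z = 1 ∧ (∀ s ∈ (S : Subgroup G), φ s ≠ 1 → s * s = z) ∧
    ∀ t ∈ (S : Subgroup G), φ t = 1 → t = 1 ∨ t = z := by
  obtain ⟨x, hx, y, hy, a1, a2, a3, a4⟩ := Z.exists_xy S
  have : Nontrivial S := ⟨⟨⟨x, hx⟩, 1, fun e => a1 (by
    rw [show x = 1 from congrArg Subtype.val e, map_one])⟩⟩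
  obtain ⟨⟨⟨z, hz⟩, hc⟩, hz1⟩ := @exists_ne _ (S.isPGroup'.center_nontrivial) 1
  have z1 : z ≠ 1 := fun e => hz1 (Subtype.ext (Subtype.ext e))
  have zc : ∀ s ∈ (S : Subgroup G), z * s = s * z := fun s hs =>
    (congrArg Subtype.val (mem_center_iff.mp hc ⟨s, hs⟩)).symm
  have cc : ∀ s ∈ (S : Subgroup G), φ s ≠ 1 → ∀ w, w * s = s * w →
      ((w = 1 ∨ w = s * s) ∧ φ w = 1) ∨ φ w = φ s := fun s hs b w hw =>
    (Z.of b (sq_of_mem S hs)).cent_cases ((Z.order b (sq_of_mem S hs)).trans h) hw
  have zk : φ z = 1 := by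
    rcases cc x hx a1 z (zc x hx) with e | e
    · exact e.2
    · rcases cc y hy a2 z (zc y hy) with e' | e'
      · exact e'.2
      · exact absurd (e.symm.trans e') a3
  have sq : ∀ s ∈ (S : Subgroup G), φ s ≠ 1 → s * s = z := fun s hs b => by
    rcases cc s hs b z (zc s hs) with ⟨e | e, -⟩ | e
    · exact absurd e z1
    · exact e.symm
    · exact absurd (e.symm.trans zk) b
  refine ⟨z, hz, z1, ?_, zk, sq, fun t ht hk => ?_⟩
  · rw [← sq x hx a1, ← (Z.of a1 (sq_of_mem S hx)).pow_four]; simp [pow_succ, mul_assoc]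
  have inv : ∀ w ∈ (S : Subgroup G), φ w ≠ 1 → w * t * w⁻¹ = t⁻¹ := fun w b c => by
    have e1 := sq w b c
    have e2 := sq (t * w) (mul_mem ht b) (by simpa [hk] using c)
    rw [← e1, ← mul_assoc, mul_left_inj] at e2
    rw [eq_inv_iff_mul_eq_one, mul_eq_one_comm]
    calc t * (w * t * w⁻¹) = t * w * t * w⁻¹ := by group
      _ = 1 := by rw [e2, mul_inv_cancel]
  have k2 := three_inv (inv x hx a1) (inv y hy a2) (inv _ (mul_mem hx hy) a4)
  have c2 : t * x = x * t := by
    have := inv x hx a1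
    rw [← mul_eq_one_iff_eq_inv.mp k2, mul_inv_eq_iff_eq_mul] at this
    exact this.symm
  rcases cc x hx a1 t c2 with ⟨e, -⟩ | e
  · rwa [sq x hx a1] at e
  · exact absurd (e.symm.trans hk) a1

theorem core_comm (h : orderOf u = 4) : IsMulCommutative (pPrimeCore 2 G) := by
  obtain ⟨S⟩ : Nonempty (Sylow 2 G) := inferInstance
  obtain ⟨x, hx, y, hy, a1, a2, a3, a4⟩ := Z.exists_xy S
  obtain ⟨z, hz, z1, z2, zk, sq, -⟩ := Z.exists_z h S
  have odd : ∀ d ∈ pPrimeCore 2 G, d * d = 1 → d = 1 := fun d hd e => by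
    by_contra hn
    have := orderOf_dvd_natCard (G := pPrimeCore 2 G) ⟨d, hd⟩
    rw [orderOf_mk, orderOf_eq_prime (p := 2) (by rw [pow_two, e]) hn] at this
    exact not_dvd_card_pPrimeCore Nat.prime_two this
  have hN : (pPrimeCore 2 G).Normal := inferInstance
  have fpf : MonoidHom.FixedPointFree (MulAut.conjNormal z : MulAut (pPrimeCore 2 G)) := by
    rintro ⟨d, hd⟩ e
    have e1 : z * d = d * z := by
      have := congrArg Subtype.val e
      rwa [MulAut.conjNormal_apply, mul_inv_eq_iff_eq_mul] at this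
    have hk : φ d = 1 := Z.core_le hd
    have inv : ∀ w ∈ (S : Subgroup G), φ w ≠ 1 → w * d * w⁻¹ = d⁻¹ := fun w b c => by
      have e2 := sq w b c
      have e3 := (Z.of (x := d * w) (by simpa [hk] using c)
        (by simpa [hk] using sq_of_mem S b)).pow_four
      have c1 : Commute z d := e1
      have c2 : Commute z w := by rw [← e2]; exact (Commute.refl w).mul_left (Commute.refl w)
      have c3 : Commute z (d * (w * d * w⁻¹)) := c1.mul_right ((c2.mul_right c1).mul_right c2.inv_right)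
      have e4 : (d * w) ^ 4 = (d * (w * d * w⁻¹) * z) * (d * (w * d * w⁻¹) * z) := by
        rw [← e2]; simp [pow_succ, mul_assoc]
      rw [e4, mul_assoc, ← mul_assoc z, c3.eq, mul_assoc _ z z, z2, mul_one] at e3
      have := odd _ (mul_mem hd (hN.conj_mem d hd w)) e3
      rwa [mul_eq_one_comm, mul_eq_one_iff_eq_inv] at this
    exact Subtype.ext (odd d hd (three_inv (inv x hx a1) (inv y hy a2) (inv _ (mul_mem hx hy) a4)))
  refine ⟨⟨fpf.commute_all_of_involutive fun d => ?_⟩⟩
  rw [← MulAut.mul_apply, ← map_mul, z2, map_one, MulAut.one_apply]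

theorem equiv_sl (h : orderOf u = 4) (hO : pPrimeCore 2 G = ⊥) :
    Nonempty (G ≃* Matrix.SpecialLinearGroup (Fin 2) (ZMod 5)) := by
  have hT : ∀ S : Sylow 2 G, Nat.card ↥((S : Subgroup G) ⊓ φ.ker) = 2 := fun S => by
    obtain ⟨z, hz, z1, -, zk, -, ht⟩ := Z.exists_z h S
    rw [Nat.card_eq_two_iff' 1]
    refine ⟨⟨z, hz, zk⟩, fun e => z1 (congrArg Subtype.val e), fun t e => Subtype.ext ?_⟩
    exact (ht _ t.2.1 t.2.2).resolve_left fun i => e (Subtype.ext i)
  obtain ⟨S⟩ : Nonempty (Sylow 2 G) := inferInstance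
  have hK : Nat.card φ.ker = 2 := by
    have hs := isSylowOf_sylow_inf_normal S φ.ker
    have c1 : Nat.card hs.toSylow = 2 := by
      have := hT S
      rwa [← hs.map_toSylow, card_map_of_injective (subtype_injective _)] at this
    obtain ⟨P, N, hN, hc⟩ := Block.hasNormalPComplement_two_of_isCyclic hs.toSylow
      (isCyclic_of_prime_card c1)
    have c2 : Nat.card P = 2 :=
      (P.card_eq_multiplicity.trans hs.toSylow.card_eq_multiplicity.symm).trans c1
    have c3 : N ≤ pPrimeCore 2 φ.ker := le_pPrimeCore hN (by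
      rw [← hc.index_eq_card]
      exact ((Nat.Prime.coprime_iff_not_dvd Nat.prime_two).mpr P.not_dvd_index).symm)
    rw [pPrimeCore_eq_subgroupOf, hO, bot_subgroupOf, le_bot_iff] at c3
    rw [← hc.card_mul, c3, card_bot, c2]
  have hG : Nat.card G = 120 := by rw [Z.card_eq, hK]
  refine S3378.result.1 G hG (fun hs => ?_) fun P => ?_
  · have := Group.isSolvable_of_surjective Z.surj
    have := IsSimpleGroup.comm_iff_isSolvable (G := alternatingGroup (Fin 5)).mpr this
    revert this
    decide +kernel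
  · obtain ⟨x, hx, y, hy, a1, a2, a3, a4⟩ := Z.exists_xy P
    obtain ⟨z, hz, z1, z2, zk, sq, ht⟩ := Z.exists_z h P
    have c8 : Nat.card P = 8 := by
      rw [P.card_eq_multiplicity, hG, show (120 : ℕ) = 2 ^ 3 * 15 from rfl,
        Nat.factorization_mul (by norm_num) (by norm_num),
        Nat.Prime.factorization_pow Nat.prime_two]
      simp [Nat.factorization_eq_zero_of_not_dvd (show ¬ 2 ∣ 15 by norm_num)]
    have o4 : orderOf (⟨x, hx⟩ : P) = 2 * 2 := by
      rw [orderOf_mk, Z.order a1 (sq_of_mem P hx), h]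
    refine Classical.DihRecog.equiv_quaternion_of_index_two o4 ?_ fun g hg => Subtype.ext ?_
    · have := (zpowers (⟨x, hx⟩ : P)).card_mul_index
      rw [Nat.card_zpowers, o4] at this
      have := this.trans c8
      omega
    · change g.1 * g.1 = x ^ 2
      rw [pow_two, sq x hx a1]
      refine sq _ g.2 fun e => hg ?_
      rcases ht _ g.2 e with i | i
      · rw [show g = 1 from Subtype.ext i]; exact one_mem _
      · rw [show g = ⟨x, hx⟩ * ⟨x, hx⟩ from Subtype.ext (i.trans (sq x hx a1).symm)]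
        exact mul_mem (mem_zpowers _) (mem_zpowers _)

end Z5

end Cfsg.Agent.Part
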