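import Mathlib
import Cfsg.Agent.Part.Zh2
import Cfsg.Agent.Part.Zh3
import Cfsg.Agent.Classical.PSL2Basic

set_option autoImplicit false

namespace Cfsg.Agent.Part

open Cfsg Cfsg.Agent.Core Cfsg.Agent.Char Subgroup

theorem ZH.exists_Z5 {G : Type*} [Group G] [Finite G] {u : G} (H : ZH u) (hu : u ≠ 1) :
    ∃ φ : G →* alternatingGroup (Fin 5), Z5 φ u := by
  have := Fintype.ofFinite G
  obtain ⟨h1, h2, K, hK, h3, h4⟩ := H.main hu
  obtain ⟨e⟩ := equiv_A5_of_perfect (perfect_quot _ (QuotientGroup.mk'_surjective K) h1) h3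
  refine ⟨e.toMonoidHom.comp (QuotientGroup.mk' K), e.surjective.comp
    (QuotientGroup.mk'_surjective K), fun i => h4 ?_, h2⟩
  simpa using i

theorem ZH.quot {G : Type*} [Group G] [Finite G] {u : G} (H : ZH u) (N : Subgroup G) [N.Normal] :
    ZH (u : G ⧸ N) := fun χ h1 h2 =>
  H _ (isIrr_inflate N h1) fun e => h2 (funext fun q => by
    obtain ⟨g, rfl⟩ := QuotientGroup.mk_surjective q
    exact congrFun e g)

theorem ZH.final {G : Type*} [Group G] [Finite G] {u : G} (H : ZH u) (hu : u ≠ 1) :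
    IsMulCommutative (pPrimeCore 2 G) ∧
    ((Nonempty (G ⧸ pPrimeCore 2 G ≃* Matrix.ProjectiveSpecialLinearGroup (Fin 2) (ZMod 5)) ∧
      orderOf u = 2) ∨
    (Nonempty (G ⧸ pPrimeCore 2 G ≃* Matrix.SpecialLinearGroup (Fin 2) (ZMod 5)) ∧
      orderOf u = 4)) := by
  obtain ⟨φ, Z⟩ := H.exists_Z5 hu
  rcases Z.order_cases with h | h
  · have hk := Z.ker_eq_bot h
    have hO : pPrimeCore 2 G = ⊥ := le_bot_iff.mp (hk ▸ Z.core_le)
    have : Fact (Nat.Prime 5) := ⟨by norm_num⟩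
    obtain ⟨e⟩ := Classical.PSL2Basic.psl_equiv_A5 (F := ZMod 5) (Or.inr (by simp))
    refine ⟨by rw [hO]; infer_instance, Or.inl ⟨⟨(((QuotientGroup.quotientMulEquivOfEq hO).trans
      QuotientGroup.quotientBot).trans (MulEquiv.ofBijective φ
        ⟨(MonoidHom.ker_eq_bot_iff φ).mp hk, Z.surj⟩)).trans e.symm⟩, h⟩⟩
  · refine ⟨Z.core_comm h, Or.inr ⟨?_, h⟩⟩
    obtain ⟨ψ, Y⟩ := (H.quot (pPrimeCore 2 G)).exists_Z5 fun e =>
      Z.ne (Z.core_le ((QuotientGroup.eq_one_iff u).mp e))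
    refine Y.equiv_sl (Y.order_cases.resolve_left fun e => ?_) (pPrimeCore_quotient_pPrimeCore 2)
    have e1 : u ^ 2 ∈ pPrimeCore 2 G := (QuotientGroup.eq_one_iff _).mp (by
      rw [QuotientGroup.mk_pow]
      exact orderOf_dvd_iff_pow_eq_one.mp e.dvd)
    have := orderOf_dvd_natCard (G := pPrimeCore 2 G) ⟨_, e1⟩
    rw [orderOf_mk, orderOf_pow' u (by norm_num), h] at this
    exact not_dvd_card_pPrimeCore Nat.prime_two this

end Cfsg.Agent.Part
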